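import Mathlib
import Cfsg.Agent.GH.Defs
import Cfsg.Agent.GH.TriA

/-! Two lemmas on elementary abelian groups of order 16. See `stubs/Cfsg/Agent/GH/PLAN.md`. -/

set_option autoImplicit false
set_option linter.unusedSectionVars false

namespace Cfsg.Agent.GH

open Cfsg.Agent.Inv.Fz Cfsg.Agent.NE Subgroup
open scoped commutatorElement

variable {G : Type*} [Group G] [Finite G] {S P R K L N T V A B U : Subgroup G} {x s g b : G} {n : ℕ}

theorem norm_of_comm (h : ∀ y ∈ B, ∀ a ∈ A, ⁅y, a⁆ ∈ A) : B ≤ normalizer (A : Set G) := fun y hy =>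
  mem_normalizer_of_conj_mem fun a ha => by simpa [commutatorElement_def] using mul_mem (h y hy a ha) ha

theorem idx_le {M : Subgroup G} (f : G → G) (hf : ∀ k ∈ K, f k ∈ M)
    (h : ∀ k ∈ K, ∀ k' ∈ K, (f k)⁻¹ * f k' ∈ L → k⁻¹ * k' ∈ N) : N.relIndex K ≤ L.relIndex M := by
  refine Nat.card_le_card_of_injective (fun q : K ⧸ N.subgroupOf K =>
    (((⟨f q.out, hf _ q.out.2⟩ : M) : M ⧸ L.subgroupOf M))) fun q q' e => ?_
  rw [← q.out_eq', ← q'.out_eq']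
  have e' := mem_subgroupOf.1 (QuotientGroup.eq.1 e)
  exact QuotientGroup.eq.2 (h _ q.out.2 _ q'.out.2 e')

/-- The elements of `K` fixed by `x` modulo `L`. -/
theorem exists_fx (x : G) (h : K ≤ normalizer (L : Set G)) : ∃ F : Subgroup G, ∀ k, k ∈ F ↔ k ∈ K ∧ ⁅x, k⁆ ∈ L :=
  ⟨{ carrier := {k | k ∈ K ∧ ⁅x, k⁆ ∈ L}
     one_mem' := ⟨one_mem _, by simp⟩
     mul_mem' := fun {a b} ha hb => ⟨mul_mem ha.1 hb.1, by
       rw [commutatorElement_mul_right_eq_mul_conj, mul_assoc, mul_assoc, ← mul_assoc a]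
       exact mul_mem ha.2 ((conj_mem_norm (h ha.1)).2 hb.2)⟩
     inv_mem' := fun {a} ha => ⟨inv_mem ha.1, by
       rw [show ⁅x, a⁻¹⁆ = a⁻¹ * ⁅x, a⁆⁻¹ * a⁻¹⁻¹ by simp only [commutatorElement_def]; group]
       exact (conj_mem_norm (inv_mem (h ha.1))).2 (inv_mem ha.2)⟩ }, fun _ => Iff.rfl⟩

theorem comm_iff (h : K ≤ normalizer (L : Set G)) {k k' : G} (hk : k ∈ K) :
    ⁅x, k⁆⁻¹ * ⁅x, k'⁆ ∈ L ↔ ⁅x, k⁻¹ * k'⁆ ∈ L := by
  rw [← conj_mem_norm (x := ⁅x, k⁻¹ * k'⁆) (h hk),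
    show k * ⁅x, k⁻¹ * k'⁆ * k⁻¹ = ⁅x, k⁆⁻¹ * ⁅x, k'⁆ by simp only [commutatorElement_def]; group]

/-- The map onto an elementary abelian section. -/
theorem exists_ab.{u} {G : Type u} [Group G] [Finite G] {K L : Subgroup G} (hL : L ≤ K) (h : ∀ y ∈ K, y * y ∈ L) :
    ∃ (Q : Type u) (_ : CommGroup Q) (π : G → Q),
    (∀ x ∈ K, ∀ y ∈ K, π (x * y) = π x * π y) ∧ ∀ x ∈ K, ∀ y ∈ K, π x = π y ↔ x⁻¹ * y ∈ L := by
  classical
  have c : ∀ a ∈ K, ∀ b ∈ K, ⁅a, b⁆ ∈ L := fun a ha b hb => phi_le_iff.2 h (comm_mem_phi ha hb)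
  have : (L.subgroupOf K).Normal := ⟨fun n hn s =>
    (conj_mem_norm (norm_of_comm (fun y hy a ha => c y hy a (hL ha)) s.2)).2 hn⟩
  refine ⟨K ⧸ L.subgroupOf K, { (inferInstance : Group (K ⧸ L.subgroupOf K)) with mul_comm := fun a b => ?_ },
    fun x => if h : x ∈ K then ((⟨x, h⟩ : K) : K ⧸ L.subgroupOf K) else 1, fun x hx y hy => ?_, fun x hx y hy => ?_⟩
  · obtain ⟨a, rfl⟩ := QuotientGroup.mk_surjective a
    obtain ⟨b, rfl⟩ := QuotientGroup.mk_surjective b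
    exact QuotientGroup.eq.2 (by
      simpa [mem_subgroupOf, commutatorElement_def, mul_assoc] using c _ (inv_mem b.2) _ (inv_mem a.2))
  · simp only [dif_pos hx, dif_pos hy, dif_pos (mul_mem hx hy)]; rfl
  · simp only [dif_pos hx, dif_pos hy]; exact QuotientGroup.eq

theorem ff0 {t : G} (h4 : Rk 16 P) (hB : B ≤ P) (ht : t ∈ P) (hL : L ≤ A) (hA : A ≤ B)
    (cA : Nat.card A = 16 * Nat.card L) (cB : Nat.card B = 16 * Nat.card A) (sA : ∀ a ∈ A, a * a ∈ L)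
    (sB : ∀ y ∈ B, y * y ∈ A) (hc : ∀ y ∈ B, ∀ a ∈ A, ⁅y, a⁆ ∈ L) (nL : t ∈ normalizer (L : Set G))
    (nA : t ∈ normalizer (A : Set G)) (nB : t ∈ normalizer (B : Set G)) (t2 : t * t ∈ A)
    (fA : ∀ a ∈ A, ⁅t, a⁆ ∈ L → ∃ u ∈ A, a⁻¹ * ⁅t, u⁆ ∈ L) : False := by
  have bL : B ≤ normalizer (L : Set G) := norm_of_comm fun y hy a ha => hc y hy a (hL ha)
  have bA : B ≤ normalizer (A : Set G) := norm_of_comm fun y hy a ha => hL (hc y hy a ha)
  obtain ⟨A1, a1⟩ := exists_fx t (hA.trans bL)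
  obtain ⟨B1, b1⟩ := exists_fx t bA
  have cm : ∀ {X : Subgroup G} {y}, t ∈ normalizer (X : Set G) → y ∈ X → ⁅t, y⁆ ∈ X := fun n hy =>
    mul_mem ((conj_mem_norm n).2 hy) (inv_mem hy)
  have l1 : A1 ≤ A := fun a ha => ((a1 a).1 ha).1
  have l2 : A ≤ B1 := fun a ha => (b1 a).2 ⟨hA ha, cm nA ha⟩
  have l3 : B1 ≤ B := fun a ha => ((b1 a).1 ha).1
  choose! u u1 u2 using fA
  have i1 : L.relIndex A1 ≤ A1.relIndex A := idx_le u (fun k hk => u1 k (l1 hk) ((a1 k).1 hk).2)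
    fun k hk k' hk' e => by
      have e1 := u2 k (l1 hk) ((a1 k).1 hk).2
      have e2 := (comm_iff (hA.trans bL) (u1 k (l1 hk) ((a1 k).1 hk).2)).2 ((a1 _).1 e).2
      have e3 := mul_mem (mul_mem e1 e2) (inv_mem (u2 k' (l1 hk') ((a1 k').1 hk').2))
      rwa [show ∀ a b : G, k⁻¹ * a * (a⁻¹ * b) * (k'⁻¹ * b)⁻¹ = k⁻¹ * k' from fun a b => by group] at e3
  have i2 : B1.relIndex B ≤ A.relIndex B1 := idx_le (fun y => ⁅t, y⁆) (fun y hy => (b1 _).2 ⟨cm nB hy, by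
      rw [show ⁅t, ⁅t, y⁆⁆ = ⁅y, t * t⁆⁻¹ * (y * (t * y * t⁻¹)⁻¹ * (y * (t * y * t⁻¹)⁻¹)) by
        simp [commutatorElement_def, mul_assoc]]
      exact mul_mem (inv_mem (hL (hc y hy _ t2))) (sB _ (mul_mem hy (inv_mem ((conj_mem_norm nB).2 hy))))⟩)
    fun k hk k' hk' e => (b1 _).2 ⟨mul_mem (inv_mem hk) hk', (comm_iff bA hk).1 e⟩
  have nt : t ∈ normalizer (B1 : Set G) := mem_normalizer_of_conj_mem fun y hy => by
    simpa [commutatorElement_def] using mul_mem (l2 ((b1 y).1 hy).2) hy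
  have pL := Nat.card_pos (α := L)
  have tB : t ∉ B1 := fun l => by
    have := card_le_of_le (fun a ha => by
      have e := hc t (l3 l) a ha
      simpa using (mul_mem_cancel_right (hc t (l3 l) _ (u1 a ha e))).1 (u2 a ha e) : A ≤ L)
    omega
  have r := h4 A1 (ext B1 t) (l1.trans (l2.trans (le_ext _ _))) (ext_le.2 ⟨l3.trans hB, ht⟩) fun y hy => by
    rcases (mem_ext nt (l2 t2)).1 hy with l | l
    · have e := ((b1 y).1 l).2
      refine (a1 _).2 ⟨sB y (l3 l), ?_⟩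
      rw [show ⁅t, y * y⁆ = ⁅t, y⁆ * ⁅y, ⁅t, y⁆⁆ * ⁅t, y⁆⁻¹ * (⁅t, y⁆ * ⁅t, y⁆) by
        simp only [commutatorElement_def]; group]
      exact mul_mem ((conj_mem_norm (bL (hA e))).2 (hc y (l3 l) _ e)) (sA _ e)
    · have e : y * y ∈ A := by
        rw [show y * y = (t * t)⁻¹ * ⁅t, t * y⁆ * (t * y * (t * y)) by simp only [commutatorElement_def]; group]
        exact mul_mem (mul_mem (inv_mem t2) ((b1 _).1 l).2) (sB _ (l3 l))
      refine (a1 _).2 ⟨e, ?_⟩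
      rw [show ⁅t, y * y⁆ = ⁅t * y, y * y⁆ by simp only [commutatorElement_def]; group]
      exact hc _ (l3 l) _ e
  rw [card_ext nt (l2 t2) tB] at r
  have l0 : L ≤ A1 := fun a ha => (a1 a).2 ⟨hL ha, cm nL ha⟩
  have c0 := card_mul_relIndex l0
  have c1 := card_mul_relIndex l1
  have c2 := card_mul_relIndex l2
  have c3 := card_mul_relIndex l3
  have p1 := Nat.card_pos (α := A1)
  generalize L.relIndex A1 = a, A1.relIndex A = b, A.relIndex B1 = c, B1.relIndex B = d at *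
  have e1 : a * b = 16 := Nat.eq_of_mul_eq_mul_left pL (by rw [← mul_assoc, c0, c1, cA, mul_comm])
  have e2 : c * d = 16 := Nat.eq_of_mul_eq_mul_left (Nat.card_pos (α := A)) (by
    rw [← mul_assoc, c2, c3, cB, mul_comm])
  have e3 : 4 ≤ b := by nlinarith
  have e4 : 4 ≤ c := by nlinarith
  rw [← c2, ← c1] at r
  nlinarith [Nat.mul_le_mul e3 e4]

/-- Free over free: `A / L` central and `B / A` of order 16, with an involution acting freely on both. -/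
theorem ff {t : G} (h4 : Rk 16 P) (hB : B ≤ P) (ht : t ∈ P) (hL : L ≤ A) (hA : A ≤ B)
    (cA : Nat.card A = 16 * Nat.card L) (cB : Nat.card B = 16 * Nat.card A) (sA : ∀ a ∈ A, a * a ∈ L)
    (sB : ∀ y ∈ B, y * y ∈ A) (hc : ∀ y ∈ B, ∀ a ∈ A, ⁅y, a⁆ ∈ L) (nL : t ∈ normalizer (L : Set G))
    (nA : t ∈ normalizer (A : Set G)) (nB : t ∈ normalizer (B : Set G)) (t2 : t * t ∈ B)
    (fA : ∀ a ∈ A, ⁅t, a⁆ ∈ L → ∃ u ∈ A, a⁻¹ * ⁅t, u⁆ ∈ L)
    (fB : ∀ y ∈ B, ⁅t, y⁆ ∈ A → ∃ u ∈ B, y⁻¹ * ⁅t, u⁆ ∈ A) : False := by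
  obtain ⟨u, hu, e⟩ := fB _ t2 (by rw [commutatorElement_eq_one_iff_mul_comm.2 (mul_assoc t t t).symm]; exact one_mem _)
  have bL : B ≤ normalizer (L : Set G) := norm_of_comm fun y hy a ha => hc y hy a (hL ha)
  have bA : B ≤ normalizer (A : Set G) := norm_of_comm fun y hy a ha => hL (hc y hy a ha)
  have e1 : ∀ a ∈ A, ∃ l ∈ L, ⁅u⁻¹ * t, a⁆ = l * ⁅t, a⁆ := fun a ha =>
    ⟨_, hc _ (inv_mem hu) _ ((conj_mem_norm nA).2 ha), by simp only [commutatorElement_def]; group⟩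
  refine ff0 h4 hB (mul_mem (inv_mem (hB hu)) ht) hL hA cA cB sA sB hc (mul_mem (inv_mem (bL hu)) nL)
    (mul_mem (inv_mem (bA hu)) nA)
    (mul_mem (inv_mem (le_normalizer hu)) nB) ?_ fun a ha h => ?_
  · have := mul_mem (inv_mem (sB u hu)) (inv_mem e)
    rwa [show (u * u)⁻¹ * ((t * t)⁻¹ * ⁅t, u⁆)⁻¹ = u⁻¹ * t * (u⁻¹ * t) by
      rw [commutatorElement_def]; group] at this
  · obtain ⟨l, hl, e2⟩ := e1 a ha
    obtain ⟨v, hv, e3⟩ := fA a ha ((mul_mem_cancel_left hl).1 (e2 ▸ h))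
    obtain ⟨m, hm, e4⟩ := e1 v hv
    refine ⟨v, hv, ?_⟩
    rw [e4, show a⁻¹ * (m * ⁅t, v⁆) = a⁻¹ * m * a⁻¹⁻¹ * (a⁻¹ * ⁅t, v⁆) by group]
    exact mul_mem ((conj_mem_norm (inv_mem (bL (hA ha)))).2 hm) e3

/-- A quadratic non-degenerate four-group on `E₁₆` with an element `ρ` that has no fixed points on `A / U`. -/
theorem fpf64 {H : Subgroup G} {ρ : G} (hH : H ≤ S) (hA : El 16 A) (hU : El 4 U) (hUA : U ≤ A) (hAH : A ≤ H)
    (cH : Nat.card H = 64) (sH : ∀ y ∈ H, y * y ∈ A) (hq : ∀ y ∈ H, ∀ a ∈ A, ⁅y, a⁆ ∈ U)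
    (nd : ∀ y ∈ H, ∀ a ∈ A, y * a = a * y → y ∈ A ∨ a ∈ U) (nH : ρ ∈ normalizer (H : Set G))
    (nA : ρ ∈ normalizer (A : Set G)) (hf : ∀ a ∈ A, ⁅ρ, a⁆ ∈ U → a ∈ U) : ∃ B ≤ H, L34 S A B U := by
  have cA : ∀ {a b}, a ∈ A → b ∈ A → a * b = b * a := fun ha hb => comm_of_sq hA.sq ha hb
  have hN : H ≤ normalizer (A : Set G) := norm_of_comm fun y hy a ha => hUA (hq y hy a ha)
  have k0 : ∀ y ∈ H, y ∉ A → (∀ u ∈ U, y * u = u * y) ∧ ∀ u ∈ U, ∃ a ∈ A, ⁅y, a⁆ = u := fun y hy n => by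
    let φ : A →* G := MonoidHom.mk' (fun a => ⁅y, (a : G)⁆) fun a b => by
      rw [coe_mul, commutatorElement_mul_right_eq_mul_conj, mul_assoc, mul_assoc, ← mul_assoc (a : G),
        conj_eq_of_comm (cA a.2 (hUA (hq y hy b b.2)))]
    have e := φ.ker.card_mul_index
    rw [index_ker, hA.card] at e
    have l1 : φ.ker ≤ U.subgroupOf A := fun a ha =>
      (nd y hy a a.2 (commutatorElement_eq_one_iff_mul_comm.1 ha)).resolve_left n
    have l2 : φ.range ≤ U := by rintro _ ⟨a, rfl⟩; exact hq y hy a a.2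
    have c1 : Nat.card (U.subgroupOf A) = 4 := (Nat.card_congr (subgroupOfEquivOfLe hUA).toEquiv).trans hU.card
    have c2 := card_le_of_le l1
    have c3 := card_le_of_le l2
    rw [hU.card] at c3
    refine ⟨fun u hu => commutatorElement_eq_one_iff_mul_comm.1 ((eq_of_le_of_card_ge l1 (by nlinarith)).ge
      (show (⟨u, hUA hu⟩ : A) ∈ U.subgroupOf A from hu)), fun u hu => ?_⟩
    obtain ⟨a, ha⟩ := (eq_of_le_of_card_ge l2 (by rw [hU.card]; nlinarith)).ge hu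
    exact ⟨a, a.2, ha⟩
  have k1 : ∀ y ∈ H, y * y ∈ U := fun y hy => by
    by_cases n : y ∈ A
    · rw [hA.sq y n]; exact one_mem _
    · exact (nd y hy _ (sH y hy) (mul_assoc y y y).symm).resolve_left n
  have sq : ∀ y ∈ H, ∀ a ∈ A, y * a * (y * a) = ⁅y, a⁆ * (y * y) := fun y hy a ha => by
    calc _ = ⁅y, a⁆ * (a * (y * y)) * a := by rw [commutatorElement_def]; group
      _ = _ := by rw [cA ha (sH y hy), mul_assoc, mul_assoc, hA.sq a ha, mul_one]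
  have k2 : ∀ y ∈ H, y ∉ A → ∃ i ∈ H, y⁻¹ * i ∈ A ∧ i * i = 1 := fun y hy n => by
    obtain ⟨a, ha, e⟩ := (k0 y hy n).2 _ (inv_mem (k1 y hy))
    exact ⟨y * a, mul_mem hy (hAH ha), by simpa using ha, by rw [sq y hy a ha, e, inv_mul_cancel]⟩
  have k3 : ∀ x ∈ H, x ∉ A → x * x = 1 → ∀ y, y * y = 1 → x⁻¹ * y ∈ A → x⁻¹ * y ∈ U := fun x hx n x2 y y2 e => by
    have := sq x hx _ e
    rw [mul_inv_cancel_left, y2, x2, mul_one, eq_comm, commutatorElement_eq_one_iff_mul_comm] at this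
    exact (nd x hx _ e this).resolve_left n
  obtain ⟨y, hy, ny⟩ := SetLike.not_le_iff_exists.1 fun l : H ≤ A => by
    have := card_le_of_le l; rw [cH, hA.card] at this; omega
  obtain ⟨i, iH, yi, i2⟩ := k2 y hy ny
  have iA : i ∉ A := fun l => ny (by simpa using (mul_mem_cancel_right l).1 yi)
  have m1 := fun g => mem_ext (g := g) (hN iH) (sH i iH)
  have c1 := card_ext (hN iH) (sH i iH) iA
  have l1 : ext A i ≤ H := ext_le.2 ⟨hAH, iH⟩
  obtain ⟨y', hy', ny'⟩ := SetLike.not_le_iff_exists.1 fun l : H ≤ ext A i => by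
    have := card_le_of_le l; rw [cH, c1, hA.card] at this; omega
  obtain ⟨j, jH, yj, j2⟩ := k2 y' hy' fun l => ny' (le_ext _ _ l)
  have jK : j ∉ ext A i := fun l => ny' (by simpa using (mul_mem_cancel_right l).1 (le_ext A i yj))
  have jA : j ∉ A := fun l => jK (le_ext _ _ l)
  have ij : i * j ∉ A := fun l => jK ((m1 j).2 (.inr l))
  obtain ⟨k, kH, a, k2'⟩ := k2 _ (inv_mem (mul_mem iH jH)) (by rwa [inv_mem_iff])
  rw [inv_inv] at a
  have kA : k ∉ A := fun l => ij ((mul_mem_cancel_right l).1 a)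
  obtain ⟨Q, _, π, pm, pe⟩ := exists_ab (hUA.trans hAH) k1
  have ix := ix_of_card l1 jH jK (by rw [cH, c1, hA.card])
  have cj' : ∀ {x}, x ∈ H → ρ * x * ρ⁻¹ ∈ H := fun hx => (conj_mem_norm nH).2 hx
  have tri : ∀ x ∈ H, x ∉ A → x * x = 1 →
      π i = π (ρ * x * ρ⁻¹) ∨ π j = π (ρ * x * ρ⁻¹) ∨ π k = π (ρ * x * ρ⁻¹) := fun x hx n x2 => by
    have x1 := cj' hx
    have x3 : ρ * x * ρ⁻¹ * (ρ * x * ρ⁻¹) = 1 := by rw [← conj_mul', x2]; group
    have x4 : ρ * x * ρ⁻¹ ∉ A := fun l => n ((conj_mem_norm nA).1 l)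
    generalize ρ * x * ρ⁻¹ = z at *
    rcases ix z x1 with l | l <;> rcases (m1 _).1 l with l | l
    · exact absurd l x4
    · exact .inl ((pe i iH z x1).2 (k3 i iH iA i2 z x3 (by rwa [inv_of_sq i2])))
    · exact .inr (.inl ((pe j jH z x1).2 (k3 j jH jA j2 z x3 (by rwa [inv_of_sq j2]))))
    · exact .inr (.inr ((pe k kH z x1).2 (k3 k kH kA k2' z x3
        (by simpa [mul_assoc] using mul_mem (inv_mem a) l))))
  have dis : ∀ x ∈ H, ∀ z ∈ H, x⁻¹ * z ∉ A → π (ρ * x * ρ⁻¹) ≠ π (ρ * z * ρ⁻¹) := fun x hx z hz n e =>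
    n ((conj_mem_norm nA).1 (by simpa [mul_assoc] using hUA ((pe _ (cj' hx) _ (cj' hz)).1 e)))
  have d1 := dis i iH j jH (by rwa [inv_of_sq i2])
  have d2 := dis i iH k kH fun l => jA ((conj_mem_norm (hN iH)).1 (by
    have := mul_mem a (inv_mem l)
    rwa [show i * j * k * (i⁻¹ * k)⁻¹ = i * j * i⁻¹ * (i * i) by group, i2, mul_one] at this))
  have d3 := dis j jH k kH fun l => iA (by
    rw [inv_of_sq j2] at l
    simpa [mul_assoc] using mul_mem a (inv_mem l))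
  have aU : i * j * k ∈ U := hf _ a (by
    have e : π (ρ * (i * j * k) * ρ⁻¹) = π (i * j * k) := by
      rw [conj_mul', conj_mul', pm _ (mul_mem (cj' iH) (cj' jH)) _ (cj' kH), pm _ (cj' iH) _ (cj' jH),
        pm _ (mul_mem iH jH) _ kH, pm _ iH _ jH]
      have t1 := tri i iH iA i2
      have t2 := tri j jH jA j2
      have t3 := tri k kH kA k2'
      generalize π (ρ * i * ρ⁻¹) = x, π (ρ * j * ρ⁻¹) = y, π (ρ * k * ρ⁻¹) = z at *
      rcases t1 with rfl | rfl | rfl <;> rcases t2 with rfl | rfl | rfl <;> rcases t3 with rfl | rfl | rfl <;>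
        first | exact absurd rfl d1 | exact absurd rfl d2 | exact absurd rfl d3 | simp only [mul_comm, mul_left_comm]
    have := (pe _ (hAH a) _ (cj' (hAH a))).1 e.symm
    rwa [cA (inv_mem a) ((conj_mem_norm nA).2 a)] at this)
  have c : j * i = i * j := by
    have e : i * j * (i * j) = 1 := by
      calc _ = i * j * k * (k * (i * j * k)) * k⁻¹ := by rw [mul_assoc (i * j) k, sq_cancel k2']; group
        _ = _ := by rw [(k0 k kH kA).1 _ aU, ← mul_assoc, hU.sq _ aU]; group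
    rw [← inv_eq_of_mul_eq_one_right e, mul_inv_rev, inv_of_sq i2, inv_of_sq j2]
  obtain ⟨b1, b2, b3⟩ := ext_elem hU.sq i2 (k0 i iH iA).1
  obtain ⟨b4, b5, b6⟩ := ext_elem b2 j2 fun g hg => ((b1 g).1 hg).elim ((k0 j jH jA).1 g) fun l => by
    rw [← sq_cancel i2 g, ← mul_assoc j, c, mul_assoc i j, (k0 j jH jA).1 _ l, ← mul_assoc]
  have bH : ext (ext U i) j ≤ H := ext_le.2 ⟨ext_le.2 ⟨hUA.trans hAH, iH⟩, jH⟩
  refine ⟨_, bH, hAH.trans hH, bH.trans hH, hA, ⟨?_, b5⟩, hU, hUA, (le_ext _ _).trans (le_ext _ _),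
    fun x hx z hz => by simpa using inv_mem (hq z (bH hz) x hx), fun x hx z hz e =>
      (nd z (bH hz) x hx e.symm).symm.imp_right fun l => ?_⟩
  · rw [b6 fun l => jK (sup_le_sup_right hUA _ l), b3 fun l => iA (hUA l), hU.card]
  · rcases (b4 z).1 hz with r | r <;> rcases (b1 _).1 r with r | r
    · exact r
    · exact absurd ((mul_mem_cancel_right l).1 (hUA r)) iA
    · exact absurd ((mul_mem_cancel_right l).1 (hUA r)) jA
    · exact absurd ((mul_mem_cancel_right l).1 (mul_assoc i j z ▸ hUA r)) ij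

/-- An elementary abelian group of order 16 centralised by a subgroup of index two and acted on freely is unique. -/
theorem el16_unique (h4 : Rk 16 P) (hA : El 16 A) (hAR : A ≤ R) (hR : R ≤ P) (hi : Ix P R s) (hs : s ∈ P)
    (hc : ∀ a ∈ A, Cz a R) (hf : Nat.card (fix A s) ≤ 4) (hB : El 16 B) (hle : B ≤ P) : B = A := by
  have k : ∀ y ∈ B, y ∈ R → y ∈ A := fun y hy l =>
    h4.five (hAR.trans hR) bot_le (fun a ha => mem_bot.2 (hA.sq a ha)) (by simpa using hA.card) (hle hy)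
      (mem_bot.2 (hB.sq y hy)) fun a ha =>
        mem_bot.2 (commutatorElement_eq_one_iff_mul_comm.2 (hc a ha y l).symm)
  refine eq_of_le_of_card_ge (fun y hy => k y hy (by_contra fun n => ?_)) (hA.card.trans hB.card.symm).le
  have ix : Ix B (B ⊓ R) y := fun z hz => (em (z ∈ R)).imp (fun l => ⟨hz, l⟩) fun l =>
    ⟨mul_mem hy hz, hi.mul_mem (hle hy) (hle hz) n l⟩
  have c := ix.card inf_le_left hy fun l => n l.2
  have l : B ⊓ R ≤ fix A s := fun z hz => mem_fix.2 ⟨k z hz.1 hz.2, by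
    have e := hc z (k z hz.1 hz.2) _ ((hi y (hle hy)).resolve_left n)
    rw [mul_assoc, ← comm_of_sq hB.sq hz.1 hy, ← mul_assoc, ← mul_assoc, mul_left_inj] at e
    exact e.symm⟩
  have := card_le_of_le l
  rw [hB.card] at c
  omega

/-- An involution centralising an elementary abelian group of order 16 lies in it. -/
theorem Rk.mem_el16 (h4 : Rk 16 P) (hA : El 16 A) (hle : A ≤ P) (hg : g ∈ P) (g2 : g * g = 1) (hc : Cz g A) :
    g ∈ A :=
  h4.five hle bot_le (fun a ha => mem_bot.2 (hA.sq a ha)) (by simpa using hA.card) hg (mem_bot.2 g2)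
    fun a ha => mem_bot.2 (commutatorElement_eq_one_iff_mul_comm.2 (hc a ha))

end Cfsg.Agent.GH
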