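import Mathlib
import Cfsg.Agent.GH.Defs
import Cfsg.Agent.GH.UPc

/-! The pair lemma: commuting four-groups with different central involutions. -/

set_option autoImplicit false
set_option linter.unusedSectionVars false

namespace Cfsg.Agent.GH.UPL

open Cfsg.Agent.Inv.Fz Cfsg.Agent.NE Subgroup
open Cfsg.Agent.Loc.Mss (conj_mem_of_norm conj_mem_of_norm' norm_sup mem_sup_norm)
open scoped commutatorElement

variable {G : Type*} [Group G] [Finite G] {P R K L A E F M R₁ R₂ : Subgroup G}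
  {x s t g b r z u v y x₁ s₁ x₂ s₂ w a p q k : G}

theorem fx_mul (h1 : x * p = p * x) (h2 : x * q = q * x) : x * (p * q) = p * q * x := by
  rw [← mul_assoc, h1, mul_assoc, h2, mul_assoc]

theorem fx_left (h : x * (p * q) = p * q * x) (h2 : x * q = q * x) : x * p = p * x := by
  rw [mul_assoc, ← h2, ← mul_assoc, ← mul_assoc] at h
  exact mul_right_cancel h

/-- `F = U₁ U₂` is elementary abelian of order 16. -/
structure B2 (P R₁ R₂ M F : Subgroup G) (x₁ s₁ z u x₂ s₂ w a : G) : Prop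
    extends Pr P R₁ R₂ M x₁ s₁ z u x₂ s₂ w a where
  zw : z ≠ w
  aR : a ∈ R₁
  el : El 16 F
  gen : F = closure {z, u} ⊔ closure {w, a}

theorem Pr.b2 (h : Pr P R₁ R₂ M x₁ s₁ z u x₂ s₂ w a) (zw : z ≠ w) (e : a ∈ R₁) :
    B2 P R₁ R₂ M (closure {z, u} ⊔ closure {w, a}) x₁ s₁ z u x₂ s₂ w a := by
  refine ⟨h, zw, e, ?_, rfl⟩
  have cw := cz_mono h.r.zc h.l.le
  obtain ⟨-, p2, p3⟩ := ext_elem h.l.el.sq h.r.z2 fun v hv => cw v (h.l.UR hv)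
  have cc : ∀ v ∈ ext (closure {z, u}) w, Cz v R₁ := fun v hv => TriA.cz_iff.2
    ((ext_le (K := centralizer (R₁ : Set G))).2 ⟨fun v hv => TriA.cz_iff.1 (h.l.Uc hv), TriA.cz_iff.1 cw⟩ hv)
  obtain ⟨-, p5, p6⟩ := ext_elem p2 h.r.u2 fun v hv => (cc v hv a e).symm
  obtain ⟨b, hb, nb⟩ := h.out
  obtain ⟨c, hc, nc⟩ := h.symm.out
  have e1 : closure {z, u} ⊔ closure {w, a} = ext (ext (closure {z, u}) w) a := le_antisymm
    (sup_le ((le_ext _ _).trans (le_ext _ _)) ((closure_le _).2 (by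
      rintro _ (e' | e') <;> rw [e']
      exacts [le_ext _ _ (self_mem_ext _ _), self_mem_ext _ _])))
    (ext_le.2 ⟨ext_le.2 ⟨le_sup_left, mem_sup_right h.r.zU⟩, mem_sup_right h.r.uU⟩)
  rw [e1]
  refine ⟨?_, p5⟩
  rw [p6 fun m => nb (h.r.mem_of_comm (h.l.le hb) (cc a m b hb).symm), p3 fun m => ?_, h.l.el.card]
  exact ((mem_zp2 h.l.z2).1 (h.l.fixb (h.r.le hc) nc m (cm1.2 (h.r.zc c (h.r.le hc)).symm))).elim h.r.z1 zw.symm

namespace B2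
variable (h : B2 P R₁ R₂ M F x₁ s₁ z u x₂ s₂ w a)
include h

theorem symm : B2 P R₂ R₁ M F x₂ s₂ w a x₁ s₁ z u :=
  ⟨h.toPr.symm, h.zw.symm, h.a_of_u h.aR, h.el, h.gen.trans (sup_comm _ _)⟩

theorem UF : (closure {z, u} : Subgroup G) ≤ F := h.gen ▸ le_sup_left
theorem FM : F ≤ M := h.gen ▸ sup_le (h.UM (h.a_of_u h.aR)) (h.toPr.symm.UM h.aR)
theorem F1 : F ≤ R₁ := h.FM.trans h.M1
theorem FP : F ≤ P := h.FM.trans h.MP

theorem cF (hk : k ∈ F) : Cz k M := TriA.cz_iff.2 ((h.gen.le.trans (sup_le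
  (fun _ hv => TriA.cz_iff.1 (cz_mono (h.l.Uc hv) h.M1)) fun _ hv => TriA.cz_iff.1 (cz_mono (h.r.Uc hv) h.M2))) hk)

theorem dec (hk : k ∈ F) : ∃ p ∈ (closure {z, u} : Subgroup G), ∃ q ∈ (closure {w, a} : Subgroup G), p * q = k :=
  (mem_sup_norm ((h.r.UR.trans h.r.le).trans h.l.nU)).1 (h.gen ▸ hk)

theorem omF (hk : k ∈ M) (e : k * k = 1) : k ∈ F := h.om h.el h.FM (fun _ => h.cF) hk e
theorem nF (hg : g ∈ normalizer (M : Set G)) : g ∈ normalizer (F : Set G) := h.norm_om h.el h.FM (fun _ => h.cF) hg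
theorem PF : P ≤ normalizer (F : Set G) := fun _ hg => h.nF (h.nM hg)

theorem cmF (hb : b ∈ P) (hp : p ∈ (closure {z, u} : Subgroup G)) (hq : q ∈ (closure {w, a} : Subgroup G)) :
    ⁅b, p * q⁆ = ⁅b, p⁆ * ⁅b, q⁆ := by
  rw [cm_mul, conj_eq_of_comm (comm_zpowers (h.r.zc p (h.l.le (h.l.UR hp))).symm (h.r.cmz hb hq))]

theorem cm1F (hr : r ∈ R₁) (hk : k ∈ F) : ⁅r, k⁆ ∈ zpowers w := by
  obtain ⟨p, hp, q, hq, rfl⟩ := h.dec hk
  rw [h.cmF (h.l.le hr) hp hq, cm1.2 (h.l.Uc hp r hr).symm, one_mul]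
  exact h.r.cmz (h.l.le hr) hq

theorem xw : x₁ * w * x₁⁻¹ = w := by
  have l := h.l
  have wR : w ∈ R₁ := h.F1 (h.symm.UF h.r.zU)
  have hc := l.om w wR h.r.z2 (cz_mono h.r.zc l.le)
  have e1 : x₁ * w * x₁⁻¹ = ⁅x₁, w⁆ * w := by rw [commutatorElement_def, inv_mul_cancel_right]
  have e2 : x₁ * (s₁ * ⁅x₁, w⁆ * s₁⁻¹) * x₁⁻¹ * ⁅x₁, w⁆ = 1 := by
    have := l.loc.tri.conj_conj wR
    have sw := conj_eq_of_comm (h.r.zc s₁ l.loc.mem).symm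
    rw [e1, conj_mul', sw] at this
    rw [eq_mul_inv_of_mul_eq this, commutatorElement_def]; group
  rcases l.mem.1 hc with c | c | c | c <;> rw [c] at e1 e2
  · rw [e1, one_mul]
  · rw [conj_eq_of_comm (l.zc s₁ l.loc.mem).symm, l.xz, ← l.zu] at e2
    exact (l.zu1 e2).elim
  · rw [l.bu s₁ l.loc.mem l.loc.tri.s_not, l.xzu] at e2
    exact (l.zu1 e2).elim
  · have m1 := conj_mem_of_norm l.xn h.aR
    have ne : x₁ * w * x₁⁻¹ ∉ zpowers w := fun m => by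
      rcases (mem_zp2 h.r.z2).1 m with m | m
      · exact h.r.z1 (by simpa using m)
      · exact l.zu1 (by simpa [e1] using m)
    have m2 : x₁ * a * x₁⁻¹ ∈ R₂ := by
      rcases h.cmg l.xn h.aR with d | d
      · exact h.r.mem_of_comm (l.le m1) (cm1.1 d.2).symm
      · refine (ne ?_).elim
        rw [← d.2, TriA.cinv]
        exact h.r.cmz (l.le m1) h.r.uU
    obtain ⟨r, hr, e⟩ := h.exg l.xn
    exact (ne (e ▸ h.cm1F hr (h.omF ((h.mem _).2 ⟨m1, m2⟩) (sq_conj h.r.u2 _)))).elim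

theorem xw' : x₁ * w = w * x₁ := comm_of_conj_eq h.xw

theorem xzp (hq : q ∈ zpowers w) : x₁ * q = q * x₁ := comm_zpowers h.xw' hq

theorem a1F : x₁ * a * x₁⁻¹ ∈ F := by
  have l := h.l
  have m1 := conj_mem_of_norm l.xn h.aR
  have m2 := conj_mem_of_norm l.xn m1
  have q1 := sq_conj h.r.u2 x₁
  refine h.omF ((h.mem _).2 ⟨m1, h.r.mem_of_comm (l.le m1) ?_⟩) q1
  by_contra ne
  have aF := h.symm.UF h.r.uU
  have n1 := h.PF (l.le m1)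
  have q1' : x₁ * a * x₁⁻¹ * (x₁ * a * x₁⁻¹) ∈ F := q1 ▸ one_mem _
  have LR : ext F (x₁ * a * x₁⁻¹) ≤ R₁ := ext_le.2 ⟨h.F1, m1⟩
  have := h.r4.five (K := zpowers w) (LR.trans l.le) ((zpowers_le.2 (h.symm.UF h.r.zU)).trans (le_ext _ _))
    (fun y hy => ?_) (by rw [card_ext n1 q1' fun m => ne (comm_of_sq h.el.sq m aF), h.el.card, card_zp2 h.r.z2 h.r.z1])
    (l.le m2) (by rw [sq_conj q1]; exact one_mem _) fun y hy => ?_
  · rcases (mem_ext n1 q1').1 this with c | c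
    · have := conj_comm x₁ (comm_of_sq h.el.sq c aF)
      rw [conj_conj, conj_conj, mul_assoc x₁ x₁, ← pow_three, conj_eq_of_comm (l.cube a h.aR)] at this
      exact ne this.symm
    · have := h.el.sq _ c
      rw [← eq_inv_iff_mul_eq_one, _root_.mul_inv_rev, inv_of_sq q1, inv_of_sq (sq_conj q1 _)] at this
      exact ne (comm_of_conj this).symm
  · rcases (mem_ext n1 q1').1 hy with c | c
    · rw [h.el.sq y c]; exact one_mem _
    · have := h.cm1F m1 c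
      rwa [commutatorElement_def, inv_of_sq q1, inv_of_sq (h.el.sq _ c), sq_cancel q1, mul_assoc, sq_cancel q1] at this
  · rw [TriA.cinv, conj_conj]
    rcases h.cmg (mul_mem l.xn l.xn) (LR hy) with d | d <;> rw [d.2]
    · exact one_mem _
    · rw [← conj_conj, h.xw, h.xw]; exact mem_zpowers _

theorem xM : x₁ ∈ normalizer (M : Set G) := inv_mem_iff.1 (mem_normalizer_of_conj_mem fun k hk => by
  have m := conj_mem_of_norm (inv_mem h.l.xn) (h.M1 hk)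
  refine (h.mem _).2 ⟨m, h.r.mem_of_comm (h.l.le m) ?_⟩
  simpa [mul_assoc] using conj_comm x₁⁻¹ (h.cF h.a1F k hk).symm)

theorem xF : x₁ ∈ normalizer (F : Set G) := h.nF h.xM

theorem suppF : supp F x₁ = closure {z, u} := by
  rcases h.l.loc.tri.sec (h.r4.mono h.l.le) bot_le h.F1 h.xF (nbot _) h.el.sq
    ⟨z, h.UF h.l.zU, fun c => h.l.z1 (h.l.fpf h.l.zU (cmb.1 c))⟩ with ⟨c, -⟩ | ⟨-, -, c⟩
  · rw [sup_bot_eq, card_bot, mul_one] at c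
    exact (eq_of_le_of_card_ge (h.l.U_supp h.UF) (by rw [c, h.l.el.card])).symm
  · exact (h.r.z1 (c w (h.symm.UF h.r.zU) (cmb.2 h.xw'))).elim

theorem cmx (hk : k ∈ F) : ⁅x₁, k⁆ ∈ (closure {z, u} : Subgroup G) := h.suppF ▸ (comm_mem_supp hk).1

theorem fixp (hp : p ∈ (closure {z, u} : Subgroup G)) (hq : q ∈ (closure {w, a} : Subgroup G))
    (e : x₁ * (p * q) = p * q * x₁) : p ∈ zpowers z := by
  have sP := h.l.loc.mem
  have m : p * q ∈ fix F x₁ := mem_fix.2 ⟨mul_mem (h.UF hp) (h.symm.UF hq), e⟩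
  have := (mem_fix.1 (mul_mem (conj_mem_of_norm (h.l.loc.tri.s_sub h.F1 (h.PF sP) h.xF).2 m) (inv_mem m))).2
  rw [← commutatorElement_def, h.cmF sP hp hq] at this
  exact h.l.fixb sP h.l.loc.tri.s_not hp (h.l.fpf (h.l.zpU (h.l.cmz sP hp)) (fx_left this (h.xzp (h.r.cmz sP hq))))

theorem fixc (ht : t ∈ R₁) (nt : t ∉ R₂) (hk : k ∈ F) (c : t * k = k * t) (e : x₁ * k = k * x₁) : k ∈ zpowers w := by
  obtain ⟨p, hp, q, hq, rfl⟩ := h.dec hk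
  have := cm1.2 c
  rw [h.cmF (h.l.le ht) hp hq, cm1.2 (h.l.Uc hp t ht).symm, one_mul] at this
  have m := h.r.fixb (h.l.le ht) nt hq this
  rwa [h.l.fpf hp (fx_left e (h.xzp m)), one_mul]

/-- No common fixed points. -/
theorem both (hk : k ∈ M) (e₁ : x₁ * k = k * x₁) (e₂ : x₂ * k = k * x₂) : k = 1 := by
  by_contra k1
  obtain ⟨c, hc, c1, c2⟩ := exists_pow_two h.pM hk k1
  have f₁ := comm_zpowers e₁ hc
  have f₂ := comm_zpowers e₂ hc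
  obtain ⟨p, hp, q, hq, rfl⟩ := h.dec (h.omF (zpowers_le.2 hk hc) c2)
  have m := h.fixp hp hq f₁
  rw [comm_of_sq h.el.sq (h.UF hp) (h.symm.UF hq)] at f₂
  have m' := h.symm.fixp hq hp f₂
  exact c1 (by rw [h.l.fpf hp (fx_left f₁ (h.xzp m')), h.r.fpf hq (fx_left f₂ (h.symm.xzp m)), one_mul])

theorem freeF : Fr P R₁ R₂ F := fun t ht t1 t2 k hk e => by
  obtain ⟨p, hp, q, hq, rfl⟩ := h.dec hk
  have c := cm1.2 e
  rw [h.cmF ht hp hq] at c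
  have c' : ⁅t, p⁆ = 1 ∧ ⁅t, q⁆ = 1 := by
    rcases h.l.cmU ht hp with d | ⟨d, -⟩ <;> rcases h.r.cmU ht hq with d' | ⟨d', -⟩ <;> rw [d, d'] at c
    · exact ⟨d, d'⟩
    · exact (h.r.z1 (by simpa using c)).elim
    · exact (h.l.z1 (by simpa using c)).elim
    · exact (h.zw ((eq_inv_of_mul_eq_one_left c).trans (inv_of_sq h.r.z2))).elim
  have e1 : ∃ v ∈ (closure {z, u} : Subgroup G), p = ⁅t, v⁆ := by
    rcases (mem_zp2 h.l.z2).1 (h.l.fixb ht t1 hp c'.1) with d | d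
    exacts [⟨1, one_mem _, by simp [d]⟩, ⟨u, h.l.uU, by rw [d, h.l.cmu ht t1]⟩]
  have e2 : ∃ v ∈ (closure {w, a} : Subgroup G), q = ⁅t, v⁆ := by
    rcases (mem_zp2 h.r.z2).1 (h.r.fixb ht t2 hq c'.2) with d | d
    exacts [⟨1, one_mem _, by simp [d]⟩, ⟨a, h.r.uU, by rw [d, h.r.cmu ht t2]⟩]
  obtain ⟨v, hv, rfl⟩ := e1
  obtain ⟨v', hv', rfl⟩ := e2
  exact ⟨v * v', mul_mem (h.UF hv) (h.symm.UF hv'), (h.cmF ht hv hv').symm⟩

/-- The element of `a U₁` fixed by `x₁`. -/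
theorem exists_b : ∃ p ∈ zpowers z, x₁ * (p * a) = p * a * x₁ := by
  have aF := h.symm.UF h.r.uU
  obtain ⟨d, hd, e⟩ := (h.l.od.mono h.F1 h.xF).lift h.UF h.l.xU aF (h.l.nU h.r.uP) (h.cmx aF)
  have e1 : a⁻¹ * d * a = d := by rw [mul_assoc, comm_of_sq h.el.sq (mem_fix.1 hd).1 aF, inv_mul_cancel_left]
  have e2 : x₁ * (a⁻¹ * d * a) = a⁻¹ * d * a * x₁ := by rw [e1]; exact (mem_fix.1 hd).2
  exact ⟨_, h.fixp e h.r.uU e2, e2⟩

theorem cmb' (ht : t ∈ R₁) (nt : t ∉ R₂) (hp : p ∈ zpowers z) : ⁅t, p * a⁆ = w := by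
  rw [h.cmF (h.l.le ht) (h.l.zpU hp) h.r.uU, cm1.2 (h.l.Uc (h.l.zpU hp) t ht).symm, one_mul, h.r.cmu (h.l.le ht) nt]

section
variable (hM : M ≤ F)
include hM

theorem supp1 : supp R₁ x₁ = closure {z, u} := le_antisymm
  (by rw [← h.l.od.supp_supp, ← h.suppF]; exact supp_mono ((h.suppM h.xM).trans hM)) (h.l.U_supp h.l.UR)

theorem nD : P ≤ normalizer (fix R₁ x₁ : Set G) := norm_P h.l.loc (fun r hr => by
  obtain ⟨c, hc, d, hd, rfl⟩ := h.l.od.decomp hr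
  exact mul_mem (norm_of_cz (cz_mono (h.l.Uc (h.supp1 hM ▸ hc)) inf_le_left)) (le_normalizer hd)) h.l.loc.tri.s_fix

theorem dih : ∃ c d, Mx (fix R₁ x₁) c d 2 ∧ d * d = 1 := by
  obtain ⟨t, t1, t2, tx⟩ := h.fix_out h.xM
  obtain ⟨p, hp, px⟩ := h.exists_b
  have bF : p * a ∈ F := mul_mem (h.UF (h.l.zpU hp)) (h.symm.UF h.r.uU)
  have b2 := h.el.sq _ bF
  have cb : ∀ t ∈ R₁, t ∉ R₂ → ⁅t, p * a⁆ = w := fun t t1 t2 => h.cmb' t1 t2 hp
  generalize p * a = d at *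
  obtain ⟨c, c1, c2, cx, cc⟩ : ∃ c ∈ R₁, c ∉ R₂ ∧ x₁ * c = c * x₁ ∧ c * c = w := by
    rcases (mem_zp2 h.r.z2).1 (h.fixc t1 t2 (hM (h.sqM (h.l.le t1))) (mul_assoc t t t).symm (fx_mul tx tx)) with e | e
    · refine ⟨t * d, mul_mem t1 (h.F1 bF), fun m => t2 ((mul_mem_cancel_right (h.symm.F1 bF)).1 m), fx_mul tx px, ?_⟩
      rw [← cb t t1 t2, commutatorElement_def, inv_of_sq e, inv_of_sq b2, mul_assoc (t * d)]
    · exact ⟨t, t1, t2, tx, e⟩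
  have cd := cb c c1 c2
  have mc : c ∈ (closure {c, d} : Subgroup G) := subset_closure (by simp)
  have md : d ∈ (closure {c, d} : Subgroup G) := subset_closure (by simp)
  have wc : zpowers w ≤ closure {c, d} := zpowers_le.2 (cc ▸ mul_mem mc mc)
  have f0 : ∀ k ∈ F, x₁ * k = k * x₁ → k ∈ (closure {c, d} : Subgroup G) := fun k hk e => by
    rcases (mem_zp2 h.r.z2).1 (h.cm1F c1 hk) with e' | e'
    · exact wc (h.fixc c1 c2 hk (cm1.1 e') e)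
    · refine (mul_mem_cancel_left md).1 (wc (h.fixc c1 c2 (mul_mem bF hk) (cm1.1 ?_) (fx_mul px e)))
      rw [cm_mul, cd, e', conj_eq_of_comm (h.r.zc d (h.FP bF)).symm, h.r.z2]
  refine ⟨c, d, ⟨le_rfl, ?_, Or.inl ?_, fun m => h.r.z1 (cd.symm.trans (cm1.2 (comm_zpowers rfl m))),
    le_antisymm (fun k hk => ?_) ((closure_le _).2 ?_), Or.inl b2⟩, b2⟩
  · refine orderOf_eq_prime_pow (p := 2) (n := 1) (by rw [pow_one, sq, cc]; exact h.r.z1) ?_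
    rw [show c ^ 2 ^ (1 + 1) = c * c * (c * c) by norm_num [pow_succ, mul_assoc], cc, h.r.z2]
  · rw [← cc, commutatorElement_def, mul_assoc, mul_assoc, mul_right_inj] at cd
    rw [← inv_inj, inv_inv]
    exact Eq.trans (by group) cd
  · obtain ⟨k1, kx⟩ := mem_fix.1 hk
    by_cases e : k ∈ R₂
    · exact f0 k (hM ((h.mem _).2 ⟨k1, e⟩)) kx
    · exact (mul_mem_cancel_left mc).1 (f0 _ (hM ((h.mem _).2 ⟨mul_mem c1 k1,
        h.r.loc.ix.mul_mem (h.l.le c1) (h.l.le k1) c2 e⟩)) (fx_mul cx kx))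
  · rintro _ (e | e) <;> rw [e]
    exacts [mem_fix.2 ⟨c1, cx⟩, mem_fix.2 ⟨h.F1 bF, px⟩]

omit hM in
theorem U2_le (h1 : fix R₁ x₁ ≤ K) (hz : z ∈ K) : (closure {w, a} : Subgroup G) ≤ K := (closure_le _).2 (by
  rintro _ (e | e) <;> rw [e]
  · exact h1 (mem_fix.2 ⟨h.F1 (h.symm.UF h.r.zU), h.xw'⟩)
  · obtain ⟨p, hp, px⟩ := h.exists_b
    exact (mul_mem_cancel_left (zpowers_le.2 hz hp)).1 (h1 (mem_fix.2 ⟨mul_mem (h.l.UR (h.l.zpU hp)) h.aR, px⟩)))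

/-- The second alternative. -/
theorem alt2 : (El 4 (supp R₁ x₁) ∧ El 4 (supp R₂ x₂) ∧ El 16 M ∧ M = supp R₁ x₁ ⊔ supp R₂ x₂ ∧
      (∀ u ∈ fix R₁ x₁, ∀ v ∈ fix R₂ x₂, u * v = v * u) ∧ fix R₁ x₁ ⊓ fix R₂ x₂ = ⊥ ∧ P = fix R₁ x₁ ⊔ fix R₂ x₂ ∧
      (∃ a b, Mx (fix R₁ x₁) a b 2 ∧ b * b = 1) ∧ ∃ a b, Mx (fix R₂ x₂) a b 2 ∧ b * b = 1) ∧ Fr P R₁ R₂ M := by
  have e : M = F := le_antisymm hM h.FM
  have d : fix R₁ x₁ ⊓ fix R₂ x₂ = ⊥ := eq_bot_iff.2 fun k hk =>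
    h.both ((h.mem _).2 ⟨(mem_fix.1 hk.1).1, (mem_fix.1 hk.2).1⟩) (mem_fix.1 hk.1).2 (mem_fix.1 hk.2).2
  rw [h.supp1 hM, h.symm.supp1 hM]
  refine ⟨⟨h.l.el, h.r.el, e ▸ h.el, e.trans h.gen, fun p hp q hq => cmb.1 (d ▸ mem_inf.2 ⟨?_, ?_⟩), d,
    le_antisymm (fun y hy => ?_) (sup_le (inf_le_left.trans h.l.le) (inf_le_left.trans h.r.le)), h.dih hM,
    h.symm.dih hM⟩, e ▸ h.freeF⟩
  · exact TriA.cinv.1 (mul_mem (conj_mem_of_norm (h.nD hM (h.r.le hq.1)) hp) (inv_mem hp))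
  · exact mul_mem (conj_mem_of_norm (h.symm.nD hM (h.l.le hp.1)) hq) (inv_mem hq)
  · have U1 : (closure {z, u} : Subgroup G) ≤ fix R₁ x₁ ⊔ fix R₂ x₂ := h.symm.U2_le le_sup_right
      (mem_sup_left (mem_fix.2 ⟨h.F1 (h.symm.UF h.r.zU), h.xw'⟩))
    have R1 : R₁ ≤ fix R₁ x₁ ⊔ fix R₂ x₂ := fun r hr => by
      obtain ⟨c, hc, d, hd, rfl⟩ := h.l.od.decomp hr
      exact mul_mem (U1 (h.supp1 hM ▸ hc)) (mem_sup_left hd)
    obtain ⟨t, t2, t1, tx⟩ := h.symm.fix_out h.symm.xM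
    by_cases e : y ∈ R₁
    · exact R1 e
    · exact (mul_mem_cancel_left (mem_sup_right (mem_fix.2 ⟨t2, tx⟩))).1 (R1 (h.l.loc.ix.mul_mem (h.r.le t2) hy t1 e))

end

end B2

end Cfsg.Agent.GH.UPL
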