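import Mathlib
import Cfsg.Agent.GH.Defs
import Cfsg.Agent.GH.UPd

/-! The pair lemma: `x₁` cannot centralise `Ω₁ Z (M / F)` when `F < M`. -/

set_option autoImplicit false
set_option linter.unusedSectionVars false

namespace Cfsg.Agent.GH.UPL

open Cfsg.Agent.Inv.Fz Cfsg.Agent.NE Subgroup
open Cfsg.Agent.Loc.Mss (conj_mem_of_norm conj_mem_of_norm' norm_sup mem_sup_norm)
open scoped commutatorElement

variable {G : Type*} [Group G] [Finite G] {P R K L N T A E F M R₁ R₂ : Subgroup G}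
  {x s t g b r z u v y x₁ s₁ x₂ s₂ w a p q k : G}

theorem cm_im {Q : Type*} [Group Q] {f : L →* Q} (hf : ∀ l : L, f l = 1 ↔ (l : G) ∈ N) (p q : L) :
    f p * f q = f q * f p ↔ ⁅(p : G), (q : G)⁆ ∈ N := by
  rw [← commutatorElement_eq_one_iff_mul_comm, ← map_commutatorElement, hf]; rfl

theorem hom_comm {n : ℕ} (h : Hom T x t n) : ∀ p ∈ T, ∀ q ∈ T, p * q = q * p := by
  have c : ∀ p ∈ ({t, x * t * x⁻¹} : Set G), Cz p T := fun p hp q hq =>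
    (mem_centralizer_singleton_iff.1 ((h.eq.le.trans ((closure_le (centralizer {p})).2 (by
      rintro _ (e | e) <;> rcases hp with e' | e' <;> rw [e, e'] <;> refine mem_centralizer_singleton_iff.2 ?_
      exacts [rfl, h.comm, h.comm.symm, rfl]))) hq)).symm
  exact fun p hp => TriA.cz_iff.2 ((h.eq.le.trans ((closure_le _).2 fun p hp => TriA.cz_iff.1 (c p hp))) hp)

namespace B2
variable (h : B2 P R₁ R₂ M F x₁ s₁ z u x₂ s₂ w a)
  (hc : ∀ e ∈ M, e * e ∈ F → (∀ r ∈ M, ⁅r, e⁆ ∈ F) → ⁅x₁, e⁆ ∈ F)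
include h hc

theorem supp_U : supp R₁ x₁ ≤ closure {z, u} := by
  by_contra hT
  obtain ⟨E, hE, FE, nE⟩ := exists_omz h.FM (h.MP.trans h.PF)
  have EM : E ≤ M := fun k hk => ((hE k).1 hk).1
  have cU := (h.l.od.mono (EM.trans h.M1) (nE _ h.xM h.xF)).chain h.UF FE ((EM.trans h.MP).trans h.l.nU)
    (fun _ => h.cmx) fun e he => hc e (EM he) ((hE e).1 he).2.1 ((hE e).1 he).2.2
  obtain ⟨f, -, hf⟩ := exists_quo (closure {z, u} : Subgroup G)
  have R1 := h.l.le.trans h.l.nU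
  have tr := Tri.im hf le_normalizer (x := ⟨x₁, h.l.xU⟩) (s := ⟨s₁, h.l.nU h.l.loc.mem⟩) h.l.loc.tri h.l.UR R1 hT
  refine tr.ne (cen_of (F := im f F) tr.od ?_ ?_ ?_)
  · rintro _ ⟨r, hr, rfl⟩
    exact BsA.norm_im (h.FP.trans h.l.nU) (h.PF (h.l.le hr))
  · rintro _ ⟨k, hk, rfl⟩
    exact (cm_im hf _ _).2 (h.cmx hk)
  · rw [supp_im hf le_normalizer R1]
    rintro _ ⟨e, he, rfl⟩ e1 e2 e3
    have eM : (e : G) ∈ M := h.suppM h.xM he
    rw [← map_mul, mem_im hf le_normalizer h.UF] at e2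
    have m := cU e ((hE e).2 ⟨eM, e2, fun r hr => by
      have := e3 (f ⟨r, R1 (h.M1 hr)⟩) ⟨_, h.M1 hr, rfl⟩
      rwa [← map_commutatorElement, mem_im hf le_normalizer h.UF] at this⟩)
    refine ⟨(cm_im hf _ _).2 m, fun e4 => e1 ⟨e, h.omF eM ?_, rfl⟩⟩
    rw [← map_mul, hf] at e4
    refine h.l.fpf e4 (comm_of_conj_eq ?_)
    change x₁ * ((e : G) * e) * x₁⁻¹ = e * e
    rw [conj_mul', show x₁ * (e : G) * x₁⁻¹ = ⁅x₁, (e : G)⁆ * e by rw [commutatorElement_def, inv_mul_cancel_right],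
      mul_assoc, comm_assoc (h.l.Uc m e (h.M1 eM)).symm, sq_cancel (h.l.el.sq _ m)]

theorem phi_fix : phi R₁ ≤ fix R₁ x₁ := phi_le_iff.2 fun r hr => by
  obtain ⟨c, hc', d, hd, rfl⟩ := h.l.od.decomp hr
  have m := h.supp_U hc hc'
  rw [mul_assoc, comm_assoc (h.l.Uc m d hd.1).symm, sq_cancel (h.l.el.sq _ m)]
  exact mul_mem hd hd

theorem comm_M : ∀ p ∈ M, Cz p M := by
  have T2 := h.toPr.symm.suppM h.symm.xM
  have dj : ∀ k ∈ supp R₂ x₂, x₂ * k = k * x₂ → k = 1 := fun k hk e =>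
    h.both (T2 hk) (mem_fix.1 (commutator_le.2 (fun p hp q hq => h.phi_fix hc (comm_mem_phi (h.M1 (T2 hp))
      (h.M1 (T2 hq)))) (h.r.od.fix_le_comm (mem_inf.2 ⟨hk, mem_fix.2 ⟨h.M2 (T2 hk), e⟩⟩)))).2 e
  obtain ⟨p, hp, px⟩ := h.symm.exists_b
  obtain ⟨t, t2, t1⟩ := h.toPr.symm.out
  have zF := h.UF h.l.zU
  have bF : p * u ∈ F := mul_mem (h.symm.UF (h.r.zpU hp)) (h.UF h.l.uU)
  have cb := h.symm.cmb' t2 t1 hp
  have el := (four h.l.z2 (h.el.sq _ bF) (comm_of_sq h.el.sq zF bF) h.l.z1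
    (fun e => h.l.z1 (by rw [← cb, e]; simp)) fun e => h.l.z1 (by
      rw [← cb, e]; exact cm1.2 (h.l.zc t (h.r.le t2)).symm)).1
  have Af : (closure {z, p * u} : Subgroup G) ≤ fix F x₂ := (closure_le _).2 (by
    rintro _ (e | e) <;> rw [e]
    exacts [mem_fix.2 ⟨zF, h.symm.xw'⟩, mem_fix.2 ⟨bF, px⟩])
  have r4 : Rk 4 (supp R₂ x₂) := h.r4.four (L := ⊥) (Af.trans (inf_le_left.trans h.FP)) bot_le el.sq
    (by rw [el.card, card_bot]) (T2.trans h.MP) (eq_bot_iff.2 fun k hk => dj k hk.2 (mem_fix.1 (Af hk.1)).2)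
    fun y hy k hk => cmb.2 (h.cF (Af hy).1 k (T2 hk)).symm
  have ab : ∀ p ∈ supp R₂ x₂, ∀ q ∈ supp R₂ x₂, p * q = q * p := by
    rcases (h.r.od.mono (supp_le h.r.xn) mem_norm_supp).small h.r.od.supp_supp h.r.loc.tri.supp_ne r4 with
      ⟨-, c, -, c1, -, hv⟩ | ⟨t, n, -, hom⟩
    · have e1 := hv w (h.r.U_supp h.r.UR h.r.zU)
      have e2 := hv a (h.r.U_supp h.r.UR h.r.uU)
      rw [h.r.z2] at e1
      rw [h.r.u2] at e2
      exact (h.r.uz (((e2.resolve_left h.r.u1).resolve_right c1.symm).trans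
        ((e1.resolve_left h.r.z1).resolve_right c1.symm).symm)).elim
    · exact hom_comm hom
  have dec : ∀ k ∈ M, ∃ c ∈ supp R₂ x₂, ∃ d ∈ F, k = c * d := fun k hk => by
    obtain ⟨c, hc', d, hd, rfl⟩ := (h.r.od.mono h.M2 h.symm.xM).decomp hk
    obtain ⟨dM, dx⟩ := mem_fix.1 hd
    exact ⟨c, supp_mono h.M2 hc', d, h.omF dM (h.both (mul_mem dM dM)
      (mem_fix.1 (h.phi_fix hc (mem_phi (h.M1 dM)))).2 (fx_mul dx dx)), rfl⟩
  intro p hp
  obtain ⟨c, hc', d, hd, rfl⟩ := dec p hp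
  refine cz_mul (fun q hq => ?_) (h.cF hd)
  obtain ⟨c', hc'', d', hd', rfl⟩ := dec q hq
  exact fx_mul (ab c hc' c' hc'') (h.cF hd' c (T2 hc')).symm

/-- An involution of `R₁ ∖ R₂`. -/
theorem exists_inv : ∃ t ∈ R₁, t ∉ R₂ ∧ t * t = 1 := by
  obtain ⟨t, t1, t2⟩ := h.out
  have ab := h.comm_M hc
  have tP := h.l.le t1
  have g0 := h.sqM tP
  have g1 := conj_mem_of_norm h.symm.xM g0
  have g2 := conj_mem_of_norm' h.symm.xM g0
  have m := mul_mem t1 (h.M1 g1)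
  refine ⟨_, m, fun e => t2 ((mul_mem_cancel_right (h.M2 g1)).1 e), h.both (h.sqM (h.l.le m))
    (mem_fix.1 (h.phi_fix hc (mem_phi m))).2 (comm_of_conj_eq ?_)⟩
  have e1 := conj_eq_of_comm (cmb.1 (inv_mod h.r.loc (inv_mem tP) (fun e => t2 (inv_mem_iff.1 e)) (h.M2 g2)
    fun c hc' => cmb.2 (ab c (h.toPr.symm.suppM h.symm.xM hc') _ g2)))
  have e2 : t * (x₂ * (t * t) * x₂⁻¹) * (t * (x₂ * (t * t) * x₂⁻¹)) =
      t * t * (x₂⁻¹ * (t * t) * x₂) * (x₂ * (t * t) * x₂⁻¹) := by rw [← e1]; group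
  have e3 : x₂ * (x₂ * (t * t) * x₂⁻¹) * x₂⁻¹ = x₂⁻¹ * (t * t) * x₂ := by
    nth_rw 2 [← conj_eq_of_comm (h.r.cube _ (h.M2 g0))]
    rw [pow_three]; group
  rw [e2, conj_mul', conj_mul', e3, show x₂ * (x₂⁻¹ * (t * t) * x₂) * x₂⁻¹ = t * t by group, mul_assoc,
    ab _ g1 _ (mul_mem g0 g2)]

theorem le_F : M ≤ F := by
  by_contra hle
  obtain ⟨t, t1, t2, tt⟩ := h.exists_inv hc
  obtain ⟨e, he, e1, e2, e3⟩ := exists_central_mod h.l.loc.p h.PF h.MP h.nM hle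
  replace e3 : ∀ s ∈ P, ⁅s, e⁆ ∈ F := e3
  have ab := h.comm_M hc
  have tP := h.l.le t1
  have c1 : ⁅t, e⁆ ∈ zpowers w := h.fixc t1 t2 (e3 t tP) (comm_of_conj_eq (by
      refine Eq.trans ?_ (inv_of_sq (h.el.sq _ (e3 t tP)))
      rw [commutatorElement_def, show t * (t * e * t⁻¹ * e⁻¹) * t⁻¹ = t * t * e * t⁻¹ * e⁻¹ * t⁻¹ by group, tt]
      nth_rw 1 [inv_of_sq tt]
      group))
    (mem_fix.1 (h.phi_fix hc (comm_mem_phi t1 (h.M1 he)))).2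
  have c2 : e * e ∈ zpowers w := h.fixc t1 t2 e2 (comm_of_conj_eq (by
      rw [conj_mul', show t * e * t⁻¹ = ⁅t, e⁆ * e by rw [commutatorElement_def, inv_mul_cancel_right], mul_assoc,
        comm_assoc (h.cF (e3 t tP) e he).symm, sq_cancel (h.el.sq _ (e3 t tP))]))
    (mem_fix.1 (h.phi_fix hc (mem_phi (h.M1 he)))).2
  have LM : ext F e ≤ M := ext_le.2 ⟨h.FM, he⟩
  have n1 := h.PF (h.MP he)
  refine t2 (h.M2 (LM (h.r4.five (K := zpowers w) (LM.trans h.MP)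
    ((zpowers_le.2 (h.symm.UF h.r.zU)).trans (le_ext _ _)) (fun y hy => ?_)
    (by rw [card_ext n1 e2 e1, h.el.card, card_zp2 h.r.z2 h.r.z1]) tP (tt ▸ one_mem _) fun y hy => ?_)))
  · rcases (mem_ext n1 e2).1 hy with c | c
    · rw [h.el.sq y c]; exact one_mem _
    · have := h.el.sq _ c
      rw [mul_assoc, comm_assoc (ab y (LM hy) e he), ← mul_assoc, mul_eq_one_iff_inv_eq] at this
      rw [← this]; exact inv_mem c2
  · rcases (mem_ext n1 e2).1 hy with c | c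
    · exact h.cm1F t1 c
    · have := h.cm1F t1 c
      rw [cm_mul, mul_mem_cancel_left c1, conj_eq_of_comm (ab e he _ ?_)] at this
      exacts [this, mul_mem (conj_mem_of_norm (h.nM tP) (LM hy)) (inv_mem (LM hy))]

end B2

end Cfsg.Agent.GH.UPL
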