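import Mathlib
import Cfsg.Agent.GH.Defs
import Cfsg.Agent.GH.TriB
import Cfsg.Agent.GH.FF
import Cfsg.Agent.GH.UPe

/-! Two triples of index two that both move the centre. See `stubs/Cfsg/Agent/GH/PLAN.md`. -/

set_option autoImplicit false
set_option linter.unusedSectionVars false

namespace Cfsg.Agent.GH

open Cfsg.Agent.Inv.Fz Cfsg.Agent.NE Subgroup
open scoped commutatorElement

variable {G : Type*} [Group G] [Finite G] {S P R K L N T V A B U : Subgroup G} {x s g b : G} {n : ℕ}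

universe u

namespace UPL

/-- A triple that moves `E / F` moves the centre of `P / F`. -/
theorem quo {Q : Type*} [Group Q] [Finite Q] {f : L →* Q} {F E M : Subgroup G} (hf : ∀ l : L, f l = 1 ↔ (l : G) ∈ F)
    (hF : F ≤ L) {x s : L} (h : Loc P R x s) (PL : P ≤ L) (FE : F ≤ E) (EM : E ≤ M) (MR : M ≤ R)
    (hT : supp R x ≤ M) (nE : P ≤ normalizer (E : Set G)) (xE : (x : G) ∈ normalizer (E : Set G))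
    (h2 : ∀ e ∈ E, e * e ∈ F) (hc : ∀ e ∈ E, ∀ r ∈ M, ⁅r, e⁆ ∈ F) (hm : ∃ e ∈ E, ⁅(x : G), e⁆ ∉ F) :
    Loc (im f P) (im f R) (f x) (f s) ∧ ∃ z ∈ im f P, z * z = 1 ∧ Cz z (im f P) ∧ f x * z ≠ z * f x := by
  obtain ⟨e, he, ne⟩ := hm
  have EL := EM.trans (MR.trans (h.le.trans PL))
  have l := h.im hf hF (FE.trans (EM.trans MR)) PL fun c => ne (c (comm_mem_supp (MR (EM he))).1)
  refine ⟨l, mv (E := im f E) l (map_mono (subgroupOf_mono L (EM.trans MR))) ?_ (BsA.norm_im EL xE) ?_ ?_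
    fun c => ne ((cm_im hf x ⟨e, EL he⟩).1 (c _ ⟨_, he, rfl⟩))⟩
  · rintro _ ⟨r, hr, rfl⟩
    exact BsA.norm_im EL (nE hr)
  · rintro _ ⟨k, hk, rfl⟩
    rw [← map_mul, hf]; exact h2 k hk
  · rw [supp_im hf hF (h.le.trans PL)]
    rintro _ ⟨c, hc', rfl⟩ _ ⟨k, hk, rfl⟩
    exact (cm_im hf _ _).2 (hc k hk c (hT hc'))

theorem up_aux (n : ℕ) : ∀ {G : Type u} [Group G] [Finite G] {P R₁ R₂ : Subgroup G} {x₁ s₁ x₂ s₂ : G},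
    Nat.card P = n → Loc P R₁ x₁ s₁ → Loc P R₂ x₂ s₂ → R₁ ≠ R₂ →
    (∃ z ∈ P, z * z = 1 ∧ Cz z P ∧ x₁ * z ≠ z * x₁) → (∃ z ∈ P, z * z = 1 ∧ Cz z P ∧ x₂ * z ≠ z * x₂) →
    (El 4 (supp R₁ x₁) ∧ El 4 (supp R₂ x₂) ∧ ¬ supp R₁ x₁ ≤ R₂) ∨
    (((El 4 (supp R₁ x₁) ∧ El 4 (supp R₂ x₂) ∧ El 16 (R₁ ⊓ R₂) ∧ R₁ ⊓ R₂ = supp R₁ x₁ ⊔ supp R₂ x₂ ∧
      (∀ u ∈ fix R₁ x₁, ∀ v ∈ fix R₂ x₂, u * v = v * u) ∧ fix R₁ x₁ ⊓ fix R₂ x₂ = ⊥ ∧ P = fix R₁ x₁ ⊔ fix R₂ x₂ ∧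
      (∃ a b, Mx (fix R₁ x₁) a b 2 ∧ b * b = 1) ∧ ∃ a b, Mx (fix R₂ x₂) a b 2 ∧ b * b = 1) ∨
    (El 16 (R₁ ⊓ R₂) ∧ supp R₁ x₁ = R₁ ⊓ R₂ ∧ supp R₂ x₂ = R₁ ⊓ R₂ ∧ Cz (x₁ ^ 3) R₁ ∧ Cz (x₂ ^ 3) R₂ ∧
      ∀ t ∈ R₂, t ∉ R₁ → ∀ u ∈ R₁, u ∉ R₂ → ∃ v ∈ R₁ ⊓ R₂, ⁅t, ⁅u, v⁆⁆ ≠ 1)) ∧ Fr P R₁ R₂ (R₁ ⊓ R₂)) := by
  induction n using Nat.strong_induction_on with | _ n ih => ?_
  intro G _ _ P R₁ R₂ x₁ s₁ x₂ s₂ hn h₁ h₂ hne m₁ m₂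
  obtain ⟨z, u, w, a, h⟩ := exists_pr h₁ h₂ hne m₁ m₂
  by_cases e : u ∈ R₂
  swap
  · exact Or.inl (h.alt1 e)
  replace e := h.symm.a_of_u e
  refine Or.inr ?_
  by_cases zw : z = w
  · subst zw
    exact (h.alt3 e).imp_left Or.inr
  have hb := h.b2 zw e
  generalize closure {z, u} ⊔ closure {w, a} = F at hb
  refine (hb.alt2 ?_).imp_left Or.inl
  by_contra hle
  obtain ⟨E, hE, FE, nE⟩ := exists_omz hb.FM (h.MP.trans hb.PF)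
  have EM : E ≤ R₁ ⊓ R₂ := fun k hk => ((hE k).1 hk).1
  have PE : P ≤ normalizer (E : Set G) := fun g hg => nE g (h.nM hg) (hb.PF hg)
  have c₁ : ∃ e ∈ E, ⁅x₁, e⁆ ∉ F := by
    by_contra! c
    exact hle (hb.le_F fun e e1 e2 e3 => c e ((hE e).2 ⟨e1, e2, e3⟩))
  have c₂ : ∃ e ∈ E, ⁅x₂, e⁆ ∉ F := by
    by_contra! c
    exact hle (hb.symm.le_F fun e e1 e2 e3 => c e ((hE e).2 ⟨e1, e2, e3⟩))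
  obtain ⟨f, -, hf⟩ := exists_quo F
  have PL := hb.PF
  obtain ⟨l₁, n₁⟩ := quo hf le_normalizer (x := ⟨x₁, hb.xF⟩) (s := ⟨s₁, PL h₁.mem⟩) h₁ PL FE EM h.M1 (h.suppM hb.xM) PE
    (nE _ hb.xM hb.xF) (fun k hk => ((hE k).1 hk).2.1) (fun k hk => ((hE k).1 hk).2.2) c₁
  obtain ⟨l₂, n₂⟩ := quo hf le_normalizer (x := ⟨x₂, hb.symm.xF⟩) (s := ⟨s₂, PL h₂.mem⟩) h₂ PL FE EM h.M2
    (h.symm.suppM hb.symm.xM) PE (nE _ hb.symm.xM hb.symm.xF) (fun k hk => ((hE k).1 hk).2.1)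
    (fun k hk => ((hE k).1 hk).2.2) c₂
  have cP := card_im hf le_normalizer hb.FP PL
  have ei : im f R₁ ⊓ im f R₂ = im f (R₁ ⊓ R₂) := le_antisymm (by
      rintro _ ⟨⟨k, hk, rfl⟩, hk'⟩
      exact ⟨k, ⟨hk, (mem_im hf le_normalizer hb.symm.F1 k).1 hk'⟩, rfl⟩)
    (le_inf (map_mono (subgroupOf_mono _ inf_le_left)) (map_mono (subgroupOf_mono _ inf_le_right)))
  rcases ih _ (by rw [← hn, cP, hb.el.card]; have := Nat.card_pos (α := im f P); omega) rfl l₁ l₂ (fun c => by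
    obtain ⟨b, b1, b2⟩ := h.out
    exact b2 ((im_le_im hf le_normalizer hb.symm.F1 (h₁.le.trans PL)).1 c.le b1)) n₁ n₂ with ⟨-, -, c⟩ | ⟨c, fr⟩
  · rw [supp_im hf le_normalizer (h₁.le.trans PL)] at c
    exact c (map_mono (subgroupOf_mono _ ((h.suppM hb.xM).trans inf_le_right)))
  · have el : El 16 (im f (R₁ ⊓ R₂)) := ei ▸ c.elim (fun c => c.2.2.1) fun c => c.1
    rw [ei] at fr
    have ML := h.MP.trans PL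
    obtain ⟨t, tP, t1, t2⟩ := h.out2
    refine ff h.r4 h.MP tP bot_le hb.FM (by rw [hb.el.card, card_bot])
      (by rw [card_im hf le_normalizer hb.FM ML, el.card, mul_comm]) hb.el.sq (fun y hy => ?_)
      (fun y hy k hk => cmb.2 (hb.cF hk y hy).symm) (nbot _) (PL tP) (h.nM tP) (h.sqM tP) (fun k hk c => ?_)
      fun y hy c => ?_
    · have := el.sq (f ⟨y, ML hy⟩) ⟨_, hy, rfl⟩
      rwa [← map_mul, hf] at this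
    · obtain ⟨v, hv, e'⟩ := hb.freeF t tP t1 t2 k hk (cmb.1 c)
      exact ⟨v, hv, inv_mul_eq_one.2 e'⟩
    · obtain ⟨_, ⟨v, hv, rfl⟩, e'⟩ := fr (f ⟨t, PL tP⟩) ⟨_, tP, rfl⟩ (mt (mem_im hf le_normalizer hb.F1 _).1 t1)
        (mt (mem_im hf le_normalizer hb.symm.F1 _).1 t2) (f ⟨y, ML hy⟩) ⟨_, hy, rfl⟩ ((cm_im hf _ _).2 c)
      rw [← map_commutatorElement, ← inv_mul_eq_one, ← map_inv, ← map_mul, hf] at e'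
      exact ⟨v, hv, e'⟩

end UPL

/-- The pair lemma. -/
theorem up {G : Type u} [Group G] [Finite G] {P R₁ R₂ : Subgroup G} {x₁ s₁ x₂ s₂ : G} (h₁ : Loc P R₁ x₁ s₁)
    (h₂ : Loc P R₂ x₂ s₂) (hne : R₁ ≠ R₂) (m₁ : ∃ z ∈ P, z * z = 1 ∧ Cz z P ∧ x₁ * z ≠ z * x₁)
    (m₂ : ∃ z ∈ P, z * z = 1 ∧ Cz z P ∧ x₂ * z ≠ z * x₂) :
    (El 4 (supp R₁ x₁) ∧ El 4 (supp R₂ x₂) ∧ ¬ supp R₁ x₁ ≤ R₂) ∨
    (El 4 (supp R₁ x₁) ∧ El 4 (supp R₂ x₂) ∧ El 16 (R₁ ⊓ R₂) ∧ R₁ ⊓ R₂ = supp R₁ x₁ ⊔ supp R₂ x₂ ∧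
      (∀ u ∈ fix R₁ x₁, ∀ v ∈ fix R₂ x₂, u * v = v * u) ∧ fix R₁ x₁ ⊓ fix R₂ x₂ = ⊥ ∧ P = fix R₁ x₁ ⊔ fix R₂ x₂ ∧
      (∃ a b, Mx (fix R₁ x₁) a b 2 ∧ b * b = 1) ∧ ∃ a b, Mx (fix R₂ x₂) a b 2 ∧ b * b = 1) ∨
    (El 16 (R₁ ⊓ R₂) ∧ supp R₁ x₁ = R₁ ⊓ R₂ ∧ supp R₂ x₂ = R₁ ⊓ R₂ ∧ Cz (x₁ ^ 3) R₁ ∧ Cz (x₂ ^ 3) R₂ ∧
      ∀ t ∈ R₂, t ∉ R₁ → ∀ u ∈ R₁, u ∉ R₂ → ∃ v ∈ R₁ ⊓ R₂, ⁅t, ⁅u, v⁆⁆ ≠ 1) :=
  (UPL.up_aux _ rfl h₁ h₂ hne m₁ m₂).imp_right And.left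

end Cfsg.Agent.GH
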