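import Mathlib
import Cfsg.Agent.GH.Defs
import Cfsg.Agent.GH.Basic
import Cfsg.Agent.S1740
import Cfsg.Agent.S0506

/-! Strongly closed subgroups of class at most two. -/

set_option autoImplicit false
set_option linter.unusedSectionVars false

namespace Cfsg.Agent.GH

open Cfsg.Agent.Inv.Fz Cfsg.Agent.NE Subgroup
open scoped commutatorElement

variable {G : Type*} [Group G] [Finite G] {S P R K L N T V A B U : Subgroup G} {x s g b : G} {n : ℕ}

namespace HamA

open Cfsg.Agent.CL2 Cfsg.Agent.Inv.U3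

theorem r16 (c : Ctx G) {K H : Subgroup G} (h : K ≤ H) (h2 : ∀ x ∈ H, x * x ∈ K) :
    Nat.card H ≤ 16 * Nat.card K := by
  have : (K.subgroupOf H).Normal := ⟨fun a ha g => by
    rw [show g * a * g⁻¹ = (g * a) * (g * a) * a⁻¹ * (g * g)⁻¹ by group]
    exact mul_mem (mul_mem (h2 _ (g * a).2) (inv_mem ha)) (inv_mem (h2 _ g.2))⟩
  have sq : ∀ a : H ⧸ K.subgroupOf H, a * a = 1 := fun a => by
    obtain ⟨a, rfl⟩ := QuotientGroup.mk_surjective a
    exact (QuotientGroup.eq_one_iff (a * a)).2 (h2 _ a.2)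
  have h1 := c.h4 H (K.subgroupOf H) ⊤ ⟨⟨fun a b => Subtype.ext (comm_of_mul_self sq _ _)⟩⟩
    fun a _ => by rw [pow_two, sq]
  rw [card_top] at h1
  rw [card_eq_card_quotient_mul_card_subgroup (K.subgroupOf H), Nat.card_congr (subgroupOfEquivOfLe h).toEquiv]
  exact Nat.mul_le_mul_right _ h1

theorem sec (c : Ctx G) {T : Type*} [Group T] (f : T →* G) (hf : Function.Injective f) {K H : Subgroup T}
    (h : K ≤ H) (h2 : ∀ x ∈ H, x * x ∈ K) : Nat.card H ≤ 16 * Nat.card K := by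
  rw [← card_map_of_injective hf, ← card_map_of_injective (K := K) hf]
  refine r16 c (map_mono h) ?_
  rintro _ ⟨y, hy, rfl⟩
  rw [← map_mul]
  exact mem_map_of_mem f (h2 y hy)

theorem ty_le (c : Ctx G) {X : Type*} [Group X] (e : G ≃* X) (Q : Subgroup X) {a b : ℕ} (h : Ty Q a b)
    (h2 : ∀ x : Q, x * x ∈ center Q) : a ≤ b + 4 := by
  have := sec c (e.symm.toMonoidHom.comp Q.subtype) (e.symm.injective.comp Q.subtype_injective)
    (le_top (a := center Q)) fun x _ => h2 x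
  rw [card_top, h.card, h.cen, show 16 * 2 ^ b = 2 ^ (b + 4) by ring] at this
  exact (Nat.pow_le_pow_iff_right one_lt_two).1 this

theorem cen_of {T T' : Type*} [Group T] [Group T'] (e : T' ≃* T) (h : ∀ x : T, x * x ∈ center T) (x : T') :
    x * x ∈ center T' := mem_center_iff.2 fun g => e.injective (by
  simpa using mem_center_iff.1 (h (e x)) (e g))

theorem sq_cen {T : Type*} [Group T] (h : ∀ x y : T, x * y * x⁻¹ * y⁻¹ ∈ center T) (h4 : ∀ x : T, x ^ 4 = 1)
    (x : T) : x * x ∈ center T := mem_center_iff.2 fun y => by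
  obtain ⟨c, hc⟩ : ∃ c, c = y * x * y⁻¹ * x⁻¹ := ⟨_, rfl⟩
  have z : ∀ g, Commute g c := fun g => mem_center_iff.1 (hc ▸ h y x) g
  have e : y * x = x * y * c := by rw [(z _).eq, hc]; group
  have e2 : y * (x * x) = x * x * y * c ^ 2 := by
    calc y * (x * x) = x * (y * (c * x)) := by rw [← mul_assoc, e]; group
      _ = x * (y * x) * c := by rw [← (z x).eq]; group
      _ = _ := by rw [e, pow_two]; group
  have p : ∀ k : ℕ, y ^ k * x = x * y ^ k * c ^ k := fun k => by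
    induction k with
    | zero => simp
    | succ k ih =>
      calc y ^ (k + 1) * x = y * (y ^ k * x) := by group
        _ = (y * x) * y ^ k * c ^ k := by rw [ih]; group
        _ = x * y * (c * y ^ k) * c ^ k := by rw [e]; group
        _ = _ := by rw [← (z _).eq]; group
  have q : ∀ k : ℕ, (x * y) ^ k = x ^ k * y ^ k * c ^ k.choose 2 := fun k => by
    induction k with
    | zero => simp
    | succ k ih =>
      calc (x * y) ^ (k + 1) = x ^ k * y ^ k * (c ^ k.choose 2 * (x * y)) := by rw [pow_succ, ih]; group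
        _ = x ^ k * (y ^ k * x) * y * c ^ k.choose 2 := by rw [← ((z _).pow_right _).eq]; group
        _ = x ^ k * x * y ^ k * (c ^ k * y) * c ^ k.choose 2 := by rw [p]; group
        _ = _ := by rw [← ((z _).pow_right _).eq, Nat.choose_succ_succ, Nat.choose_one_right]; group
  have c4 := q 4
  rw [h4, h4, h4, one_mul, one_mul, show Nat.choose 4 2 = 4 + 2 from rfl, pow_add, h4, one_mul] at c4
  rw [e2, ← c4, mul_one]

theorem rk (c : Ctx G) (P : Sylow 2 G) (h : Nat.card (P : Subgroup G) = 4 ∨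
    (Nat.card (P : Subgroup G) = 8 ∧ ¬ IsMulCommutative (P : Subgroup G))) : False :=
  c.ng (.inl (S1740.rank_of_card P h))

variable {F : Type} [Field F] [Fintype F]

theorem l2 (c : Ctx G) (hn : 2 ≤ n) (hF : Fintype.card F = 2 ^ n)
    (e : G ≃* Matrix.ProjectiveSpecialLinearGroup (Fin 2) F) : False := by
  have : CharP F 2 := charP_of_card_eq_prime_pow hF
  obtain ⟨P, -⟩ := c.exists_sylow
  obtain ⟨x, -⟩ := Cl.L2.exists_sylow_eq_uniS (F := F) 2 default
  have h := sec c e.symm.toMonoidHom e.symm.injective (bot_le (a := Cl.L2.uniS x)) fun y hy => by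
    by_cases h1 : y = 1
    · simp [h1]
    · have := pow_orderOf_eq_one y
      rwa [Cl.L2.orderOf_of_mem_uniS 2 hy h1, pow_two] at this
  rw [Cl.L2.card_uniS, Nat.card_eq_fintype_card, hF, card_bot] at h
  have h4 : n ≤ 4 := (Nat.pow_le_pow_iff_right one_lt_two).1 h
  have g : (Fintype.card F = 8 ∨ Fintype.card F = 16) → False := fun h => c.ng (by
    iterate 9 right
    exact .inl ⟨F, _, _, h, ⟨e⟩⟩)
  interval_cases n
  · exact rk c P (.inl (Ty.sylow e (ty_psl2 hF) P).card)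
  · exact g (.inl hF)
  · exact g (.inr hF)

theorem l2' (c : Ctx G) (h8 : Fintype.card F % 8 = 3 ∨ Fintype.card F % 8 = 5)
    (e : G ≃* Matrix.ProjectiveSpecialLinearGroup (Fin 2) F) : False := by
  obtain ⟨P, -⟩ := c.exists_sylow
  have h1 := Cl.card_psl_two_mul (F := F)
  rw [← Nat.card_congr e.toEquiv, Nat.card_eq_fintype_card (α := F)] at h1
  generalize Fintype.card F = q at h1 h8
  obtain ⟨m, hm, e⟩ : ∃ m, ¬ 2 ∣ m ∧ q ^ 2 - 1 = 8 * m := by
    obtain ⟨k, rfl | rfl⟩ : ∃ k, q = 8 * k + 3 ∨ q = 8 * k + 5 := ⟨q / 8, by omega⟩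
    · exact ⟨2 * (4 * k ^ 2 + 3 * k) + 1, by omega, Nat.sub_eq_of_eq_add (by ring)⟩
    · exact ⟨2 * (4 * k ^ 2 + 5 * k + 1) + 1, by omega, Nat.sub_eq_of_eq_add (by ring)⟩
  rw [e, Nat.gcd_eq_left (by omega)] at h1
  refine rk c P (.inl (Inv.BO.card_sylow_eq P (a := 1) (k := 2) (m := q * m) (by norm_num)
    (fun h => ((Nat.Prime.dvd_mul Nat.prime_two).1 h).elim (by omega) hm) ?_))
  have : q * (8 * m) = 2 * (2 ^ 2 * (q * m)) := by ring
  omega

theorem sz (c : Ctx G) {m : ℕ} (hm : 1 ≤ m) (hF : Fintype.card F = 2 ^ (2 * m + 1))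
    (e : G ≃* Lie.Sz F (2 ^ (m + 1))) : False := by
  have := Chev.Sz.SzF.of_card hm hF
  have e' := e.trans (Chev.Sz.szEquiv F m).symm
  let Q : Sylow 2 (Cfsg.Sz F m) := default
  obtain ⟨h1, h4, h2, h3⟩ := S0330.result hm hF Q
  have cl : ∀ x y : Q, x * y * x⁻¹ * y⁻¹ ∈ center Q := fun x y =>
    h2 ▸ commutator_mem_commutator (mem_top x) (mem_top y)
  have h5 := ty_le c e' Q (a := 2 * (2 * m + 1)) ⟨cl, by rw [h1]; ring, h3⟩
    (sq_cen cl fun x => by have := Monoid.pow_exponent_eq_one x; rwa [h4] at this)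
  obtain rfl : m = 1 := by omega
  have h6 := (Nat.card_congr e'.toEquiv).trans Chev.Sz.card_Sz
  rw [Nat.card_eq_fintype_card (α := F), hF] at h6
  refine c.ng ?_
  iterate 13 right
  exact .inl ⟨⟨c.simple, 1, le_rfl, h6⟩, h6⟩

theorem u3 (c : Ctx G) (hn : 2 ≤ n) (hF : Fintype.card F = 4 ^ n) (e : G ≃* PSU 3 F (2 ^ n)) : False := by
  obtain ⟨σ, hq⟩ := Cl.exists_uField (F := F) (q := 2 ^ n) (by
    rw [hF, ← pow_mul, mul_comm, pow_mul]; rfl)
  have := Fact.mk hq.invol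
  have : CharP F 2 := charP_of_card_eq_prime_pow (f := 2 * n) (by rw [hF, pow_mul]; rfl)
  let Q : Sylow 2 (PSU 3 F (2 ^ n)) := default
  obtain ⟨e'⟩ := sylow_PSU hq Q
  have h := ty_le c e _ (ty_psu3 hF Q) (cen_of e' fun x => (UQ.mem_center_iff _).2 (by
    rw [UQ.mul_b, CharTwo.add_self_eq_zero]))
  obtain rfl : n = 2 := by omega
  refine c.ng ?_
  iterate 11 right
  exact .inl ⟨F, _, _, hF, ⟨e⟩⟩

theorem l3 (c : Ctx G) [CharP F 2] (h4 : 4 ≤ Fintype.card F)
    (e : G ≃* Matrix.ProjectiveSpecialLinearGroup (Fin 3) F) : False := by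
  obtain ⟨m, -, hF⟩ := FiniteField.card F 2
  let Q : Sylow 2 (Matrix.ProjectiveSpecialLinearGroup (Fin 3) F) := default
  obtain ⟨e'⟩ := HQ.sylow_PSL (Nat.card_eq_fintype_card.trans hF) Q
  have h := ty_le c e _ (ty_psl3 hF Q) (cen_of e' fun x => mem_center_iff.2 fun g => by
    ext <;> simp [CharTwo.add_self_eq_zero, add_comm])
  refine c.ng ?_
  iterate 10 right
  refine .inl ⟨F, _, _, le_antisymm ?_ h4, ⟨e⟩⟩
  rw [hF]
  exact Nat.pow_le_pow_right two_pos (show (m : ℕ) ≤ 2 by omega)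

theorem s4 (c : Ctx G) [CharP F 2] (h4 : 4 ≤ Fintype.card F) (e : G ≃* PSp 2 F) : False := by
  obtain ⟨m, -, hF⟩ := FiniteField.card F 2
  have h := SQ.ty hF
  have : Finite (SQ F) := Nat.finite_of_card_ne_zero (by rw [h.card]; positivity)
  have hf := injective_mk_comp _ SQ.toSp SQ.toSp_injective (by
    rw [S0246.result hF 2 (by norm_num), Nat.coprime_two_left.2 (Nat.Even.sub_odd
      Nat.one_le_two_pow (even_two.pow_of_ne_zero m.ne_zero) odd_one)]
    exact Nat.coprime_one_left _)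
  let φ : Multiplicative (F × F × F) →* SQ F := MonoidHom.mk' (fun v => ⟨v.toAdd.1, v.toAdd.2.1, v.toAdd.2.2, 0⟩)
    fun u v => by ext <;> simp
  have hφ : Function.Injective φ := fun u v h => Multiplicative.toAdd.injective
    (Prod.ext (congrArg SQ.x h) (Prod.ext (congrArg SQ.y h) (congrArg SQ.z h)))
  have h1 := sec c ((e.symm.toMonoidHom.comp _).comp φ) ((e.symm.injective.comp hf).comp hφ) (bot_le (a := ⊤))
    fun x _ => mem_bot.2 (Multiplicative.toAdd.injective (by ext <;> simp [CharTwo.add_self_eq_zero]))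
  rw [card_top, card_bot, Nat.card_congr Multiplicative.toAdd, Nat.card_prod, Nat.card_prod,
    Nat.card_eq_fintype_card] at h1
  nlinarith [Nat.mul_le_mul h4 h4]

end HamA

open HamA

/-- No nontrivial strongly closed subgroup of class at most two. -/
theorem Ctx.noSC (c : Ctx G) {X : Subgroup G} (h : Cfsg.IsStronglyClosed X c.S) (h1 : X ≠ ⊥)
    (h2 : ∀ u ∈ X, ∀ v ∈ X, Cz ⁅u, v⁆ X) : False := by
  have := c.simple
  obtain ⟨P, hP⟩ := c.exists_sylow
  rw [← hP] at h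
  have ab : ¬ IsMulCommutative (P : Subgroup G) := fun hc => by
    rcases S0506.result c.nc P hc with ⟨a, ha, F, _, _, hF, ⟨e⟩⟩ | ⟨F, _, _, hF, ⟨e⟩⟩ | h | h
    · exact l2 c ha hF e
    · exact l2' c hF e
    · refine c.ng ?_
      iterate 4 right
      exact .inl h
    · refine c.ng ?_
      iterate 18 right
      exact .inl h
  rcases CL2.trichotomy P h.1 (Gold.SC.of_isStronglyClosed P h)
    (commutator_le.2 fun u hu v hv r hr => (h2 u hu v hv r hr).symm) h1 with hc | ⟨H, hH⟩ | ⟨T, -, hT⟩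
  · exact ab hc
  · rcases Inv.BS2.bender_simple c.nc hH with ⟨F, _, _, m, hm, hF, ⟨e⟩⟩ | ⟨F, _, _, m, hm, hF, ⟨e⟩⟩ |
      ⟨F, _, _, m, hm, hF, ⟨e⟩⟩
    · exact l2 c hm hF e
    · exact sz c hm hF e
    · exact u3 c hm hF e
  · obtain ⟨U, L, -, ⟨h4, h5, -⟩ | ⟨h4, ⟨-, F, _, _, _, hF, ⟨e⟩⟩ | ⟨-, F, _, _, _, hF, ⟨e⟩⟩⟩⟩ := hT.main
    · obtain ⟨Q, rfl⟩ := Gold.sylIn_top_iff.1 h4
      exact rk c P (.inr ⟨(Nat.card_congr (Sylow.equiv P Q).toEquiv).trans h5, ab⟩)
    · exact l3 c (hF ▸ h4) e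
    · exact s4 c (hF ▸ h4) e

theorem Ctx.not_class_two (c : Ctx G) (h2 : ∀ u ∈ c.S, ∀ v ∈ c.S, Cz ⁅u, v⁆ c.S) : False := by
  refine c.noSC ⟨le_rfl, fun _ _ _ h => h⟩ (fun e => ?_) h2
  obtain ⟨E, hE, h⟩ := c.rank3
  have := h.card
  rw [le_bot_iff.1 (hE.trans e.le), card_bot] at this
  omega

end Cfsg.Agent.GH
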