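import Mathlib
import Cfsg.Agent.GH.CIDefs
import Cfsg.Agent.GH.CIu
import Cfsg.Agent.GH.U
import Cfsg.Agent.GH.HamP
import Cfsg.Agent.SR4.A5C
import Cfsg.Agent.SR4.L3D

/-! The case of an elementary abelian critical subgroup with automiser containing A5. See `stubs/Cfsg/Agent/GH/PLAN_CI.md`. -/

set_option autoImplicit false
set_option linter.unusedSectionVars false
set_option synthInstance.maxSize 100000

namespace Cfsg.Agent.GH

open Cfsg.Agent.Inv.Fz Cfsg.Agent.NE Subgroup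
open scoped commutatorElement

universe u
variable {G X : Type u} [Group G] [Finite G] [Group X] [Finite X] {T : Subgroup G}

namespace CIb

open Cfsg.Agent.SR4 Cfsg.Agent.P4 Cfsg.Agent.Loc.Mss
open Cfsg.Agent.Inv.U3 (HQ)
open Cfsg.Agent.Std.W (K4 om)

/-- Coordinates on `E4`. -/
def e0 : B4 →* U := MonoidHom.mk' (fun v => ⟨false, v.a, false, v.b, v.c, v.d⟩) (by decide)

/-- The action of the unitriangular group on `E4` in coordinates. -/
def act (s : U) (v : B4) : B4 :=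
  ⟨(s * e0 v * s⁻¹).b, (s * e0 v * s⁻¹).d, (s * e0 v * s⁻¹).e, (s * e0 v * s⁻¹).f⟩

/-- The transvection. -/
def tv (v : B4) : B4 := ⟨v.a, v.b, v.c, v.d ^^ v.a⟩

theorem act_eq : ∀ s v, e0 (act s v) = s * e0 v * s⁻¹ := by decide +kernel

theorem fin1 : ∀ p q : B4, p * (q * (1 * 1)) = act ga (p * (1 * (1 * 1))) →
    ∀ r : B4, p * (1 * (r * 1)) = act gc (p * (1 * (1 * 1))) →
    ∀ s : B4, 1 * (q * (1 * s)) = act gc (1 * (q * (1 * 1))) → (∀ v, li p q r s v = 1 → v = 1) →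
    ∃ k, (∀ v, li p q r s (act k v) = v) ∨ ∀ v, li p q r s (act k v) = tv v := by decide +kernel

theorem fin2 : ∀ p q : B4, 1 * (q * (1 * 1)) = act ga (1 * (q * (1 * 1))) →
    ∀ r : B4, 1 * (1 * (r * 1)) = act ga (1 * (1 * (r * 1))) →
    ∀ s : B4, 1 * (1 * (1 * s)) = act ga (1 * (1 * (1 * s))) → ¬ ∀ v, li p q r s v = 1 → v = 1 := by decide +kernel

variable {Q : Subgroup X} {e : B4 →* X}

theorem ac_inj (h : E16 Q e) {x : X} {α : B4 → B4} (a : Ac e x α) (v : B4) (k : α v = 1) : v = 1 := by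
  have := a v
  rw [k, map_one, conj_eq_one_iff, map_eq_one_iff _ h.inj] at this
  exact this

theorem ac_mod [Q.Normal] (h : E16 Q e) {x y : X} {α β : B4 → B4} (a : Ac e x α) (b : Ac e y β)
    (k : QuotientGroup.mk' Q x = QuotientGroup.mk' Q y) (v : B4) : α v = β v := by
  obtain ⟨z, hz, rfl⟩ := (QuotientGroup.mk'_eq_mk' Q).1 k
  obtain ⟨m, rfl⟩ := h.rng.ge hz
  have := ((a.mul (ac_in m)).congr (ψ := α) fun i => congrArg α (mul_inv_cancel_comm ..)) v
  rw [b v] at this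
  exact (h.inj this).symm

theorem ord2 [Q.Normal] (h : E16 Q e) {x : X} {α : B4 → B4} (a : Ac e x α) (k1 : ∀ v, α (α v) = v) (k2 : ¬ ∀ v, α v = v) :
    orderOf (QuotientGroup.mk' Q x) = 2 := by
  obtain ⟨m, hm⟩ := h.ex (a.mul a) k1
  refine orderOf_eq_prime ?_ fun k => k2 (h.triv a (Inv.SR4L.mk_one.1 k))
  rw [pow_two, ← map_mul, ← hm]
  exact Inv.SR4L.mk_one.2 (h.mem m)

theorem orth_sy (fa : FA X) (hC : centralizer (pCore 2 X : Set X) ≤ pCore 2 X) {ψ : U →* X} (hi : Function.Injective ψ)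
    (hE : E4.map ψ = pCore 2 X) : Sy ψ ⊤ ⊤ := by
  obtain ⟨S, le, hS⟩ := Syl.exists_ge ((IsPGroup.of_card (p := 2) (n := 6) U.card).of_surjective _ ψ.rangeRestrict_surjective)
    le_top
  have h : E16 (pCore 2 X) (ψ.comp e0) := by
    refine ⟨hi.comp (show ∀ a b, e0 a = e0 b → a = b by decide +kernel), le_antisymm ?_ fun x hx => ?_, inferInstance, hC⟩
    · rintro _ ⟨v, rfl⟩
      exact hE.le (mem_map_of_mem ψ (show e0 v ∈ E4 from ⟨rfl, rfl⟩))
    · obtain ⟨p, hp, rfl⟩ := hE.ge hx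
      obtain ⟨v, rfl⟩ := (by decide +kernel : ∀ p ∈ E4, ∃ v, e0 v = p) p hp
      exact ⟨v, rfl⟩
  have aS : ∀ s, Ac (ψ.comp e0) (ψ s) (act s) := fun s v => by
    simp only [MonoidHom.comp_apply, act_eq, map_mul, map_inv]
  refine sy_of hi hS le fun g hg => ?_
  obtain ⟨p, q, r, s, a⟩ := h.mat g
  have cm : ∀ t : U, t * t = 1 → ∀ v, li p q r s (act t v) = act t (li p q r s v) := fun t t2 v =>
    ac_mod h (a.mul (aS t)) ((aS t).mul a) (by
      rw [map_mul, map_mul]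
      exact (fa.cen (S.map (QuotientGroup.mk' _)) (hS.pg.map _) _ (mem_map_of_mem _ (le ⟨t, rfl⟩))
        (by rw [← map_mul, ← map_mul, t2, map_one, map_one]) _ (mem_map_of_mem _ hg)).symm) v
  obtain ⟨k, hk | hk⟩ := fin1 p q (cm ga (by decide) (n4 1)) r (cm gc (by decide) (n4 1)) s (cm gc (by decide) (n4 2))
    (ac_inj h a)
  · obtain ⟨m, hm⟩ := h.ex (a.mul (aS k)) hk
    exact ⟨e0 m * k⁻¹, by rw [map_mul, map_inv, ← MonoidHom.comp_apply, hm, mul_inv_cancel_right]⟩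
  exfalso
  have a' : Ac (ψ.comp e0) (g * ψ k) tv := (a.mul (aS k)).congr hk
  obtain ⟨x, hx⟩ := isConj_iff.1 (fa.conj _ _ (ord2 h a' (by decide) (by decide))
    (ord2 h (aS ga) (by decide +kernel) (by decide +kernel)))
  obtain ⟨x, rfl⟩ := QuotientGroup.mk'_surjective _ x
  obtain ⟨p', q', r', s', b⟩ := h.mat x
  have c2 := ac_mod h (b.mul a') ((aS ga).mul b) (by rw [map_mul, map_mul _ _ x, ← hx, inv_mul_cancel_right])
  exact fin2 p' q' (c2 (n4 2)) r' (c2 (n4 4)) s' (c2 (n4 8)) (ac_inj h b)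

theorem card_FH : Nat.card FH = 16 := by
  rw [Nat.card_congr (⟨fun x => (x.1.b, x.1.c), fun y => ⟨⟨0, y.1, y.2⟩, rfl⟩,
    fun x => Subtype.ext (HQ.ext x.2.symm rfl rfl), fun _ => rfl⟩ : FH ≃ K4 × K4), Nat.card_prod, Cl.natCard_GF4]

theorem el_map {P : Type*} [Group P] {ι : P →* G} (hi : Function.Injective ι) {A : Subgroup P} {n : ℕ}
    (h1 : Nat.card A = n) (h2 : ∀ a ∈ A, a * a = 1) : El n (A.map ι) :=
  ⟨by rw [card_map_of_injective hi, h1], by rintro _ ⟨a, ha, rfl⟩; rw [← map_mul, h2 a ha, map_one]⟩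

end CIb

open Cfsg.Agent.SR4 Cfsg.Agent.P4 Cfsg.Agent.Loc.Mss CIb in
theorem Ctx.not_e16 (c : Ctx G) {f : normalizer (T : Set G) →* X} (F : SR4.Fr T f) (fa : FA X)
    (h1 : IsElementaryAbelian 2 (pCore 2 X)) (h2 : Nat.card (pCore 2 X) = 16) : False := by
  have hC := F.con.charP F.oX
  obtain ⟨e, γ, a, c', k, aγ, aa, ac | ac⟩ := exists_a5 (fun q hq => by rw [← pow_two]; exact h1.2 q hq) h2 hC fa.a5
  · obtain ⟨ψ, hi, hE, -⟩ := k.orth aγ aa ac
    have s := orth_sy fa hC hi hE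
    obtain ⟨ι, R, L⟩ := F.lift hi (IsPGroup.of_card (n := 6) U.card) (hE ▸ map_le_range _ _)
    have hT : E4.map ι = T := by rw [← L.hT, ← hE, comap_map_eq_self_of_injective hi]
    have hle : R ≤ ι.range := by
      by_contra hle
      obtain ⟨r, hr, r1, φ, w, a, -⟩ := stepA L.inj L.syl.pg L.le hle
      exact r1 (L.normR s r hr (hT ▸ a.norm fun p => aut_E4 φ))
    have c16 : Nat.card E4 = 16 := by rw [← card_map_of_injective hi, hE, h2]
    refine Ctx.not_ut4 { c with S := R, syl := Std.W.syl_iff.1 L.syl } (A := E4.map ι) (el_map L.inj c16 (by decide +kernel))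
      ((map_le_range _ _).trans L.le) (fun y hy => ?_) ?_ (fun y hy => ?_) (L.mR ga) (L.mR gc)
      (mem_map_of_mem ι (show gb ∈ E4 from ⟨rfl, rfl⟩)) ?_
    · obtain ⟨p, rfl⟩ := hle hy
      exact hT ▸ L.mem p
    · show Nat.card R = 64
      rw [le_antisymm hle L.le, ← Nat.card_congr (MonoidHom.ofInjective L.inj).toEquiv, U.card]
    · obtain ⟨p, rfl⟩ := hle hy
      exact ⟨p * p, (by decide +kernel : ∀ p : U, p * p ∈ E4) p, map_mul ..⟩
    · rw [← map_commutatorElement, ← map_commutatorElement, ne_eq, map_eq_one_iff _ L.inj, commutatorElement_def,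
        commutatorElement_def]
      decide +kernel
  obtain ⟨ψ, ρ, n⟩ := k.nat aγ aa ac
  obtain ⟨ι, R, L⟩ := F.lift n.inj (IsPGroup.of_card (n := 6) card_HQ) (n.mE ▸ map_le_range _ _)
  have c16 : Nat.card EH = 16 := by rw [← card_map_of_injective n.inj, n.mE, h2]
  refine Ctx.not_l34 { c with S := R, syl := Std.W.syl_iff.1 L.syl } (A := EH.map ι) (B := FH.map ι) (U := (EH ⊓ FH).map ι)
    ⟨(map_le_range _ _).trans L.le, (map_le_range _ _).trans L.le, el_map L.inj c16 (by decide +kernel),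
      el_map L.inj card_FH (by decide +kernel), el_map L.inj card_ZH fun a ha => (by decide +kernel : ∀ a ∈ EH, a * a = 1) a ha.1,
      map_mono inf_le_left, map_mono inf_le_right, ?_, ?_⟩ ?_
  · rintro _ ⟨a, ha, rfl⟩ _ ⟨b, hb, rfl⟩
    rw [← map_commutatorElement]
    exact mem_map_of_mem ι ((by decide +kernel : ∀ a ∈ EH, ∀ b ∈ FH, a * b * a⁻¹ * b⁻¹ ∈ EH ∧ a * b * a⁻¹ * b⁻¹ ∈ FH) a ha b hb)
  · rintro _ ⟨a, ha, rfl⟩ _ ⟨b, hb, rfl⟩ hc
    rw [← map_mul, ← map_mul, L.inj.eq_iff] at hc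
    rcases (by decide +kernel : ∀ a ∈ EH, ∀ b ∈ FH, a * b = b * a → a ∈ FH ∨ b ∈ EH) a ha b hb hc with k | k
    exacts [.inl (mem_map_of_mem ι ⟨ha, k⟩), .inr (mem_map_of_mem ι ⟨k, hb⟩)]
  · rintro _ ⟨x, hx, rfl⟩ _ ⟨y, hy, rfl⟩ x1 y1
    obtain ⟨g, -, hg⟩ := L.fu (n.fu x hx y hy (fun e => x1 (by rw [e, map_one])) fun e => y1 (by rw [e, map_one]))
    exact isConj_iff.2 ⟨g, hg⟩

end Cfsg.Agent.GH
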