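import Mathlib
import Cfsg.Agent.GH.CIDefs
import Cfsg.Agent.GH.CIe
import Cfsg.Agent.Loc.BlkSec

/-! The cyclic case: c is one Jordan block. See `stubs/Cfsg/Agent/GH/PLAN_CI.md`. -/

set_option autoImplicit false
set_option linter.unusedSectionVars false

namespace Cfsg.Agent.GH

open Cfsg.Agent.Inv.Fz Cfsg.Agent.NE Subgroup
open scoped commutatorElement

variable {G : Type*} [Group G] [Finite G] {P R K L : Subgroup G} {c a g y : G}

namespace CIf

open Cfsg.Agent.Loc.Blk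

theorem sq2 {E : Type*} [Ring E] (h : ∀ f : E, f + f = 0) (u : E) : (u - 1) * (u - 1) = u * u - 1 := by
  have : (u - 1) * (u - 1) = u * u - 1 + (1 + 1) - (u + u) := by noncomm_ring
  rw [this, h, h, add_zero, sub_zero]

variable {A : Type*} [AddCommGroup A]

theorem four [Finite A] (two : ∀ x : A, x + x = 0) {W : AddSubgroup A} (h4 : Nat.card W = 4) {z y w : A} (hz : z ∈ W)
    (hy : y ∈ W) (hw : w ∈ W) (z0 : z ≠ 0) (y0 : y ≠ 0) (yz : y ≠ z) (w0 : w ≠ 0) (wz : w ≠ z) :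
    w = y ∨ w = y + z := by
  by_contra hn
  rw [not_or] at hn
  have h1 : ({w, y + z, y, z, 0} : Set A).ncard ≤ (W : Set A).ncard := Set.ncard_le_ncard (by
    rintro x (rfl | rfl | rfl | rfl | rfl)
    exacts [hw, add_mem hy hz, hy, hz, zero_mem W])
  have h2 : y + z ≠ 0 := fun e => yz (add_right_cancel (e.trans (two z).symm))
  rw [Set.ncard_insert_of_notMem (by simp [hn.1, hn.2, w0, wz]), Set.ncard_insert_of_notMem (by simp [h2, y0, z0]),
    Set.ncard_insert_of_notMem (by simp [y0, yz]), Set.ncard_pair z0] at h1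
  exact absurd (h1.trans_eq h4) (by norm_num)

theorem move [Finite A] (two : ∀ x : A, x + x = 0) {W : AddSubgroup A} (h4 : Nat.card W = 4) {z : A} (hz : z ∈ W)
    (z0 : z ≠ 0) {u : AddMonoid.End A} (ui : Function.Injective u) (uW : ∀ x ∈ W, u x ∈ W) (uz : u z = z) {x : A}
    (hx : x ∈ W) (hm : u x ≠ x) {y : A} (hy : y ∈ W) (y0 : y ≠ 0) (yz : y ≠ z) : u y = y + z := by
  have x0 : x ≠ 0 := fun e => hm (by rw [e, map_zero])
  have xz : x ≠ z := fun e => hm (by rw [e, uz])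
  have e := (four two h4 hz hx (uW x hx) z0 x0 xz (fun e => x0 (ui (e.trans (map_zero u).symm)))
    fun e => xz (ui (e.trans uz.symm))).resolve_left hm
  rcases four two h4 hz hx hy z0 x0 xz y0 yz with rfl | rfl
  · exact e
  · rw [map_add, e, uz]

theorem card_eq [Finite A] (f : AddMonoid.End A) : Nat.card A = Nat.card f.range * Nat.card f.ker := by
  rw [AddSubgroup.card_eq_card_quotient_mul_card_addSubgroup f.ker,
    Nat.card_congr (QuotientAddGroup.quotientKerEquivRange f).toEquiv]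

theorem sq_mem (h : Cy P R c a) {t : G} (ht : t ∈ P) (e : t * g ∈ R) : t * t * (g * g) ∈ R := by
  have := mul_mem ((mem_normalizer_iff.1 (h.nm ht) _).1 e) e
  rwa [show t * (t * g) * t⁻¹ * (t * g) = t * t * (g * g) by group] at this

theorem cm_le {W : Subgroup G} (hW : W ≤ R) (h1 : ∀ r ∈ R, ⁅c, r⁆ ∈ W) (h2 : ∀ r ∈ R, ∀ r' ∈ R, ⁅r, r'⁆ ∈ W)
    (h3 : ∀ g ∈ P, ∃ i : ℕ, c ^ i * g ∈ R) : ⁅P, P⁆ ≤ W := by
  obtain ⟨f, -, hf⟩ := exists_quo W
  have cn : c ∈ normalizer (W : Set G) := BsA.norm_of_comm fun y hy => h1 y (hW hy)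
  have rn : R ≤ normalizer (W : Set G) := fun r hr => BsA.norm_of_comm fun y hy => h2 r hr y (hW hy)
  have key : ∀ u v : normalizer (W : Set G), Commute (f u) (f v) ↔ ⁅(u : G), (v : G)⁆ ∈ W := fun u v => by
    rw [← commutatorElement_eq_one_iff_commute, ← map_commutatorElement, hf]; rfl
  refine commutator_le.2 fun u hu v hv => ?_
  obtain ⟨i, hi⟩ := h3 u hu
  obtain ⟨j, hj⟩ := h3 v hv
  have := (key ((⟨c, cn⟩ ^ i)⁻¹ * ⟨_, rn hi⟩) ((⟨c, cn⟩ ^ j)⁻¹ * ⟨_, rn hj⟩)).1 (by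
    simp only [map_mul, map_inv, map_pow]
    have a1 := (key ⟨c, cn⟩ ⟨_, rn hi⟩).2 (h1 _ hi)
    have a2 := (key ⟨c, cn⟩ ⟨_, rn hj⟩).2 (h1 _ hj)
    have a3 := (key ⟨_, rn hi⟩ ⟨_, rn hj⟩).2 (h2 _ hi _ hj)
    exact ((Commute.pow_pow_self _ i j).inv_inv.mul_right (a2.pow_left i).inv_left).mul_left
      ((a1.symm.pow_right j).inv_right.mul_right a3))
  simpa using this

variable {φ : G → A} {α : G → AddMonoid.End A} (h : Cy P R c a) (D : Sec R (phi R) φ α)
include h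

theorem n2 (hg : g ∈ P) : g ∈ normalizer (R : Set G) ⊓ normalizer (phi R : Set G) := ⟨h.nm hg, norm_phi (h.nm hg)⟩

theorem cc : c * c ∈ P := mul_mem h.mem h.mem

include D

theorem two (x : A) : x + x = 0 := by
  obtain ⟨v, hv, rfl⟩ := D.surj x
  rw [← D.mul v hv v hv]
  exact D.of_mem (mem_phi hv)

theorem two' (f : AddMonoid.End A) : f + f = 0 := end_ext fun x => two h D (f x)

theorem aR (hg : g ∈ R) : α g = 1 :=
  D.ext fun _ hv => (D.comm_mem_iff (n2 h (h.le hg)) hv).1 (comm_mem_phi hg hv)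

theorem cardA : Nat.card A = 16 :=
  Nat.eq_of_mul_eq_mul_right Nat.card_pos (D.card.symm.trans h.top.1)

theorem ss : α (c * c) * α (c * c) = 1 := by
  rw [← D.a_mul (n2 h (cc h)) (n2 h (cc h)), aR h D h.tri.ss]

theorem dd (x : A) : (α (c * c) - 1) ((α (c * c) - 1) x) = 0 := by
  rw [← end_mul, sq2 (two' h D), ss h D, sub_self]; rfl

theorem ker_le {x : A} (hx : (α (c * c) - 1) x = 0) : ∃ u, (α (c * c) - 1) u = x := by
  obtain ⟨v, hv, rfl⟩ := D.surj x
  obtain ⟨u, hu, e⟩ := h.top.2.2 v hv ((D.comm_mem_iff (n2 h (cc h)) hv).2 (sub_eq_zero.1 hx))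
  have e1 := D.of_mem e
  rw [D.mul _ (inv_mem hv) _ (D.comm_mem (n2 h (cc h)) hu), D.inv hv, D.φ_comm (n2 h (cc h)) hu] at e1
  exact ⟨φ u, (neg_add_eq_zero.1 e1).symm⟩

theorem card_ker : Nat.card (α (c * c) - 1).ker = 4 := by
  have := D.finite
  have e : (α (c * c) - 1).range = (α (c * c) - 1).ker :=
    le_antisymm (by rintro _ ⟨x, rfl⟩; exact dd h D x) fun x hx => ker_le h D hx
  have := card_eq (α (c * c) - 1)
  rw [cardA h D, e] at this
  exact (Nat.mul_self_inj.1 this).symm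

theorem nn (hg : g ∈ P) (h2 : c * c * (g * g) ∈ R) (x : A) : (α g - 1) ((α g - 1) x) = (α (c * c) - 1) x := by
  have e := aR h D h2
  rw [D.a_mul (n2 h (cc h)) (n2 h (mul_mem hg hg)), D.a_mul (n2 h hg) (n2 h hg)] at e
  rw [← end_mul, sq2 (two' h D), ← one_mul (α g * α g), ← ss h D, mul_assoc, e, mul_one]

theorem j3 (hg : g ∈ P) (h2 : c * c * (g * g) ∈ R) : ∃ x, (α (c * c) - 1) ((α g - 1) x) ≠ 0 := by
  by_contra hn
  simp only [not_exists, not_not] at hn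
  have h1 : ∀ x, (α g - 1) x = 0 := fun x => by
    obtain ⟨u, e⟩ := ker_le h D (hn x)
    obtain ⟨u', e'⟩ := ker_le h D (hn u)
    rw [← e, ← nn h D hg h2, ← e', ← nn h D hg h2, nn h D hg h2, hn]
  have h3 : ∀ x : A, x = 0 := fun x => by
    obtain ⟨u, e⟩ := ker_le h D (x := x) (by rw [← nn h D hg h2, h1])
    rw [← e, ← nn h D hg h2, h1]
  have : Subsingleton A := ⟨fun x y => (h3 x).trans (h3 y).symm⟩
  exact absurd ((cardA h D).symm.trans (Nat.card_of_subsingleton (0 : A))) (by norm_num)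

theorem cmm (hg : g ∈ P) (x : A) : (α (c * c) - 1) (α g x) = α g ((α (c * c) - 1) x) := by
  have m : g * (c * c) * g⁻¹ ∈ P := mul_mem (mul_mem hg (cc h)) (inv_mem hg)
  have e := aR h D ((h.uq _ m (by
    rw [conj_mul]; exact (mem_normalizer_iff.1 (h.nm hg) _).1 h.tri.ss)).resolve_left
      fun e => h.tri.s_not ((mem_normalizer_iff.1 (h.nm hg) _).2 e))
  rw [D.a_mul (n2 h (cc h)) (n2 h m), D.a_mul (n2 h (mul_mem hg (cc h))) (n2 h (inv_mem hg)),
    D.a_mul (n2 h hg) (n2 h (cc h))] at e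
  have e1 : α (c * c) * α g = α g * α (c * c) := by
    calc α (c * c) * α g = α (c * c) * (α (c * c) * (α g * α (c * c) * α g⁻¹)) * α g := by rw [e, mul_one]
      _ = α (c * c) * α (c * c) * (α g * α (c * c)) * (α g⁻¹ * α g) := by simp only [mul_assoc]
      _ = _ := by rw [ss h D, D.a_inv_mul (n2 h hg), one_mul, mul_one]
  rw [← end_mul, ← end_mul, sub_mul, mul_sub, e1, one_mul, mul_one]

theorem exists_z : ∃ z ∈ (α (c * c) - 1).ker, z ≠ 0 ∧ ∀ g ∈ P, α g z = z := by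
  obtain ⟨x, hx, h1, -, h2⟩ := NE.exists_central_mod (S := P) (N := phi R) (K := D.pre (α (c * c) - 1).ker) h.p
    (fun g hg => (n2 h hg).2) (fun g hg => h.le (D.mem_pre.1 hg).1) (fun g hg => BsA.norm_of_comm fun y hy => by
      obtain ⟨hy, e⟩ := D.mem_pre.1 hy
      refine D.mem_pre.2 ⟨D.comm_mem (n2 h hg) hy, ?_⟩
      rw [D.φ_comm (n2 h hg) hy]
      refine sub_mem ?_ e
      exact (cmm h D hg _).trans (by rw [show (α (c * c) - 1) (φ y) = 0 from e, map_zero])) fun hle => by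
    obtain ⟨x, hx⟩ := j3 h D h.mem h.tri.ss
    obtain ⟨v, hv, e⟩ := D.surj ((α (c * c) - 1) ((α c - 1) x))
    exact hx (e.symm.trans (D.of_mem (hle (D.mem_pre.2 ⟨hv, e ▸ dd h D _⟩))))
  obtain ⟨hx, e⟩ := D.mem_pre.1 hx
  exact ⟨φ x, e, fun e => h1 ((D.ker x hx).1 e), fun g hg => (D.comm_mem_iff (n2 h hg) hx).1 (h2 g hg)⟩

/-- the elements that act trivially on the upper half -/
def P0 : Subgroup G where
  carrier := {g | g ∈ P ∧ ∀ x, (α (c * c) - 1) (α g x) = (α (c * c) - 1) x}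
  one_mem' := ⟨one_mem P, fun x => by rw [D.a_one, end_one]⟩
  mul_mem' := fun ⟨hu, hu'⟩ ⟨hv, hv'⟩ => ⟨mul_mem hu hv, fun x => by rw [D.a_mul (n2 h hu) (n2 h hv), end_mul, hu', hv']⟩
  inv_mem' := fun ⟨hu, hu'⟩ => ⟨inv_mem hu, fun x => by rw [← hu', D.a_apply_inv (n2 h hu)]⟩

theorem not_P0 (h2 : c * c * (g * g) ∈ R) : g ∉ P0 h D := fun hg => by
  obtain ⟨x, hx⟩ := j3 h D hg.1 h2
  exact hx (by rw [end_sub (α g), _root_.map_sub, hg.2, end_one, sub_self])

theorem ix1 : Ix P (P0 h D) c := fun g hg => by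
  have := D.finite
  refine or_iff_not_imp_left.2 fun hn => ⟨mul_mem h.mem hg, fun x => ?_⟩
  obtain ⟨z, hz, z0, fz⟩ := exists_z h D
  have key : ∀ g ∈ P, g ∉ P0 h D → ∀ y ∈ (α (c * c) - 1).ker, y ≠ 0 → y ≠ z → α g y = y + z := fun g hg hn y hy y0 yz => by
    obtain ⟨x, hx⟩ := not_forall.1 fun e => hn ⟨hg, e⟩
    rw [cmm h D hg] at hx
    refine move (two h D) (card_ker h D) hz z0 (D.a_injective (n2 h hg)) (fun y hy => ?_) (fz g hg) (dd h D x) hx hy y0 yz
    exact (cmm h D hg _).trans (by rw [show (α (c * c) - 1) y = 0 from hy, map_zero])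
  rw [cmm h D (mul_mem h.mem hg), D.a_mul (n2 h h.mem) (n2 h hg), end_mul]
  by_cases y0 : (α (c * c) - 1) x = 0
  · rw [y0, map_zero, map_zero]
  by_cases yz : (α (c * c) - 1) x = z
  · rw [yz, fz g hg, fz c h.mem]
  rw [key g hg hn _ (dd h D x) y0 yz, map_add, key c h.mem (not_P0 h D h.tri.ss) _ (dd h D x) y0 yz, fz c h.mem,
    add_assoc, two h D, add_zero]

theorem ix2 : Ix (P0 h D) R (c * c) := fun g hg => by
  have key : ∀ k : ℕ, ∀ g ∈ P0 h D, g ^ 2 ^ k ∈ R → g * g ∈ R := fun k => by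
    induction k with
    | zero => exact fun g _ e => by rw [pow_zero, pow_one] at e; exact mul_mem e e
    | succ k ih =>
      refine fun g hg e => (h.uq _ (mul_mem hg.1 hg.1) (ih _ (mul_mem hg hg) ?_)).resolve_right fun e => not_P0 h D e hg
      rwa [← pow_two, ← pow_mul, ← pow_succ']
  obtain ⟨k, hk⟩ := h.p ⟨g, hg.1⟩
  exact h.uq g hg.1 (key k g hg (by rw [show g ^ 2 ^ k = 1 from congrArg Subtype.val hk]; exact one_mem _))

theorem card : Nat.card P = 4 * Nat.card R := by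
  rw [(ix1 h D).card (fun g hg => hg.1) h.mem (not_P0 h D h.tri.ss),
    (ix2 h D).card (fun g hg => ⟨h.le hg, fun x => by rw [aR h D hg, end_one]⟩) ⟨cc h, fun x => by
      rw [← sub_eq_zero, ← _root_.map_sub]; exact dd h D x⟩ h.tri.s_not]
  omega

theorem card_n : Nat.card (α c - 1).range = 8 := by
  have := D.finite
  obtain ⟨x, hx⟩ := j3 h D h.mem h.tri.ss
  have e := card_eq (α c - 1)
  rw [cardA h D] at e
  have h1 : 1 < Nat.card (α c - 1).ker := by
    refine (AddSubgroup.one_lt_card_iff_ne_bot _).2 fun e => hx ((AddSubgroup.eq_bot_iff_forall _).1 e _ ?_)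
    change (α c - 1) _ = 0
    rw [← nn h D h.mem h.tri.ss, nn h D h.mem h.tri.ss, nn h D h.mem h.tri.ss, dd h D]
  have h2 : (α (c * c) - 1).ker ≤ (α c - 1).range := fun y hy =>
    let ⟨u, e⟩ := ker_le h D hy
    ⟨_, (nn h D h.mem h.tri.ss u).trans e⟩
  have h3 : ¬ Nat.card (α c - 1).range ≤ 4 := fun h3 =>
    hx ((AddSubgroup.eq_of_le_of_card_ge h2 (h3.trans_eq (card_ker h D).symm)).ge ⟨x, rfl⟩)
  have h4 : Nat.card (α c - 1).range ≤ 8 := by nlinarith
  have h5 : Nat.card (α c - 1).range ∣ 16 := ⟨_, e⟩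
  generalize Nat.card (α c - 1).range = m at h3 h4 h5
  interval_cases m <;> first | rfl | omega

omit h D in
theorem ex.{u} {G : Type u} [Group G] [Finite G] (R : Subgroup G) :
    ∃ (A : Type u) (_ : AddCommGroup A) (φ : G → A) (α : G → AddMonoid.End A), Sec R (phi R) φ α :=
  exists_sec_of_comm phi_le (commutator_le.2 fun _ hu _ hv => comm_mem_phi hu hv)

end CIf

open CIf

theorem Cy.j3 (h : Cy P R c a) (hg : g ∈ P) (h2 : c * c * (g * g) ∈ R) : ∃ e ∈ R, ⁅c * c, ⁅g, e⁆⁆ ∉ phi R := by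
  obtain ⟨A, _, φ, α, D⟩ := ex R
  obtain ⟨x, hx⟩ := CIf.j3 h D hg h2
  obtain ⟨e, he, rfl⟩ := D.surj x
  refine ⟨e, he, fun h1 => hx ?_⟩
  rw [D.comm_mem_iff (n2 h (cc h)) (D.comm_mem (n2 h hg) he), D.φ_comm (n2 h hg) he] at h1
  exact sub_eq_zero.2 h1

theorem Cy.ix (h : Cy P R c a) (hg : g ∈ P) : g ∈ R ∨ c * g ∈ R ∨ c * c * g ∈ R ∨ c * c * c * g ∈ R := by
  obtain ⟨A, _, φ, α, D⟩ := ex R
  rcases ix1 h D g hg with e | e <;> rcases ix2 h D _ e with e | e
  exacts [.inl e, .inr (.inr (.inl e)), .inr (.inl e), .inr (.inr (.inr (mul_assoc (c * c) c g ▸ e)))]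

theorem Cy.sq_or (h : Cy P R c a) (hg : g ∈ P) : g * g ∈ R ∨ c * c * (g * g) ∈ R := by
  rcases h.ix hg with e | e | e | e
  · exact .inl (mul_mem e e)
  · exact .inr (sq_mem h h.mem e)
  · exact .inl ((mul_mem_cancel_left h.tri.ss).1 (sq_mem h (cc h) e))
  · have := sq_mem h (mul_mem (cc h) h.mem) e
    rw [show c * c * c * (c * c * c) * (g * g) = c * c * (c * c) * (c * c * (g * g)) by simp only [mul_assoc]] at this
    exact .inr ((mul_mem_cancel_left h.tri.ss).1 this)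

theorem CIf.ix' (h : Cy P R c a) (g : G) (hg : g ∈ P) : ∃ i : ℕ, c ^ i * g ∈ R := by
  rcases h.ix hg with e | e | e | e
  exacts [⟨0, by rwa [pow_zero, one_mul]⟩, ⟨1, by rwa [pow_one]⟩, ⟨2, by rwa [pow_two]⟩, ⟨3, by rwa [pow_three']⟩]

theorem Cy.der_le (h : Cy P R c a) : ⁅P, P⁆ ≤ R :=
  cm_le le_rfl (fun r hr => mul_mem ((mem_normalizer_iff.1 (h.nm h.mem) _).1 hr) (inv_mem hr))
    (fun _ hr _ hr' => phi_le (comm_mem_phi hr hr')) (ix' h)

theorem Cy.card (h : Cy P R c a) : Nat.card P = 4 * Nat.card R := by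
  obtain ⟨A, _, φ, α, D⟩ := ex R
  exact CIf.card h D

theorem Cy.card_der (h : Cy P R c a) : Nat.card R = 2 * Nat.card (⁅P, P⁆ : Subgroup G) := by
  obtain ⟨A, _, φ, α, D⟩ := ex R
  have le : D.pre (α c - 1).range ≤ R := fun _ hg => (D.mem_pre.1 hg).1
  have le' : phi R ≤ D.pre (α c - 1).range := fun g hg => D.mem_pre.2 ⟨phi_le hg, D.of_mem hg ▸ zero_mem _⟩
  have e : ⁅P, P⁆ = D.pre (α c - 1).range := by
    refine le_antisymm (cm_le le (fun r hr => D.mem_pre.2 ⟨D.comm_mem (n2 h h.mem) hr, φ r, ?_⟩)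
      (fun _ hr _ hr' => le' (comm_mem_phi hr hr')) (ix' h)) fun w hw => ?_
    · exact (D.φ_comm (n2 h h.mem) hr).symm
    obtain ⟨hw, x, e⟩ := D.mem_pre.1 hw
    obtain ⟨u, hu, rfl⟩ := D.surj x
    have e' := (D.eq_iff hw (D.comm_mem (n2 h h.mem) hu)).1 (e.symm.trans (D.φ_comm (n2 h h.mem) hu).symm)
    exact (mul_mem_cancel_right (inv_mem (commutator_mem_commutator h.mem (h.le hu)))).1
      (commutator_mono h.le h.le (h.phi_le_comm e'))
  have e2 : D.sub _ le = (α c - 1).range := AddSubgroup.ext fun x => by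
    obtain ⟨u, hu, rfl⟩ := D.surj x
    rw [D.φ_mem_sub le le' hu, D.mem_pre, and_iff_right hu]
  rw [e, D.card_sub le, e2, card_n h D, inf_eq_right.2 le', h.top.1]
  omega

end Cfsg.Agent.GH
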