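import Mathlib
import Cfsg.Agent.GH.Defs3
import Cfsg.Agent.GH.DihA
import Cfsg.Agent.GH.TriG
import Cfsg.Agent.GH.TriBa

/-! Groups of maximal class; products of dihedral and quaternion groups. See `stubs/Cfsg/Agent/GH/PLAN2.md`. -/

set_option autoImplicit false
set_option linter.unusedSectionVars false

namespace Cfsg.Agent.GH

open Cfsg.Agent.Inv.Fz Cfsg.Agent.NE Subgroup
open Cfsg.Agent.Loc.Mss (mem_cent cent_le_norm norm_cent norm_inf norm_sup conj_mem_of_norm conj_mem_of_norm')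
open scoped commutatorElement

variable {G : Type*} [Group G] [Finite G] {S R K N Θ Θ' H : Subgroup G} {x s g v a b a' b' y : G} {n n' : ℕ}

namespace DihB

theorem ex_even (h : g ∈ zpowers (a * a)) : ∃ k : ℤ, g = a ^ (2 * k) := by
  obtain ⟨k, rfl⟩ := h
  exact ⟨k, by rw [zpow_mul, zpow_two]⟩

theorem even_mem (a : G) (k : ℤ) : a ^ (2 * k) ∈ zpowers (a * a) := ⟨k, by rw [zpow_mul, zpow_two]⟩

theorem ex_odd (h : g ∈ zpowers a) (h' : g ∉ zpowers (a * a)) : ∃ k : ℤ, g = a ^ (2 * k + 1) := by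
  obtain ⟨i, rfl⟩ := h
  rcases Int.even_or_odd' i with ⟨k, rfl | rfl⟩
  · exact (h' (even_mem a k)).elim
  · exact ⟨k, rfl⟩

theorem sq_le : zpowers (a * a) ≤ zpowers a := zpowers_le.2 (mul_mem (mem_zpowers a) (mem_zpowers a))

theorem gen (ho : orderOf a = 2 ^ n) (h : g ∈ zpowers a) (h' : g ∉ zpowers (a * a)) : a ∈ zpowers g := by
  obtain ⟨i, rfl⟩ := mem_powers_iff_mem_zpowers.2 h
  refine DihA.odd_gen (ho ▸ pow_orderOf_eq_one a) (Nat.not_even_iff_odd.1 ?_)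
  rintro ⟨k, rfl⟩
  exact h' ⟨k, by simp only [zpow_natCast, ← pow_two, ← pow_mul, two_mul]⟩

theorem zz_sq (ho : orderOf a = 2 ^ n) (h1 : 1 ≤ n) : zz a n ≠ 1 ∧ zz a n * zz a n = 1 :=
  ⟨pow_ne_one_of_lt_orderOf (by positivity) (ho ▸ Nat.pow_lt_pow_right (by norm_num) (by omega)), by
    rw [← pow_two, ← pow_mul, ← pow_succ, show n - 1 + 1 = n by omega, ← ho, pow_orderOf_eq_one]⟩

theorem zA : zz a n ∈ zpowers a := pow_mem (mem_zpowers a) _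

theorem zA2 (h2 : 2 ≤ n) : zz a n ∈ zpowers (a * a) := by
  rw [zz, show n - 1 = n - 2 + 1 by omega, pow_succ', pow_mul, pow_two]
  exact pow_mem (mem_zpowers _) _

theorem inv_mem_z (ho : orderOf a = 2 ^ n) (h : g ∈ zpowers a) (h2 : g * g = 1) : g ∈ zpowers (zz a n) := by
  by_cases h1 : g = 1
  · exact h1 ▸ one_mem _
  rcases (mem_zpowers_sq h2).1 (zz_mem ho (zpowers_le.2 h) (mt zpowers_eq_bot.1 h1)) with e | e
  · rcases n with _ | n
    · exact (h1 (mem_bot.1 ((zpowers_eq_bot.2 (orderOf_eq_one_iff.1 ho)).le h))).elim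
    · exact ((zz_sq ho (by omega)).1 e).elim
  · exact e ▸ mem_zpowers _

theorem cj_z (ho : orderOf a = 2 ^ n) (h1 : 1 ≤ n) (hg : g ∈ normalizer (zpowers a : Set G)) :
    g * zz a n = zz a n * g := by
  obtain ⟨t, ht⟩ := DihA.act_all ho hg
  refine comm_of_conj_eq ((ht _ zA).trans ?_)
  rw [pow_succ, pow_mul, pow_two, (zz_sq ho h1).2, one_pow, one_mul]

theorem card_sq (ho : orderOf a = 2 ^ (n + 1)) : Nat.card (zpowers (a * a)) = 2 ^ n := by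
  rw [Nat.card_zpowers, ← pow_two, orderOf_pow_of_dvd two_ne_zero (ho ▸ dvd_pow_self 2 n.succ_ne_zero), ho, pow_succ,
    Nat.mul_div_cancel _ two_pos]

theorem exists_cen (hS : IsPGroup 2 S) (hK : K ≤ S) (hn : S ≤ normalizer (K : Set G)) (h1 : K ≠ ⊥) :
    ∃ c ∈ K, c ≠ 1 ∧ Cz c S := by
  obtain ⟨c, hc, c1, -, c2⟩ := exists_central_mod hS (N := ⊥) (fun g _ => mem_normalizer_of_conj_mem fun y hy => by
    rw [mem_bot.1 hy]; simp) hK hn fun e => h1 (le_bot_iff.1 e)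
  exact ⟨c, hc, fun e => c1 (mem_bot.2 e), fun r hr =>
    (commutatorElement_eq_one_iff_mul_comm.1 (mem_bot.1 (c2 r hr))).symm⟩

end DihB

open DihB

theorem three {b₁ b₂ b₃ : G} (ho : orderOf a = 2 ^ n) (i₁ : b₁ * a * b₁⁻¹ = a⁻¹) (i₂ : b₂ * a * b₂⁻¹ = a⁻¹)
    (i₃ : b₃ * a * b₃⁻¹ = a⁻¹) (q₁ : b₁ * b₁ ∈ zpowers (a * a)) (q₂ : b₂ * b₂ ∈ zpowers (a * a))
    (q₃ : b₃ * b₃ ∈ zpowers (a * a)) (c₁ : ⁅b₂, b₁⁆ ∈ zpowers a ∧ ⁅b₂, b₁⁆ ∉ zpowers (a * a))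
    (c₂ : ⁅b₃, b₁⁆ ∈ zpowers a ∧ ⁅b₃, b₁⁆ ∉ zpowers (a * a)) (c₃ : ⁅b₃, b₂⁆ ∈ zpowers a ∧ ⁅b₃, b₂⁆ ∉ zpowers (a * a)) :
    n = 1 ∧ b₁ * b₂ * b₃ * (b₁ * b₂ * b₃) = a ∧ b₁ * b₂ * b₃ * b₁ = b₁ * (b₁ * b₂ * b₃) := by
  obtain ⟨p, hp⟩ := ex_odd c₁.1 c₁.2
  obtain ⟨q, hq⟩ := ex_odd c₂.1 c₂.2
  obtain ⟨r, hr⟩ := ex_odd c₃.1 c₃.2
  obtain ⟨k₂, h₂⟩ := ex_even q₂
  obtain ⟨k₃, h₃⟩ := ex_even q₃
  have ca : b₂ * b₃ * a = a * (b₂ * b₃) := comm_of_conj_eq (by rw [← conj_conj, i₃, ← conj_inv, i₂, inv_inv])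
  have e1 : b₂ * b₃ * (b₂ * b₃) = a ^ (2 * (k₂ + k₃ - r - 1) + 1) := by
    calc _ = b₂ * ⁅b₃, b₂⁆ * b₂⁻¹ * (b₂ * b₂) * (b₃ * b₃) := by rw [commutatorElement_def]; group
      _ = _ := by rw [inverts_zpowers i₂ c₃.1, hr, h₂, h₃]; group
  have e2 : b₁ * (b₂ * b₃) * b₁⁻¹ = a ^ (2 * (q - p)) * (b₂ * b₃) := by
    calc _ = ⁅b₂, b₁⁆⁻¹ * (b₂ * ⁅b₃, b₁⁆⁻¹ * b₂⁻¹) * (b₂ * b₃) := by simp only [commutatorElement_def]; group
      _ = _ := by rw [inverts_zpowers i₂ (inv_mem c₂.1), hp, hq]; group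
  have e3 : a ^ (2 * (2 * (q - p + k₂ + k₃ - r - 1) + 1)) = 1 := by
    have k := inverts_zpowers i₁ (e1 ▸ zpow_mem_zpowers a _ : b₂ * b₃ * (b₂ * b₃) ∈ zpowers a)
    rw [conj_mul', e2, mul_assoc, ← mul_assoc (b₂ * b₃), comm_zpowers ca (zpow_mem_zpowers a _), mul_assoc, e1,
      eq_inv_iff_mul_eq_one] at k
    rw [← k]; group
  have n1 : n = 1 := by
    rcases n with _ | _ | n
    · exact (c₁.2 ((mem_bot.1 ((zpowers_eq_bot.2 (orderOf_eq_one_iff.1 ho)).le c₁.1)) ▸ one_mem _)).elim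
    · rfl
    · have := (show (4 : ℤ) ∣ (orderOf a : ℤ) from ⟨2 ^ n, by rw [ho]; push_cast; ring⟩).trans
        (orderOf_dvd_iff_zpow_eq_one.2 e3)
      omega
  have aa : a * a = 1 := by rw [← pow_two, ← pow_one 2, ← n1, ← ho, pow_orderOf_eq_one]
  have ev : ∀ k : ℤ, a ^ (2 * k) = 1 := fun k => by rw [zpow_mul, zpow_two, aa, one_zpow]
  rw [ev, one_mul] at e2
  rw [zpow_add_one, ev, one_mul] at e1
  have b1 : b₁ * b₁ = 1 := by obtain ⟨k, e⟩ := ex_even q₁; rw [e, ev]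
  replace e2 := comm_of_conj_eq e2
  refine ⟨n1, ?_, ?_⟩
  · rw [mul_assoc b₁, mul_assoc, ← mul_assoc (b₂ * b₃), ← e2, mul_assoc, sq_cancel b1, e1]
  · rw [mul_assoc b₁ b₂, mul_assoc, ← e2]

theorem DQ.double (h : DQ Θ a b n) (h' : DQ Θ' a' b' n) (e : zpowers a' = zpowers a) (hc : ⁅b', b⁆ ∈ zpowers a)
    (hn : ⁅b', b⁆ ∉ phi Θ) : zpowers (b * b' * (b * b')) = zpowers a ∧ zz (b * b') (n + 1) = zz a n ∧
      Mx (Θ ⊔ Θ') (b * b') b (n + 1) ∧ (b * b = b' * b' → DQ (Θ ⊔ Θ') (b * b') b (n + 1)) := by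
  have hp := h.pos
  have ez : zz a' n = zz a n := (h.regen e).2.1
  have pp : phi Θ' = phi Θ := by rw [h'.phi_eq, (h.regen e).1.phi_eq]
  have e1 : b * b' * (b * b') = ⁅b', b⁆⁻¹ * (b * b * (b' * b')) := by
    rw [← inverts_zpowers h.inv hc, commutatorElement_def]; group
  have m : b * b * (b' * b') ∈ phi Θ := mul_mem (mem_phi (DihA.bm h)) (pp ▸ mem_phi (DihA.bm h'))
  have g1 : zpowers (b * b' * (b * b')) = zpowers a := h.gen_of_not
    (e1 ▸ mul_mem (inv_mem hc) (DihA.phiA h m)) (e1 ▸ fun k => hn (inv_mem_iff.1 ((mul_mem_cancel_right m).1 k)))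
  have hz : zz (b * b') (n + 1) = zz a n := by
    rw [← (h.regen g1).2.1, zz, zz, ← pow_two, ← pow_mul, ← pow_succ', show n + 1 - 1 = n - 1 + 1 by omega]
  have ho : orderOf (b * b') = 2 ^ (n + 1) := orderOf_eq_prime_pow (fun k => h.zz_ne.1 (hz.symm.trans k)) (by
    rw [pow_succ', pow_mul, pow_two, ← (h.regen g1).1.ord, pow_orderOf_eq_one])
  have nm : b ∉ zpowers (b * b') := fun k => hn (by
    have := comm_zpowers (rfl : b * b' * (b * b') = _) k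
    rw [mul_assoc] at this
    rw [commutatorElement_eq_one_iff_mul_comm.2 (mul_left_cancel this)]
    exact one_mem _)
  have eq : Θ ⊔ Θ' = closure {b * b', b} := by
    have m1 : b * b' ∈ closure ({b * b', b} : Set G) := subset_closure (by simp)
    have m2 : b ∈ closure ({b * b', b} : Set G) := subset_closure (by simp)
    have m3 : zpowers a ≤ closure ({b * b', b} : Set G) := g1 ▸ zpowers_le.2 (mul_mem m1 m1)
    refine le_antisymm (sup_le (TriB.le_of_gen h.eq (m3 (mem_zpowers a)) m2)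
      (TriB.le_of_gen h'.eq (m3 (e ▸ mem_zpowers a')) ((mul_mem_cancel_left m2).1 m1)))
      (TriB.le_of_gen rfl (mul_mem_sup (DihA.bm h) (DihA.bm h')) (mem_sup_left (DihA.bm h)))
  have e2 : b * (b * b') * b⁻¹ = b * b * (b' * b') * (b * b')⁻¹ := by group
  have z2 := h.zz_ne.2.1
  have zc : zz a n * (b * b')⁻¹ = (b * b')⁻¹ * zz (b * b') (n + 1) := by
    rw [← hz]; exact (((Commute.refl (b * b')).inv_left.pow_right _)).eq.symm
  have sq : b * b = 1 ∨ b * b = zz (b * b') (n + 1) := h.sq.imp_right fun k => hz ▸ k.2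
  refine ⟨g1, hz, ⟨by omega, ho, ?_, nm, eq, sq⟩, fun k => ⟨by omega, ho, ?_, nm, eq, sq.imp_right fun k => ⟨by omega, k⟩⟩⟩
  · rw [e2]
    rcases h.sq with k | ⟨l, k⟩ <;> rcases h'.sq with k' | ⟨l', k'⟩ <;> rw [k, k']
    · exact .inl (by rw [one_mul, one_mul])
    · exact .inr ⟨by omega, by rw [one_mul, ez, zc]⟩
    · exact .inr ⟨by omega, by rw [mul_one, zc]⟩
    · exact .inl (by rw [ez, z2, one_mul])
  · rw [e2, ← k]
    rcases h.sq with k | ⟨l, k⟩ <;> rw [k]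
    · rw [one_mul, one_mul]
    · rw [z2, one_mul]

theorem DQ.mx (h : DQ Θ a b n) (h2 : 2 ≤ n) : Mx Θ a b n :=
  ⟨h2, h.ord, .inl h.inv, h.not_mem, h.eq, h.sq.imp_right And.right⟩

namespace DihB
variable (h : Mx H a b n)
include h

theorem am : a ∈ H := h.eq ▸ subset_closure (by simp)
theorem bm : b ∈ H := h.eq ▸ subset_closure (by simp)
theorem z2 : zz a n * zz a n = 1 := (zz_sq h.ord (by have := h.two; omega)).2
theorem z1 : zz a n ≠ 1 := (zz_sq h.ord (by have := h.two; omega)).1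

theorem act (hy : y ∈ zpowers a) : b * y * b⁻¹ * y ∈ zpowers (zz a n) := by
  rcases h.inv with e | ⟨-, e⟩
  · rw [inverts_zpowers e hy, inv_mul_cancel]; exact one_mem _
  · obtain ⟨i, rfl⟩ := hy
    have c : Commute a⁻¹ (zz a n) := (Commute.refl a).inv_left.pow_right _
    change b * a ^ i * b⁻¹ * a ^ i ∈ _
    rw [← conj_zpow, e, c.mul_zpow, (c.zpow_zpow i i).eq, mul_assoc, ← (Commute.refl a).inv_left.mul_zpow,
      inv_mul_cancel, one_zpow, mul_one]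
    exact zpow_mem_zpowers _ _

theorem act2 (hy : y ∈ zpowers (a * a)) : b * y * b⁻¹ = y⁻¹ := by
  refine inverts_zpowers ?_ hy
  rw [conj_mul', mul_inv_rev]
  rcases h.inv with e | ⟨-, e⟩ <;> rw [e]
  have c : Commute a⁻¹ (zz a n) := (Commute.refl a).inv_left.pow_right _
  rw [mul_assoc, c.eq, sq_cancel (z2 h)]

theorem bn : b ∈ normalizer (zpowers a : Set G) := mem_normalizer_of_conj_mem fun _ hy =>
  (mul_mem_cancel_right hy).1 (zpowers_le.2 zA (act h hy))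

theorem bb : b * b ∈ zpowers (zz a n) := h.sq.elim (fun e => e ▸ one_mem _) fun e => e ▸ mem_zpowers _

theorem bb' : b⁻¹ * b⁻¹ ∈ zpowers a := mul_inv_rev b b ▸ inv_mem (zpowers_le.2 zA (bb h))

theorem eq_ext : H = ext (zpowers a) b⁻¹ := by
  rw [h.eq, NE.ext, zpowers_inv, zpowers_eq_closure, zpowers_eq_closure, ← Subgroup.closure_union]; rfl

theorem ba : b * a ≠ a * b := fun k => by
  have h2 := h.two
  have k1 := conj_eq_of_comm k
  rcases h.inv with e | ⟨h3, e⟩ <;> rw [k1] at e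
  · exact pow_ne_one_of_lt_orderOf two_ne_zero (h.ord ▸ (by norm_num : 2 < 2 ^ 2).trans_le
      (Nat.pow_le_pow_right two_pos h2)) (by rw [pow_two, ← eq_inv_iff_mul_eq_one, ← e])
  · refine pow_ne_one_of_lt_orderOf (n := 2 * 2) (by norm_num) (h.ord ▸ (by norm_num : 2 * 2 < 2 ^ 3).trans_le
      (Nat.pow_le_pow_right two_pos h3)) ?_
    rw [pow_mul, pow_two a, eq_inv_mul_iff_mul_eq.1 e, pow_two, z2 h]

theorem a_not : a ∉ zpowers (a * a) := fun k => ba h (by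
  have e := act2 h k
  have h2 := h.two
  obtain ⟨i, hi⟩ := ex_even k
  have : a ^ (2 * i - 1) = 1 := by rw [zpow_sub_one, ← hi, mul_inv_cancel]
  have := (show (2 : ℤ) ∣ (orderOf a : ℤ) from by
    rw [h.ord]; exact_mod_cast dvd_pow_self 2 (by omega)).trans (orderOf_dvd_iff_zpow_eq_one.2 this)
  omega)

end DihB

namespace Mx
variable (h : Mx H a b n)
include h

theorem cj (g : G) : Mx (cj g H) (g * a * g⁻¹) (g * b * g⁻¹) n where
  two := h.two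
  ord := (BsA.ord_cj g a).trans h.ord
  inv := h.inv.imp (fun e => by rw [conj_inv, conj_mul, conj_mul, e, conj_inv]) (And.imp_right fun e => by
    rw [conj_inv, conj_mul, conj_mul, e, conj_inv, zz, zz, conj_pow, conj_mul])
  not_mem := by rw [← cj_zpowers, conj_mem_cj]; exact h.not_mem
  eq := by rw [h.eq, BsA.cj_pair]
  sq := h.sq.imp Rec.conj_sq fun e => by rw [conj_mul, e, zz, zz, conj_pow]

theorem mem : g ∈ H ↔ g ∈ zpowers a ∨ b⁻¹ * g ∈ zpowers a :=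
  eq_ext h ▸ mem_ext (inv_mem (bn h)) (bb' h)

theorem card : Nat.card H = 2 ^ (n + 1) := by
  rw [eq_ext h, card_ext (inv_mem (bn h)) (bb' h) (mt inv_mem_iff.1 h.not_mem), Nat.card_zpowers, h.ord, pow_succ']

theorem phi_eq : phi H = zpowers (a * a) := by
  refine le_antisymm (phi_le_iff.2 fun r hr => ?_) (zpowers_le.2 (mem_phi (am h)))
  rcases h.mem.1 hr with ⟨i, rfl⟩ | hr
  · exact ⟨i, (Commute.refl a).mul_zpow i⟩
  · have e : r * r = b * (b⁻¹ * r) * b⁻¹ * (b⁻¹ * r) * (b * b) := by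
      rw [mul_assoc (b * (b⁻¹ * r) * b⁻¹), DihA.cA hr (zpowers_le.2 zA (bb h))]; group
    exact e ▸ zpowers_le.2 (zA2 h.two) (mul_mem (act h hr) (bb h))

theorem le_norm_a : H ≤ normalizer (zpowers a : Set G) :=
  TriB.le_of_gen h.eq (le_normalizer (mem_zpowers a)) (bn h)

theorem zz_ne : zz a n ≠ 1 ∧ zz a n * zz a n = 1 ∧ zz a n ∈ phi H := ⟨z1 h, z2 h, h.phi_eq ▸ zA2 h.two⟩

theorem center (hg : g ∈ H) : Cz g H ↔ g ∈ zpowers (zz a n) := by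
  refine ⟨fun hc => ?_, fun hz r hr =>
    (comm_zpowers (cj_z h.ord (by have := h.two; omega) (h.le_norm_a hr)) hz).symm⟩
  rcases h.mem.1 hg with k | k
  · have k2 : g ∈ zpowers (a * a) := by
      by_contra k2
      exact ba h (comm_zpowers (hc b (bm h)).symm (gen h.ord k k2))
    refine inv_mem_z h.ord k (eq_inv_iff_mul_eq_one.1 ?_)
    rw [← act2 h k2, conj_eq_of_comm (hc b (bm h)).symm]
  · refine (ba h ?_).elim
    have e := hc a (am h)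
    rw [← mul_inv_cancel_left b g, mul_assoc, DihA.cA k (mem_zpowers a), ← mul_assoc, ← mul_assoc a] at e
    exact mul_right_cancel e

theorem zz_mem_normal (hK : K ≤ H) (hn : H ≤ normalizer (K : Set G)) (h1 : K ≠ ⊥) : zz a n ∈ K := by
  obtain ⟨c, hc, c1, c2⟩ := exists_cen (IsPGroup.of_card h.card) hK hn h1
  exact ((mem_zpowers_sq (z2 h)).1 ((h.center (hK hc)).1 c2)).resolve_left c1 ▸ hc

theorem el_le (hK : K ≤ H) (h2 : ∀ k ∈ K, k * k = 1) : Nat.card K ≤ 4 := by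
  have c1 := Ix.card_le (S := H) (M := zpowers a) (s := b⁻¹) (fun y hy => h.mem.1 hy) hK
  have c2 := card_le_of_le (show K ⊓ zpowers a ≤ zpowers (zz a n) from fun k hk => inv_mem_z h.ord hk.2 (h2 k hk.1))
  rw [Nat.card_zpowers, orderOf_eq_prime (by rw [pow_two, z2 h]) (z1 h)] at c2
  omega

end Mx

namespace DihB

theorem phi_le_sup {A : Subgroup G} (hA : A ≤ H ⊔ centralizer (H : Set G)) : phi A ≤ phi H ⊔ centralizer (H : Set G) :=
  phi_le_iff.2 fun r hr => by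
    obtain ⟨u, hu, c, hc, rfl⟩ := (mem_sup_iff_of_le_normalizer (normalizer_le_normalizer_centralizer H |>.trans'
      le_normalizer)).1 (hA hr)
    rw [mul_assoc, ← mul_assoc c, ← mem_cent.1 hc u hu, mul_assoc, ← mul_assoc u]
    exact mul_mem_sup (mem_phi hu) (mul_mem hc hc)

theorem two_step {A : Subgroup G} (h : Mx H a b n) (hH : H ≤ A) (h1 : phi A ≤ K) (h2 : K ≤ A)
    (h3 : K ≤ phi H ⊔ centralizer (H : Set G)) :
    ∃ K' : Subgroup G, K ≤ K' ∧ K' ≤ K ⊔ H ∧ Nat.card K' = 4 * Nat.card K := by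
  obtain ⟨-, s2, s3, s4⟩ := TriB.step TriB.der_le_phi h1 h2 (fun g hg => mem_phi (h2 hg)) (hH (am h)) (mem_phi (hH (am h)))
  obtain ⟨-, -, -, t4⟩ := TriB.step TriB.der_le_phi (h1.trans (le_ext K a)) s2 s3 (hH (bm h)) (mem_phi (hH (bm h)))
  have na : a ∉ K := fun k => by
    obtain ⟨u, hu, c, hc, e⟩ := (mem_sup_iff_of_le_normalizer ((normalizer_le_normalizer_centralizer H).trans'
      (phi_le.trans le_normalizer))).1 (h3 k)
    have cH : c ∈ H := (mul_mem_cancel_left (phi_le hu)).1 (e ▸ am h)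
    exact a_not h (h.phi_eq ▸ e ▸ mul_mem hu (zpowers_le.2 h.zz_ne.2.2 ((h.center cH).1 (TriA.cz_iff.2 hc))))
  have nb : b ∉ ext K a := fun k => ba h (mem_centralizer_singleton_iff.1
    ((ext_le.2 ⟨h3.trans (sup_le (h.phi_eq ▸ zpowers_le.2 (mem_centralizer_singleton_iff.2 (mul_assoc a a a)))
      fun c hc => mem_centralizer_singleton_iff.2 (mem_cent.1 hc a (am h)).symm),
      mem_centralizer_singleton_iff.2 rfl⟩ : ext K a ≤ centralizer {a}) k))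
  exact ⟨ext (ext K a) b, (le_ext _ _).trans (le_ext _ _),
    ext_le.2 ⟨ext_le.2 ⟨le_sup_left, mem_sup_right (am h)⟩, mem_sup_right (bm h)⟩, by rw [t4 nb, s4 na]; ring⟩

theorem cent_of_ne {H' : Subgroup G} (h : Mx H a b n) (h' : Mx H' a' b' n') (l : H ≤ R) (l' : H' ≤ R)
    (m : R ≤ normalizer (H : Set G)) (m' : R ≤ normalizer (H' : Set G)) (e : zz a n ≠ zz a' n') :
    H ≤ centralizer (H' : Set G) := by
  have d : H ⊓ H' = ⊥ := by
    by_contra d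
    have k := (h.zz_mem_normal inf_le_left (norm_inf le_normalizer (l.trans m')) d).2
    have c : Cz (zz a n) H' := fun r hr => by
      have c := (h.center (phi_le h.zz_ne.2.2)).2 (mem_zpowers _)
      have := (h.center (conj_mem_of_norm (m (l' hr)) (phi_le h.zz_ne.2.2))).1 (c.conj (m (l' hr)))
      exact (comm_of_conj_eq (((mem_zpowers_sq (z2 h)).1 this).resolve_left fun e => z1 h (by simpa using e))).symm
    exact e (((mem_zpowers_sq (z2 h')).1 ((h'.center k).1 c)).resolve_left (z1 h))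
  refine fun u hu => mem_cent.2 fun v hv => commutatorElement_eq_one_iff_mul_comm.1 (mem_bot.1 (d.le ⟨?_, ?_⟩))
  · exact H.mul_mem (conj_mem_of_norm (m (l' hv)) hu) (H.inv_mem hu)
  · exact TriA.cinv.1 (H'.mul_mem (conj_mem_of_norm (m' (l hu)) hv) (H'.inv_mem hv))

end DihB

theorem no_three {H₁ H₂ H₃ : Subgroup G} {a₁ a₂ a₃ b₁ b₂ b₃ : G} {n₁ n₂ n₃ : ℕ} (h4 : Rk 16 R) (h₁ : Mx H₁ a₁ b₁ n₁)
    (h₂ : Mx H₂ a₂ b₂ n₂) (h₃ : Mx H₃ a₃ b₃ n₃) (l₁ : H₁ ≤ R) (l₂ : H₂ ≤ R) (l₃ : H₃ ≤ R)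
    (m₁ : R ≤ normalizer (H₁ : Set G)) (m₂ : R ≤ normalizer (H₂ : Set G)) (m₃ : R ≤ normalizer (H₃ : Set G))
    (e₁ : zz a₁ n₁ ≠ zz a₂ n₂) (e₂ : zz a₁ n₁ ≠ zz a₃ n₃) (e₃ : zz a₂ n₂ ≠ zz a₃ n₃) : False := by
  have c12 := cent_of_ne h₁ h₂ l₁ l₂ m₁ m₂ e₁
  have c13 := cent_of_ne h₁ h₃ l₁ l₃ m₁ m₃ e₂
  have c23 := cent_of_ne h₂ h₃ l₂ l₃ m₂ m₃ e₃
  have c21 := cent_of_ne h₂ h₁ l₂ l₁ m₂ m₁ e₁.symm
  have c31 := cent_of_ne h₃ h₁ l₃ l₁ m₃ m₁ e₂.symm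
  have c32 := cent_of_ne h₃ h₂ l₃ l₂ m₃ m₂ e₃.symm
  have a1 : H₁ ≤ H₁ ⊔ H₂ ⊔ H₃ := le_sup_left.trans le_sup_left
  have a2 : H₂ ≤ H₁ ⊔ H₂ ⊔ H₃ := le_sup_right.trans le_sup_left
  have a3 : H₃ ≤ H₁ ⊔ H₂ ⊔ H₃ := le_sup_right
  have p1 := phi_le_sup (sup_le (sup_le le_sup_left (c21.trans le_sup_right)) (c31.trans le_sup_right))
  have p2 := phi_le_sup (sup_le (sup_le (c12.trans le_sup_right) le_sup_left) (c32.trans le_sup_right))
  have p3 := phi_le_sup (sup_le (sup_le (c13.trans le_sup_right) (c23.trans le_sup_right)) le_sup_left)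
  obtain ⟨K₁, i1, j1, k1⟩ := two_step h₁ a1 le_rfl phi_le p1
  have f1 := j1.trans (sup_le phi_le a1)
  obtain ⟨K₂, i2, j2, k2⟩ := two_step h₂ a2 i1 f1 (j1.trans (sup_le p2 (c12.trans le_sup_right)))
  have f2 := j2.trans (sup_le f1 a2)
  obtain ⟨K₃, i3, j3, k3⟩ := two_step h₃ a3 (i1.trans i2) f2
    (j2.trans (sup_le (j1.trans (sup_le p3 (c13.trans le_sup_right))) (c23.trans le_sup_right)))
  have f3 := j3.trans (sup_le f2 a3)
  have := h4 _ K₃ ((i1.trans i2).trans i3) (f3.trans (sup_le (sup_le l₁ l₂) l₃)) fun y hy => mem_phi (f3 hy)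
  have := Nat.card_pos (α := phi (H₁ ⊔ H₂ ⊔ H₃))
  omega

/-- The centre of a normal subgroup of maximal class is fixed by automorphisms of odd order. -/
theorem Mx.fix_z (h : Mx H a b n) (ho : Od R x) (h4 : Rk 16 R) (hle : H ≤ R) (hn : R ≤ normalizer (H : Set G)) :
    x * zz a n = zz a n * x := by
  by_contra ne
  have k : ∀ g ∈ normalizer (R : Set G), Inv.Fz.cj g H ≤ R ∧ R ≤ normalizer (Inv.Fz.cj g H : Set G) := fun g hg =>
    ⟨cj_eq_iff.2 hg ▸ cj_mono hle, by rw [← cj_normalizer, ← cj_eq_iff.2 hg]; exact cj_mono hn⟩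
  have xx := mul_mem ho.xn ho.xn
  refine no_three h4 h (h.cj x) (h.cj (x * x)) hle (k _ ho.xn).1 (k _ xx).1 hn (k _ ho.xn).2 (k _ xx).2
    (fun e => ne ?_) (fun e => ne ?_) fun e => ne ?_ <;> simp only [zz, conj_pow] at e
  · exact comm_of_conj_eq e.symm
  · exact ho.cz_of_sq (K := zpowers (zz a n)) (fun r hr => comm_zpowers (comm_of_conj_eq e.symm) hr)
      (zpowers_le.2 (hle (phi_le h.zz_ne.2.2))) _ (mem_zpowers _)
  · rw [← conj_conj, conj_inj] at e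
    exact comm_of_conj_eq e.symm

theorem rk_cyc (h : a' ∈ normalizer (zpowers a : Set G)) : Rk 4 (zpowers a ⊔ zpowers a') := fun K H h1 h2 h3 => by
  have n1 : zpowers a' ≤ normalizer (zpowers a : Set G) := zpowers_le.2 h
  have nH : H ≤ normalizer (zpowers a : Set G) := h2.trans (sup_le le_normalizer n1)
  obtain ⟨c, hc⟩ := (Subgroup.isCyclic_iff_exists_zpowers_eq_top (H ⊓ zpowers a)).1 (isCyclic_of_le inf_le_right)
  obtain ⟨e, he⟩ := (Subgroup.isCyclic_iff_exists_zpowers_eq_top ((zpowers a ⊔ H) ⊓ zpowers a')).1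
    (isCyclic_of_le inf_le_right)
  obtain ⟨y, hy, d, hd, e1⟩ := (Loc.Mss.mem_sup_norm nH).1 (he.le (mem_zpowers e)).1
  have cH : c ∈ H := (hc.le (mem_zpowers c)).1
  have p : phi H ≤ K := phi_le_iff.2 h3
  have l1 : ext K c ≤ H := ext_le.2 ⟨h1, cH⟩
  have le : H ≤ ext (ext K c) d := fun r hr => by
    obtain ⟨y1, hy1, t, ht, rfl⟩ := (Loc.Mss.mem_sup_norm n1).1 (h2 hr)
    have t1 : t ∈ zpowers a ⊔ zpowers d := zpowers_le.2 (e1 ▸ mul_mem_sup hy (mem_zpowers d))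
      (he.ge ⟨(mul_mem_cancel_left (mem_sup_left hy1)).1 (mem_sup_right hr), ht⟩)
    obtain ⟨y2, hy2, w, hw, e2⟩ := (Loc.Mss.mem_sup_norm (zpowers_le.2 (nH hd))).1 (mul_mem (mem_sup_left hy1) t1)
    rw [← e2] at hr ⊢
    exact mul_mem (le_ext _ _ (zpowers_le.2 (self_mem_ext K c)
      (hc.ge ⟨(mul_mem_cancel_right (zpowers_le.2 hd hw)).1 hr, hy2⟩))) (zpowers_le.2 (self_mem_ext _ d) hw)
  have c1 := TriB.card_ext_le (BsA.norm_of_comm fun y hy => p (comm_mem_phi cH (h1 hy))) (h3 c cH)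
  have c2 := TriB.card_ext_le (BsA.norm_of_comm fun y hy => le_ext K c (p (comm_mem_phi hd (l1 hy))))
    (le_ext K c (h3 d hd))
  have c3 := card_le_of_le le
  omega

namespace DihB

theorem normΘ (h : DQ Θ a b n) (ha : g ∈ normalizer (zpowers a : Set G)) (hb : ⁅g, b⁆ ∈ phi Θ) :
    g ∈ normalizer (Θ : Set G) ∧ ∀ u ∈ Θ, ⁅g, u⁆ ∈ phi Θ := by
  obtain ⟨F, hF⟩ := TriB.exists_fx' (K := Θ) (L := phi Θ) g fun r hr => norm_phi (le_normalizer hr)
  have k : ∀ u ∈ Θ, ⁅g, u⁆ ∈ phi Θ := fun u hu => ((hF u).1 (TriB.le_of_gen h.eq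
    ((hF a).2 ⟨BsA.am h, DihA.comm_a h ha (mem_zpowers a)⟩) ((hF b).2 ⟨DihA.bm h, hb⟩) hu)).2
  exact ⟨BsA.norm_of_comm fun u hu => phi_le (k u hu), k⟩

theorem j_cases (h : DQ Θ a b n) (h2 : 2 ≤ n) (ha : g ∈ normalizer (zpowers a : Set G)) :
    g * jj a n = jj a n * g ∨ g * b * jj a n = jj a n * (g * b) := by
  obtain ⟨t, ht⟩ := DihA.act_all h.ord ha
  have e := ht _ (DihA.jA h)
  rcases Nat.even_or_odd t with k | k
  · exact .inl (comm_of_conj_eq (e.trans ((DihA.j_pow h h2 t).1 k)))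
  · exact .inr (comm_of_conj_eq (by rw [← conj_conj, (h.jj_sq h2).2.1, ← conj_inv, e, (DihA.j_pow h h2 t).2 k, inv_inv]))

theorem card_phi (h : DQ Θ a b n) : Nat.card Θ = 4 * Nat.card (phi Θ) := by
  obtain ⟨m, rfl⟩ : ∃ m, n = m + 1 := ⟨n - 1, by have := h.pos; omega⟩
  rw [h.card, h.phi_eq, card_sq h.ord]; ring

end DihB

/-- An element that preserves the classes of both factors of `Θ × Θ'` lies in it. -/
theorem DQ.k0 (h : DQ Θ a b n) (h' : DQ Θ' a' b' n') (h2 : 2 ≤ n) (h2' : 2 ≤ n') (hS : IsPGroup 2 S) (h4 : Rk 16 S)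
    (hle : Θ ≤ S) (hle' : Θ' ≤ S) (hc : ∀ u ∈ Θ, ∀ v ∈ Θ', u * v = v * u) (hd : Θ ⊓ Θ' = ⊥) (hg : g ∈ S)
    (ha : g ∈ normalizer (zpowers a : Set G)) (ha' : g ∈ normalizer (zpowers a' : Set G)) (hb : ⁅g, b⁆ ∈ phi Θ)
    (hb' : ⁅g, b'⁆ ∈ phi Θ') : g ∈ Θ ⊔ Θ' := by
  have c1 : Θ ≤ centralizer (Θ' : Set G) := fun u hu => mem_cent.2 fun v hv => (hc u hu v hv).symm
  have n1 : Θ ≤ normalizer (Θ' : Set G) := c1.trans (cent_le_norm _)
  have nP : phi Θ ≤ normalizer (phi Θ' : Set G) := fun u hu => norm_phi (n1 (phi_le hu))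
  obtain ⟨P, hP⟩ : ∃ P : Subgroup G, ∀ g, g ∈ P ↔ g ∈ S ∧ (g ∈ normalizer (zpowers a : Set G) ∧ ⁅g, b⁆ ∈ phi Θ) ∧
      g ∈ normalizer (zpowers a' : Set G) ∧ ⁅g, b'⁆ ∈ phi Θ' :=
    ⟨S ⊓ ((normalizer (zpowers a : Set G) ⊓ (normalizer (Θ : Set G) ⊓ cls Θ b)) ⊓
      (normalizer (zpowers a' : Set G) ⊓ (normalizer (Θ' : Set G) ⊓ cls Θ' b'))), fun g => and_congr_right fun _ =>
      and_congr (and_congr_right fun k => ⟨fun l => (mem_cls l.1).1 l.2, fun l =>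
        ⟨(normΘ h k l).1, (mem_cls (normΘ h k l).1).2 l⟩⟩) (and_congr_right fun k => ⟨fun l => (mem_cls l.1).1 l.2,
          fun l => ⟨(normΘ h' k l).1, (mem_cls (normΘ h' k l).1).2 l⟩⟩)⟩
  have PS : P ≤ S := fun g hg => ((hP g).1 hg).1
  have one : ∀ {u v : G} {L : Subgroup G}, u * v = v * u → ⁅u, v⁆ ∈ L := fun e =>
    commutatorElement_eq_one_iff_mul_comm.2 e ▸ one_mem _
  have bP : b ∈ P := (hP b).2 ⟨hle (DihA.bm h), ⟨h.le_norm_a (DihA.bm h), one rfl⟩,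
    cent_le_norm _ (mem_cent.2 fun v hv => (hc b (DihA.bm h) v (DihA.aL h' hv)).symm), one (hc b (DihA.bm h) b' (DihA.bm h'))⟩
  have bP' : b' ∈ P := (hP b').2 ⟨hle' (DihA.bm h'), ⟨cent_le_norm _ (mem_cent.2 fun v hv =>
    hc v (DihA.aL h hv) b' (DihA.bm h')), one (hc b (DihA.bm h) b' (DihA.bm h')).symm⟩, h'.le_norm_a (DihA.bm h'), one rfl⟩
  have nY : P ≤ normalizer ((Θ ⊔ Θ' : Subgroup G) : Set G) :=
    norm_sup (fun g hg => (normΘ h ((hP g).1 hg).2.1.1 ((hP g).1 hg).2.1.2).1)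
      fun g hg => (normΘ h' ((hP g).1 hg).2.2.1 ((hP g).1 hg).2.2.2).1
  have base : ∀ g ∈ P, g * g ∈ Θ ⊔ Θ' → g * jj a n = jj a n * g → g * jj a' n' = jj a' n' * g → g ∈ Θ ⊔ Θ' :=
    fun g hg g2 j1 j2 => by
    obtain ⟨gS, ⟨k1, k2⟩, k3, k4⟩ := (hP g).1 hg
    obtain ⟨u, hu, v, hv, e⟩ := (mem_sup_iff_of_le_normalizer n1).1 g2
    have p1 := (h.sq_par h2 (normΘ h k1 k2).1 k1 j1 hu (by
      rw [e, inv_mul_cancel_left]; exact fun r hr => (hc r hr v hv).symm)).2.2 k2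
    have p2 := (h'.sq_par h2' (normΘ h' k3 k4).1 k3 j2 hv (by
      rw [e, hc u hu v hv, inv_mul_cancel_left]; exact fun r hr => hc u hu r hr)).2.2 k4
    refine h4.five (K := phi Θ ⊔ phi Θ') (sup_le hle hle') (sup_le_sup phi_le phi_le) (fun y hy => ?_) ?_ gS
      (e ▸ mul_mem_sup p1 p2) fun y hy => ?_
    · obtain ⟨u, hu, v, hv, rfl⟩ := (mem_sup_iff_of_le_normalizer n1).1 hy
      rw [mul_assoc, ← mul_assoc v, ← hc u hu v hv, mul_assoc, ← mul_assoc u]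
      exact mul_mem_sup (mem_phi hu) (mem_phi hv)
    · rw [GT.PG.card_sup_of_inf_eq_bot n1 hd, GT.PG.card_sup_of_inf_eq_bot nP
        (le_bot_iff.1 (hd ▸ inf_le_inf phi_le phi_le)), card_phi h, card_phi h']
      ring
    · obtain ⟨u, hu, v, hv, rfl⟩ := (mem_sup_iff_of_le_normalizer n1).1 hy
      have l := (normΘ h' k3 k4).2 v hv
      rw [show ⁅g, u * v⁆ = ⁅g, u⁆ * (u * ⁅g, v⁆ * u⁻¹) by simp only [commutatorElement_def]; group,
        conj_eq_of_comm (hc u hu _ (phi_le l))]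
      exact mul_mem_sup ((normΘ h k1 k2).2 u hu) l
  have red : ∀ g ∈ P, ∀ y ∈ Θ ⊔ Θ', g * g ∈ Θ ⊔ Θ' → g * y * (g * y) ∈ Θ ⊔ Θ' := fun g hg y hy g2 => by
    rw [show g * y * (g * y) = g * y * g⁻¹ * (g * g) * y by group]
    exact mul_mem (mul_mem (conj_mem_of_norm (nY hg) hy) g2) hy
  have bY : b ∈ Θ ⊔ Θ' := mem_sup_left (DihA.bm h)
  have bY' : b' ∈ Θ ⊔ Θ' := mem_sup_right (DihA.bm h')
  have mid : ∀ g ∈ P, g * g ∈ Θ ⊔ Θ' → g * jj a n = jj a n * g → g ∈ Θ ⊔ Θ' := fun g hg g2 j1 => by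
    rcases j_cases h' h2' ((hP g).1 hg).2.2.1 with j2 | j2
    · exact base g hg g2 j1 j2
    · exact (mul_mem_cancel_right bY').1 (base _ (mul_mem hg bP') (red g hg _ bY' g2)
        (Commute.mul_left j1 (hc _ (DihA.aL h (DihA.jA h)) _ (DihA.bm h')).symm) j2)
  refine ind2 (hS.to_le PS) (P := fun g => g ∈ P → g ∈ Θ ⊔ Θ') (fun _ => one_mem _) (fun g hg ih _ => ?_) g
    ((hP g).2 ⟨hg, ⟨ha, hb⟩, ha', hb'⟩) ((hP g).2 ⟨hg, ⟨ha, hb⟩, ha', hb'⟩)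
  have g2 := ih (mul_mem hg hg)
  rcases j_cases h h2 ((hP g).1 hg).2.1.1 with j1 | j1
  · exact mid g hg g2 j1
  · exact (mul_mem_cancel_right bY).1 (mid _ (mul_mem hg bP) (red g hg _ bY g2) j1)

/-- No root of an involution of a good four-group centralises it. -/
theorem GD.sq (h : GD S R x s) (hg : g ∈ S) (hc : Cz g (supp R x)) (h2 : g * g ∈ supp R x) : g * g = 1 :=
  mem_bot.1 ((h.tri.four_disj h.four).le ⟨h2, h.tri.four_phi h.four (mem_phi (h.cen g hg hc))⟩)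

theorem GD.cz_of_comm (h : GD S R x s) (ho : orderOf a = 2 ^ n) (h1 : 1 ≤ n) (hz : zz a n ∈ supp R x) (hg : g ∈ R)
    (hv : v ∈ R) (hc : ⁅g, v⁆ ∈ zpowers a) : g * v = v * g := by
  by_contra ne
  exact (zz_sq ho h1).1 (mem_bot.1 ((h.tri.four_disj h.four).le ⟨hz, zpowers_le.2
    (h.tri.four_phi h.four (comm_mem_phi hg hv)) (zz_mem ho (zpowers_le.2 hc) fun e =>
      ne (commutatorElement_eq_one_iff_mul_comm.1 (zpowers_eq_bot.1 e)))⟩))

theorem GD.mem_iff (h : GD S R x s) (hg : g ∈ S) : g ∈ R ↔ Cz g (supp R x) :=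
  ⟨fun k v hv => (h.tri.four_cz h.four hv g k).symm, h.cen g hg⟩

theorem TD.no_root (h : TD S R x s Θ a b n) (hS : IsPGroup 2 S) (h4 : Rk 16 S) :
    ∀ r ∈ S, r * r = zz a n → r * b ≠ b * r := fun r hr e c => by
  have l : supp R x ≤ centralizer {r} := TriB.le_of_gen h.eq
    (mem_centralizer_singleton_iff.2 (by rw [← e, mul_assoc])) (mem_centralizer_singleton_iff.2 c.symm)
  exact h.dq.zz_ne.1 (e ▸ (h.t2.gd hS h4 h.four).sq hr (fun v hv => (mem_centralizer_singleton_iff.1 (l hv)).symm)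
    (by rw [e, h.eq]; exact subset_closure (by simp)))

/-- For a good `Q₈`: `R` is the stabiliser of the chain. -/
theorem TQ.mem_iff (h : TQ S R x s Θ a b n) (hS : IsPGroup 2 S) (hg : g ∈ S) :
    g ∈ R ↔ ⁅g, jj a n⁆ ∈ zpowers (zz a n) ∧ ⁅g, b⁆ ∈ zpowers (zz a n) := by
  have jV : jj a n ∈ supp R x := h.eq.ge (subset_closure (by simp))
  have bV : b ∈ supp R x := h.eq.ge (subset_closure (by simp))
  have p := (h.q8.qz_of (h.sq ▸ mul_mem bV bV) h.dq.zz_ne.1 h.dq.zz_ne.2.1).phi_eq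
  rw [← p]
  refine ⟨fun k => ⟨h.t2.tri.q8_inner h.q8 k jV, h.t2.tri.q8_inner h.q8 k bV⟩, fun k => ?_⟩
  obtain ⟨F, hF⟩ := TriB.exists_fx' (K := supp R x) (L := phi (supp R x)) g fun r hr => norm_phi (le_normalizer hr)
  exact (h.t2.inf_kp hS (.inr h.q8)).le ⟨hg, mem_kp.2 fun v hv =>
    ((hF v).1 (TriB.le_of_gen h.eq ((hF _).2 ⟨jV, k.1⟩) ((hF _).2 ⟨bV, k.2⟩) hv)).2⟩

theorem XT.comm (h : XT S Θ a b) (hq : DQ Θ a b n) (hg : g ∈ S) : ⁅g, b⁆ ∈ zpowers a ∧ Cz (zz a n) S :=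
  ⟨(hq.conj_b (h.norm hg) (h.na hg)).2, fun _ hr => (cj_z hq.ord hq.pos (h.na hr)).symm⟩

theorem XT.center (h : XT S Θ a b) (hq : DQ Θ a b n) (hg : g ∈ Θ) (hc : Cz g S) : g ∈ zpowers (zz a n) := by
  obtain ⟨w, hw, e⟩ := h.swap
  rcases hq.normal_cases h.le hw e (zpowers_le.2 hg) (fun r hr => cent_le_norm _ (mem_cent.2 fun y hy =>
    (comm_zpowers (hc r hr).symm hy).symm)) with k | k
  · have k1 := k (mem_zpowers g)
    refine inv_mem_z hq.ord k1 (eq_inv_iff_mul_eq_one.1 ?_)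
    rw [← inverts_zpowers hq.inv k1, conj_eq_of_comm (hc b (h.le (DihA.bm hq))).symm]
  · refine (hq.not_cls_of_swap e ?_).elim
    rw [commutatorElement_eq_one_iff_mul_comm.2 (comm_zpowers (hc w hw).symm (k.ge (DihA.bm hq)))]
    exact one_mem _

/-- Two normal subgroups of type X that meet have the same centre. -/
theorem XT.zz_mem (h : XT S Θ a b) (hq : DQ Θ a b n) (hS : IsPGroup 2 S) (hK : S ≤ normalizer (K : Set G))
    (h1 : Θ ⊓ K ≠ ⊥) : zz a n ∈ K := by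
  obtain ⟨c, hc, c1, c2⟩ := exists_cen hS (inf_le_left.trans h.le) (norm_inf h.norm hK) h1
  exact ((mem_zpowers_sq hq.zz_ne.2.1).1 (h.center hq hc.1 c2)).resolve_left c1 ▸ hc.2

/-- `⟨a⟩` lies in every subgroup of index two. -/
theorem XT.a_mem (h : XT S Θ a b) (hq : DQ Θ a b n) (hi : Ix S R s) (hR : R ≤ S) : a ∈ R := by
  obtain ⟨w, hw, e⟩ := h.swap
  have p : phi S ≤ R := phi_le_iff.2 fun r hr => (em _).elim (fun l => mul_mem l l) fun l => hi.mul_mem hr hr l l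
  have := p (comm_mem_phi (inv_mem (h.le (DihA.bm hq))) hw)
  rwa [commutatorElement_def, inv_inv, mul_assoc, mul_assoc, ← mul_assoc w, e, inv_mul_cancel_left] at this

end Cfsg.Agent.GH
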