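import Mathlib
import Cfsg.Agent.GH.Defs3
import Cfsg.Agent.GH.XB

/-! Two groups of type X: all triples of index two are good. See `stubs/Cfsg/Agent/GH/PLAN2.md`. -/

set_option autoImplicit false
set_option linter.unusedSectionVars false

namespace Cfsg.Agent.GH

open Cfsg.Agent.Inv.Fz Cfsg.Agent.NE Subgroup
open scoped commutatorElement

variable {G : Type*} [Group G] [Finite G] {S R K N Θ Θ' H : Subgroup G} {x s g v a b a' b' y : G} {n n' : ℕ}

namespace XCa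
open XBa TriA

theorem two_le (h : K < H) : 2 * Nat.card K ≤ Nat.card H := by
  obtain ⟨c, e⟩ := card_dvd_of_le h.le
  have h1 := card_lt_of_lt h
  have h2 : 2 ≤ c := by
    rcases c with _ | _ | c
    · simp [e] at h1
    · simp [e] at h1
    · omega
  rw [e, mul_comm]
  exact Nat.mul_le_mul_left _ h2

theorem ix_sq (h : Ix S K s) (hy : y ∈ S) : y * y ∈ K := by
  by_cases e : y ∈ K
  exacts [mul_mem e e, h.mul_mem hy hy e e]

theorem four_one (hq : DQ Θ a b 1) (ht : XT S Θ a b) (hl : Loc S R x s) (hb : b ∉ R) : El 4 (supp R x) :=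
  (hl.tri.four_of (UPL.coset hl (ht.le (DihA.bm hq)) hb) (z := a) (by simpa [zz] using hq.zz_ne.2.1)
    fun _ hr => cinv.1 (ht.comm hq (hl.le hr)).1).1

theorem comm_sq (ho : orderOf a = 2 ^ n) (hg : g ∈ normalizer (zpowers a : Set G)) : ⁅g, a⁆ ∈ zpowers (a * a) := by
  obtain ⟨u, ⟨k, rfl⟩, e⟩ := act_odd ho hg
  rw [commutatorElement_def, e, pow_succ, mul_inv_cancel_right, pow_mul, sq]
  exact pow_mem (mem_zpowers _) _

theorem norm_hat (hq : DQ Θ a b n) (hq' : DQ Θ' a' b' n) (ht : XT S Θ a b) (ht' : XT S Θ' a' b')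
    (e : zpowers a' = zpowers a) (e' : zpowers (b * b' * (b * b')) = zpowers a) :
    S ≤ normalizer (zpowers (b * b') : Set G) := fun g hg => by
  have l : zpowers a ≤ zpowers (b * b') := e' ▸ zpowers_le.2 (mul_mem (mem_zpowers _) (mem_zpowers _))
  refine cj_eq_iff.1 (cj_eq_of_le ?_)
  rw [cj_zpowers, zpowers_le, show g * (b * b') * g⁻¹ = ⁅g, b⁆ * (b * ⁅g, b'⁆ * b⁻¹) * (b * b') by
    simp only [commutatorElement_def]; group]
  exact mul_mem (l (mul_mem (ht.comm hq hg).1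
    ((conj_mem_norm (ht.na (ht.le (DihA.bm hq)))).2 (e ▸ (ht'.comm hq' hg).1)))) (mem_zpowers _)

end XCa

open XBa XCa TriA in
theorem Ctx.xh_good (c : Ctx G) (h : XH c.S R x s Θ a b n Θ' a' b') {R' : Subgroup G} {x' s' : G}
    (hl : Loc c.S R' x' s') : El 4 (supp R' x') ∨ Q8 (supp R' x') := by
  have hq := h.td.dq
  have hq' := h.gd.dq
  have ez : zz a' n = zz a n := (hq.regen h.eq).2.1
  by_cases hb : b ∉ R'
  · rcases hq.pos.eq_or_lt with rfl | h2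
    · exact Or.inl (four_one hq h.xt hl hb)
    · exact Or.inr (c.x2b_q8 hq h.xt hl hb (c.xd_fix h.toXD h2 hl))
  by_cases hb' : b' ∉ R'
  · rcases hq.pos.eq_or_lt with rfl | h2
    · exact Or.inl (four_one hq' h.xt' hl hb')
    · exact Or.inr (c.x2b_q8 hq' h.xt' hl hb' (ez ▸ c.xd_fix h.toXD h2 hl))
  rw [not_not] at hb hb'
  have xn := hl.tri.xn
  have od := hl.tri.od
  have zc := (h.xt.comm hq (one_mem _)).2
  have bS := hl.le hb
  have bS' := hl.le hb'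
  obtain ⟨e1, e2, hM, -⟩ := hq.double hq' h.eq (h.xt.comm hq bS').1 h.swap
  have l1 : Θ ≤ R' := le_of hq (h.xt.a_mem hq hl.ix hl.le) hb
  have l2 : Θ' ≤ R' := le_of hq' (h.xt'.a_mem hq' hl.ix hl.le) hb'
  have lH : Θ ⊔ Θ' ≤ R' := sup_le l1 l2
  have nH : c.S ≤ normalizer ((Θ ⊔ Θ' : Subgroup G) : Set G) := Loc.Mss.norm_sup h.xt.norm h.xt'.norm
  have hz : x' * zz a n = zz a n * x' := e2 ▸ hM.fix_z od (c.r4' R') lH (hl.le.trans nH)
  -- `x'` normalises `A`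
  have m1 : x' * (b * b') * x'⁻¹ ∈ R' := (conj_mem_norm xn).2 (mul_mem hb hb')
  have c1 : ⁅x' * (b * b') * x'⁻¹, b⁆ ∉ phi Θ := fun e => by
    refine h.td.no_root c.pS c.r4 _ (pow_mem (hl.le m1) _) ?_ (hq.pow_comm (h.xt.na (hl.le m1)) e)
    rw [← pow_add, ← two_mul, ← pow_succ', Nat.sub_add_cancel hq.pos, conj_pow, ← conj_eq_of_comm hz, ← e2]
    rfl
  have na : x' ∈ normalizer (zpowers a : Set G) := norm_of_le (by
    have n1 : b ∈ normalizer (zpowers (x' * (b * b') * x'⁻¹) : Set G) := by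
      rw [← cj_zpowers]; exact norm_cj' xn (hl.le.trans (norm_hat hq hq' h.xt h.xt' h.eq e1)) hb
    conv_lhs => rw [← hq.gen_of_not (h.xt.comm hq (hl.le m1)).1 c1]
    rw [← e1, cj_zpowers, conj_mul' x' (b * b'), zpowers_le]
    exact cinv.1 (comm_sq ((BsA.ord_cj _ _).trans hM.ord) n1))
  have ma := l1 (BsA.am hq)
  have xa : x' * a = a * x' := od.cz_cyclic ma na
  have lT : supp R' x' ≤ R' := supp_le xn
  have Ta : ∀ t ∈ supp R' x', ∀ k ∈ zpowers a, t * k = k * t := fun t ht k hk => UPL.cmb.1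
    (supp_triv xn (hl.le.trans h.xt.na) (fun r _ => UPL.nbot r) bot_le
      (fun k hk => UPL.cmb.2 (comm_zpowers xa hk)) t ht k hk)
  -- `z ∉ T`
  have gd := h.td.t2.gd c.pS c.r4 h.td.four
  have TR : ∀ t ∈ supp R' x', ∃ k ∈ zpowers a, t * k ∈ R := fun t ht => by
    have tS := hl.le (lT ht)
    obtain ⟨i, hi⟩ := hq.cls_decomp (h.xt.na tS) ((mem_cls (h.xt.norm tS)).1 (c.x2b_le h.toXD hl l1 hz ht))
    exact ⟨_, zpow_mem (mem_zpowers a) i, mem_R h.toXD c.pS c.r4 (mul_mem tS (zpow_mem (hl.le ma) i)) hi⟩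
  have der : ⁅supp R' x', supp R' x'⁆ ≤ phi R := commutator_le.2 fun t ht u hu => by
    obtain ⟨k, hk, e⟩ := TR t ht
    obtain ⟨k', hk', e'⟩ := TR u hu
    have := comm_mem_phi e e'
    have c1 : Commute k u := (Ta u hu k hk).symm
    have c2 : Commute k k' := DihA.cA hk hk'
    have c3 : Commute t k' := Ta t ht k' hk'
    have c4 : Commute u k' := Ta u hu k' hk'
    rwa [UPL.mul_cm, UPL.cm1.2 (c1.mul_right c2), UPL.cm_mul, UPL.cm1.2 c3, mul_one, mul_inv_cancel, one_mul, mul_one,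
      mul_inv_cancel, mul_one] at this
  have zT : zz a n ∉ supp R' x' := fun e => hq.zz_ne.1 (by
    have h1 := gd.tri.four_phi gd.four (der (od.fix_le_comm ⟨e, mem_fix.2 ⟨lT e, hz⟩⟩))
    have h2 : zz a n ∈ supp R x := h.td.eq ▸ subset_closure (by simp)
    exact mem_bot.1 (gd.tri.four_disj gd.four ▸ ⟨h2, h1⟩))
  have nT : R' ≤ normalizer (supp R' x' : Set G) := le_norm_supp
  have dj : (Θ ⊔ Θ') ⊓ supp R' x' = ⊥ := by
    by_contra e
    exact zT (e2 ▸ (hM.zz_mem_normal inf_le_left (le_normalizer_inf_of le_normalizer (lH.trans nT)) e).2)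
  have TH : ∀ t ∈ supp R' x', ∀ u ∈ Θ ⊔ Θ', t * u = u * t := fun t ht u hu => UPL.cmb.1 (dj ▸ mem_inf.2
    ⟨mul_mem ((conj_mem_norm (nH (hl.le (lT ht)))).2 hu) (inv_mem hu), by
      have := mul_mem ht ((conj_mem_norm (nT (lH hu))).2 (inv_mem ht))
      rwa [← mul_assoc, ← mul_assoc] at this⟩)
  have r4 : Rk 4 (supp R' x') := c.r4.four (lH.trans hl.le) phi_le (fun _ => mem_phi)
    (by rw [hM.card, hM.phi_eq, e1, Nat.card_zpowers, hq.ord]; ring) (lT.trans hl.le) dj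
    fun u hu t ht => by rw [UPL.cm1.2 (TH t ht u hu)]; exact one_mem _
  rcases hl.tri.odV.small od.supp_supp hl.tri.supp_ne r4 with e | ⟨t, m, hm, hT⟩
  · exact Or.inr e
  rcases hm.eq_or_lt with rfl | h2
  · exact Or.inl hT.el
  exfalso
  -- the homocyclic case
  have nR : R' ≤ normalizer ((Θ ⊔ Θ' ⊔ supp R' x' : Subgroup G) : Set G) := Loc.Mss.norm_sup (hl.le.trans nH) nT
  have nK : c.S ≤ normalizer ((fix R' x' ⊓ (Θ ⊔ Θ' ⊔ supp R' x') : Subgroup G) : Set G) := by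
    refine UPL.norm_P hl (fun r hr => ?_) ?_
    · obtain ⟨u, hu, d, hd, rfl⟩ := od.decomp hr
      refine mul_mem (UPL.norm_of_cz fun k hk => ?_)
        (le_normalizer_inf_of le_normalizer (inf_le_left.trans nR) hd)
      have : Θ ⊔ Θ' ⊔ supp R' x' ≤ centralizer {u} := sup_le
        (fun w hw => mem_centralizer_singleton_iff.2 (TH u hu w hw).symm)
        fun w hw => mem_centralizer_singleton_iff.2 (hom_comm hT w hw u hu)
      exact (mem_centralizer_singleton_iff.1 (this hk.2)).symm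
    · exact le_normalizer_inf_of (zpowers_le.2 hl.tri.s_fix)
        (Loc.Mss.norm_sup (zpowers_le.2 (nH hl.mem)) (zpowers_le.2 hl.tri.s_supp)) (mem_zpowers s')
  obtain ⟨H, M, hKM, hMH, hH, sq, card, -⟩ := hl.hom_rank hT h2 inf_le_left nK
  obtain ⟨g, -, -, i1⟩ := exists_swap h.xt hq
  obtain ⟨g', -, -, i2⟩ := exists_swap h.xt' hq'
  have T1 : ∀ u ∈ supp R' x', u ∈ cls Θ b ∧ u ∈ cls Θ' b' := fun u hu =>
    ⟨(mem_cls (h.xt.norm (hl.le (lT hu)))).2 (by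
        rw [UPL.cm1.2 (TH u hu b (mem_sup_left (DihA.bm hq)))]; exact one_mem _),
      (mem_cls (h.xt'.norm (hl.le (lT hu)))).2 (by
        rw [UPL.cm1.2 (TH u hu b' (mem_sup_right (DihA.bm hq')))]; exact one_mem _)⟩
  have cov : ∀ w ∈ Θ ⊔ Θ', ∃ k ∈ M, (k ∈ cls Θ b ↔ w ∈ cls Θ b) ∧ (k ∈ cls Θ' b' ↔ w ∈ cls Θ' b') := fun w hw => by
    obtain ⟨u, hu, d, hd, rfl⟩ := od.decomp (lH hw)
    refine ⟨d, hKM ⟨hd, ?_⟩, (mul_mem_cancel_left (T1 u hu).1).symm, (mul_mem_cancel_left (T1 u hu).2).symm⟩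
    have := mul_mem (inv_mem (mem_sup_right (S := Θ ⊔ Θ') hu)) (mem_sup_left hw)
    rwa [inv_mul_cancel_left] at this
  obtain ⟨k1, m1, p1, q1⟩ := cov b (mem_sup_left (DihA.bm hq))
  obtain ⟨k2, m2, p2, -⟩ := cov b' (mem_sup_right (DihA.bm hq'))
  have ph : phi Θ' = phi Θ := by rw [hq'.phi_eq, (hq.regen h.eq).1.phi_eq]
  have s1 : M ⊓ cls Θ b ⊓ cls Θ' b' < M ⊓ cls Θ b := lt_of_le_of_ne inf_le_left fun e => by
    have : k1 ∈ M ⊓ cls Θ b ⊓ cls Θ' b' := e.symm ▸ ⟨m1, p1.2 (hq.le_cls (DihA.bm hq))⟩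
    exact h.swap (cinv.1 (ph ▸ (mem_cls (h.xt'.norm bS)).1 (q1.1 this.2)))
  have s2 : M ⊓ cls Θ b < M := lt_of_le_of_ne inf_le_left fun e => by
    have : k2 ∈ M ⊓ cls Θ b := e.symm ▸ m2
    exact h.swap ((mem_cls (h.xt.norm bS')).1 (p2.1 this.2))
  have f1 := two_le s1
  have f2 := two_le s2
  have f3 := c.r4 (M ⊓ cls Θ b ⊓ cls Θ' b') H ((inf_le_left.trans inf_le_left).trans hMH) hH
    fun u hu => ⟨⟨sq u hu, ix_sq i1 (hH hu)⟩, ix_sq i2 (hH hu)⟩
  have f4 : 0 < Nat.card M := Nat.card_pos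
  omega

end Cfsg.Agent.GH
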