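import Mathlib
import Cfsg.Agent.GH.Defs3
import Cfsg.Agent.GH.EB
import Cfsg.Agent.GH.FF

/-! All triples of index two: the second triple has order three. See `stubs/Cfsg/Agent/GH/PLAN2.md`. -/

set_option autoImplicit false
set_option linter.unusedSectionVars false

namespace Cfsg.Agent.GH

open Cfsg.Agent.Inv.Fz Cfsg.Agent.NE Subgroup
open Cfsg.Agent.Loc.Mss (mem_cent cent_le_norm norm_cent norm_inf norm_sup conj_mem_of_norm conj_mem_of_norm')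
open scoped commutatorElement

variable {G : Type*} [Group G] [Finite G] {S R₁ R₂ F : Subgroup G} {ρ s₁ z u x s₂ f v w a : G}

namespace E2a

theorem cen {R : Subgroup G} {c r : G} (hz : z * z = 1) (hc : Cz z R) (h : c ∈ zpowers z) (hr : r ∈ R) :
    r * c = c * r := by
  rcases (mem_zpowers_sq hz).1 h with rfl | rfl
  · simp
  · exact (hc r hr).symm

theorem zsq {c : G} (hz : z * z = 1) (h : c ∈ zpowers z) : c * c = 1 := by
  rcases (mem_zpowers_sq hz).1 h with rfl | rfl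
  · simp
  · exact hz

/-- The preimage of `Ω₁ Z(R / ⟨z⟩)`. -/
theorem exists_K {R : Subgroup G} (hz : z * z = 1) (hc : Cz z R) :
    ∃ K : Subgroup G, ∀ k, k ∈ K ↔ k ∈ R ∧ k * k ∈ zpowers z ∧ ∀ r ∈ R, ⁅r, k⁆ ∈ zpowers z := by
  refine ⟨{ carrier := {k | k ∈ R ∧ k * k ∈ zpowers z ∧ ∀ r ∈ R, ⁅r, k⁆ ∈ zpowers z}
            mul_mem' := ?_, one_mem' := ?_, inv_mem' := ?_ }, fun _ => Iff.rfl⟩
  · rintro a b ⟨a1, a2, a3⟩ ⟨b1, b2, b3⟩
    refine ⟨mul_mem a1 b1, ?_, fun r hr => ?_⟩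
    · rw [show a * b * (a * b) = a * a * ⁅a⁻¹, b⁆ * (b * b) by simp only [commutatorElement_def]; group]
      exact mul_mem (mul_mem a2 (b3 _ (inv_mem a1))) b2
    · rw [show ⁅r, a * b⁆ = ⁅r, a⁆ * (a * ⁅r, b⁆ * a⁻¹) by simp only [commutatorElement_def]; group,
        cen hz hc (b3 r hr) a1, mul_inv_cancel_right]
      exact mul_mem (a3 r hr) (b3 r hr)
  · exact ⟨one_mem _, by simp, fun r _ => by simp⟩
  · rintro a ⟨a1, a2, a3⟩
    refine ⟨inv_mem a1, by rw [← mul_inv_rev]; exact inv_mem a2, fun r hr => ?_⟩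
    rw [show ⁅r, a⁻¹⁆ = a⁻¹ * ⁅r, a⁆⁻¹ * a by simp only [commutatorElement_def]; group,
      cen hz hc (inv_mem (a3 r hr)) (inv_mem a1), inv_mul_cancel_right]
    exact inv_mem (a3 r hr)

theorem cm_mul {a b c : G} (h : b * ⁅a, c⁆ = ⁅a, c⁆ * b) : ⁅a, b * c⁆ = ⁅a, b⁆ * ⁅a, c⁆ := by
  rw [show ⁅a, b * c⁆ = ⁅a, b⁆ * (b * ⁅a, c⁆ * b⁻¹) by simp only [commutatorElement_def]; group, h,
    mul_inv_cancel_right]

theorem sq_mul {a b : G} (ha : a * a = 1) : a * b * (a * b) = ⁅a, b⁆ * (b * b) := by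
  rw [commutatorElement_def, inv_eq_of_mul_eq_one_right ha]
  group

theorem cj_cm (g a b : G) : ⁅g * a * g⁻¹, g * b * g⁻¹⁆ = g * ⁅a, b⁆ * g⁻¹ := by
  simp only [commutatorElement_def]; group

end E2a

open E2a in
theorem EH.cube3 (h : EH S R₁ ρ s₁ z u R₂ x s₂) (hS : IsPGroup 2 S) (h4 : Rk 16 S) : Cz (x ^ 3) R₂ := by
  by_contra h3
  have e := h.toEC
  have t := h.bas₂.tri
  have h5 : Cz (x ^ 5) R₂ := t.ord.resolve_left h3
  have le₂ : R₂ ≤ S := h.bas₂.crit.le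
  have z2 := EB.z2 e
  have cz : Cz z R₂ := fun r hr => h.cz r (le₂ hr)
  have zR : z ∈ R₂ := h.bas₂.crit.cent z (EB.le e h.z_mem) cz
  have xZ : ∀ c ∈ zpowers z, x * c * x⁻¹ = c := fun c hc => by
    rcases (mem_zpowers_sq z2).1 hc with rfl | rfl
    · simp
    · rw [h.xz, mul_inv_cancel_right]
  have nZ : x ∈ normalizer (zpowers z : Set G) := mem_normalizer_of_conj_mem fun c hc => by
    rw [xZ c hc]; exact hc
  obtain ⟨K, hK⟩ := exists_K z2 cz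
  have KR : K ≤ R₂ := fun k hk => ((hK k).1 hk).1
  have ZK : zpowers z ≤ K := fun c hc => (hK c).2 ⟨zpowers_le.2 zR hc, mul_mem hc hc, fun r hr => by
    rw [commutatorElement_eq_one_iff_mul_comm.2 (cen z2 cz hc hr)]; exact one_mem _⟩
  have xK' : ∀ k ∈ K, x * k * x⁻¹ ∈ K := fun k hk => by
    obtain ⟨k1, k2, k3⟩ := (hK k).1 hk
    refine (hK _).2 ⟨conj_mem_of_norm t.xn k1, ?_, fun r hr => ?_⟩
    · rw [show x * k * x⁻¹ * (x * k * x⁻¹) = x * (k * k) * x⁻¹ by group, xZ _ k2]; exact k2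
    · rw [show r = x * (x⁻¹ * r * x) * x⁻¹ by group, cj_cm, xZ _ (k3 _ (conj_mem_of_norm' t.xn hr))]
      exact k3 _ (conj_mem_of_norm' t.xn hr)
  have xK : x ∈ normalizer (K : Set G) := mem_normalizer_of_conj_mem xK'
  have uK : u ∈ K := (hK u).2 ⟨h.u_mem₂, by rw [EB.u2 e]; exact one_mem _, fun r hr => e.commU (le₂ hr) EB.uU⟩
  have uZ : u ∉ zpowers z := fun c => by
    rcases (mem_zpowers_sq z2).1 c with c | c
    exacts [EB.u1 e c, EB.uz e c]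
  have mv : ⁅x, u⁆ ∉ zpowers z := fun c => h.move (by
    rw [show x * u * x⁻¹ = ⁅x, u⁆ * u by simp only [commutatorElement_def]; group]
    exact mul_mem (zpowers_le.2 EB.zU c) EB.uU)
  have sK : ∀ k ∈ K, k * k ∈ zpowers z := fun k hk => ((hK k).1 hk).2.1
  have cK : ∀ r ∈ R₂, ∀ k ∈ K, ⁅r, k⁆ ∈ zpowers z := fun r hr k hk => ((hK k).1 hk).2.2 r hr
  obtain ⟨cardK, -, fpf⟩ := (t.sec (h4.mono le₂) ZK KR xK nZ sK ⟨u, uK, mv⟩).resolve_left fun c => h3 c.2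
  have irr : ∀ M : Subgroup G, zpowers z ≤ M → M ≤ K → (∀ m ∈ M, x * m * x⁻¹ ∈ M) → M ≤ zpowers z ∨ K ≤ M := by
    intro M h1 h2 hx
    by_cases hm : ∃ k ∈ M, ⁅x, k⁆ ∉ zpowers z
    · obtain ⟨c, -⟩ := (t.sec (h4.mono le₂) h1 (h2.trans KR) (mem_normalizer_of_conj_mem hx) nZ
        (fun k hk => sK k (h2 hk)) hm).resolve_left fun c => h3 c.2
      exact .inr (eq_of_le_of_card_ge h2 (by omega)).ge
    · push Not at hm
      exact .inl fun k hk => fpf k (h2 hk) (hm k hk)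
  have cardZ : Nat.card (zpowers z) = 2 := by
    rw [Nat.card_zpowers]
    exact orderOf_eq_prime (by rw [pow_two]; exact z2) h.z_ne
  -- the centre of `K`
  have zK : ∀ k ∈ K, Cz k K → k ∈ zpowers z := by
    rcases irr (K ⊓ centralizer (K : Set G)) (le_inf ZK fun c hc => TriA.cz_iff.1 fun r hr =>
        (cen z2 cz hc (KR hr)).symm) inf_le_left (fun m hm => ⟨xK' m hm.1,
          TriA.cz_iff.1 ((TriA.cz_iff.2 hm.2).conj xK)⟩) with c | c
    · exact fun k hk hc => c ⟨hk, TriA.cz_iff.1 hc⟩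
    exfalso
    have ab : ∀ a ∈ K, ∀ b ∈ K, a * b = b * a := fun a ha => TriA.cz_iff.2 (c ha).2
    let O : Subgroup G :=
      { carrier := {k | k ∈ K ∧ k * k = 1}
        mul_mem' := by
          rintro a b ⟨a1, a2⟩ ⟨b1, b2⟩
          refine ⟨mul_mem a1 b1, ?_⟩
          rw [sq_mul a2, b2, commutatorElement_eq_one_iff_mul_comm.2 (ab a a1 b b1), mul_one]
        one_mem' := ⟨one_mem _, mul_one _⟩
        inv_mem' := by
          rintro a ⟨a1, a2⟩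
          exact ⟨inv_mem a1, by rw [← mul_inv_rev, a2, inv_one]⟩ }
    rcases irr O (fun c hc => ⟨ZK hc, zsq z2 hc⟩) (fun k hk => hk.1) (fun m hm => ⟨xK' m hm.1, by
        rw [show x * m * x⁻¹ * (x * m * x⁻¹) = x * (m * m) * x⁻¹ by group, hm.2]; group⟩) with d | d
    · exact uZ (d ⟨uK, EB.u2 e⟩)
    · have := h4 ⊥ K bot_le (KR.trans le₂) fun k hk => mem_bot.2 (d hk).2
      rw [card_bot] at this
      omega
  have five : ∀ g ∈ R₂, g * g ∈ zpowers z → g ∈ K := fun g hg g2 =>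
    h4.five (KR.trans le₂) ZK sK cardK (le₂ hg) g2 (cK g hg)
  have CZ : ∀ n : ℕ, ∀ c ∈ R₂, Cz c K → c ^ 2 ^ n ∈ zpowers z → c ∈ zpowers z := by
    intro n
    induction n with
    | zero => intro c _ _ hc; simpa using hc
    | succ n ih =>
      intro c h1 h2 hc
      rw [pow_succ', pow_mul, pow_two] at hc
      exact zK c (five c h1 (ih _ (mul_mem h1 h1) (h2.mul h2) hc)) h2
  have sR : ∀ r ∈ R₂, r * r ∈ zpowers z := fun r hr => by
    obtain ⟨n, hn⟩ := t.two ⟨r * r, mul_mem hr hr⟩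
    refine CZ n _ (mul_mem hr hr) (fun k hk => ?_) (by
      rw [show (r * r) ^ 2 ^ n = 1 from congrArg Subtype.val hn]; exact one_mem _)
    rw [← commutatorElement_eq_one_iff_mul_comm, show ⁅r * r, k⁆ = r * ⁅r, k⁆ * r⁻¹ * ⁅r, k⁆ by
      simp only [commutatorElement_def]; group, cen z2 cz (cK r hr k hk) hr, mul_inv_cancel_right]
    exact zsq z2 (cK r hr k hk)
  -- the five conjugates
  obtain ⟨u1, e1⟩ : ∃ y, y = x * u * x⁻¹ := ⟨_, rfl⟩
  obtain ⟨u2, e2⟩ : ∃ y, y = x * u1 * x⁻¹ := ⟨_, rfl⟩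
  obtain ⟨u3, e3⟩ : ∃ y, y = x * u2 * x⁻¹ := ⟨_, rfl⟩
  obtain ⟨u4, e4⟩ : ∃ y, y = x * u3 * x⁻¹ := ⟨_, rfl⟩
  have e0 : u = x * u4 * x⁻¹ := by
    rw [e4, e3, e2, e1]
    calc u = x ^ 5 * u * (x ^ 5)⁻¹ := by rw [h5 u h.u_mem₂, mul_inv_cancel_right]
      _ = _ := by simp only [pow_succ, pow_zero]; group
  have m1 : u1 ∈ K := e1 ▸ xK' _ uK
  have m2 : u2 ∈ K := e2 ▸ xK' _ m1
  have m3 : u3 ∈ K := e3 ▸ xK' _ m2
  have m4 : u4 ∈ K := e4 ▸ xK' _ m3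
  have cq : ∀ {a b : G}, b = x * a * x⁻¹ → a * a = 1 → b * b = 1 := by
    rintro a _ rfl ha
    rw [show x * a * x⁻¹ * (x * a * x⁻¹) = x * (a * a) * x⁻¹ by group, ha]; group
  have q0 := EB.u2 e
  have q1 := cq e1 q0
  have q2 := cq e2 q1
  have q3 := cq e3 q2
  have q4 := cq e4 q3
  have cc : ∀ {a b a' b' : G}, a ∈ K → b ∈ K → a' = x * a * x⁻¹ → b' = x * b * x⁻¹ → ⁅a', b'⁆ = ⁅a, b⁆ := by
    rintro a b _ _ ha hb rfl rfl
    rw [cj_cm, xZ _ (cK a (KR ha) b hb)]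
  have sy : ∀ {a b : G}, a ∈ K → b ∈ K → ⁅b, a⁆ = ⁅a, b⁆ := fun {a b} ha hb => by
    rw [← commutatorElement_inv, inv_eq_of_mul_eq_one_right (zsq z2 (cK a (KR ha) b hb))]
  have ml : ∀ {a b c : G}, a ∈ K → b ∈ K → c ∈ K → ⁅a, b * c⁆ = ⁅a, b⁆ * ⁅a, c⁆ := fun {a b c} ha hb hc =>
    cm_mul (cen z2 cz (cK a (KR ha) c hc) (KR hb))
  have a12 := cc uK m1 e1 e2
  have a23 := (cc m1 m2 e2 e3).trans a12
  have a34 := (cc m2 m3 e3 e4).trans a23
  have a04 := (sy m4 uK).trans ((cc m3 m4 e4 e0).trans a34)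
  have b13 := cc uK m2 e1 e3
  have b24 := (cc m1 m3 e2 e4).trans b13
  have b03 := (sy m3 uK).trans ((cc m2 m4 e3 e0).trans b24)
  have pK : u1 * (u2 * (u3 * u4)) ∈ K := mul_mem m1 (mul_mem m2 (mul_mem m3 m4))
  have pZ : u * (u1 * (u2 * (u3 * u4))) ∈ zpowers z := by
    refine fpf _ (mul_mem uK pK) ?_
    have : ⁅x, u * (u1 * (u2 * (u3 * u4)))⁆ = ⁅u1 * (u2 * (u3 * u4)), u⁆ := by
      rw [commutatorElement_def, commutatorElement_def, show x * (u * (u1 * (u2 * (u3 * u4)))) * x⁻¹ =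
        x * u * x⁻¹ * (x * u1 * x⁻¹ * (x * u2 * x⁻¹ * (x * u3 * x⁻¹ * (x * u4 * x⁻¹)))) by group,
        ← e0, ← e1, ← e2, ← e3, ← e4]
      group
    rw [this]
    exact cK _ (KR pK) u uK
  have sq : u * (u1 * (u2 * u3)) * (u * (u1 * (u2 * u3))) = 1 := by
    have : u * (u1 * (u2 * u3)) = u * (u1 * (u2 * (u3 * u4))) * u4 := by
      simp only [mul_assoc, q4, mul_one]
    rw [this, mul_assoc, ← mul_assoc u4, cen z2 cz pZ (KR m4), mul_assoc _ u4, q4, mul_one]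
    exact zsq z2 pZ
  rw [sq_mul q0, sq_mul q1, sq_mul q2, q3, ml uK m1 (mul_mem m2 m3), ml uK m2 m3, ml m1 m2 m3, a12, a23, b13,
    b03] at sq
  have cm : ∀ {a b : G}, ⁅a, b⁆ = 1 → a * b = b * a := commutatorElement_eq_one_iff_mul_comm.1
  rcases (mem_zpowers_sq z2).1 (cK u h.u_mem₂ u1 m1) with α | α <;>
    rcases (mem_zpowers_sq z2).1 (cK u h.u_mem₂ u2 m2) with β | β
  · rcases irr (K ⊓ centralizer {u, u1, u2, u3, u4}) (le_inf ZK fun c hc => mem_centralizer_iff.2 (by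
        simp only [Set.mem_insert_iff, Set.mem_singleton_iff]
        rintro _ (rfl | rfl | rfl | rfl | rfl) <;> exact cen z2 cz hc (KR ‹_›))) inf_le_left (fun m hm => ⟨xK' m hm.1, by
        have := mem_centralizer_iff.1 hm.2
        simp only [Set.mem_insert_iff, Set.mem_singleton_iff, forall_eq_or_imp, forall_eq] at this
        obtain ⟨c0, c1, c2, c3, c4⟩ := this
        have k : ∀ {a b : G}, b = x * a * x⁻¹ → a * m = m * a → b * (x * m * x⁻¹) = x * m * x⁻¹ * b := by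
          rintro a _ rfl ha
          rw [show x * a * x⁻¹ * (x * m * x⁻¹) = x * (a * m) * x⁻¹ by group, ha]; group
        refine mem_centralizer_iff.2 ?_
        simp only [Set.mem_insert_iff, Set.mem_singleton_iff, forall_eq_or_imp, forall_eq]
        exact ⟨k e0 c4, k e1 c0, k e2 c1, k e3 c2, k e4 c3⟩⟩) with d | d
    · refine uZ (d ⟨uK, mem_centralizer_iff.2 ?_⟩)
      simp only [Set.mem_insert_iff, Set.mem_singleton_iff, forall_eq_or_imp, forall_eq]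
      exact ⟨trivial, (cm α).symm, (cm β).symm, (cm (b03.trans β)).symm, (cm (a04.trans α)).symm⟩
    · exact uZ (zK u uK fun k hk => mem_centralizer_iff.1 (d hk).2 u (by simp))
  · exact h.z_ne (by simpa [α, β, z2] using sq)
  · exact h.z_ne (by simpa [α, β, z2] using sq)
  · have out : ∀ {a b : G}, a ∈ K → b ∈ K → a * a = 1 → b * b = 1 → ⁅u, a⁆ = z → ⁅u, b⁆ = z → ⁅a, b⁆ = z →
        ρ * (a * b) * ρ⁻¹ ∈ S ∧ ρ * (a * b) * ρ⁻¹ ∉ R₂ := fun {a b} ha hb sa sb c1 c2 c3 => by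
      have m : a * b ∈ R₁ := (h.mem _ (le₂ (KR (mul_mem ha hb)))).2 (cm (by rw [ml uK ha hb, c1, c2, z2])).symm
      refine ⟨EB.le e (conj_mem_of_norm h.bas.tri.xn m), fun c => uZ ?_⟩
      have := sR _ c
      rwa [show ρ * (a * b) * ρ⁻¹ * (ρ * (a * b) * ρ⁻¹) = ρ * (a * b * (a * b)) * ρ⁻¹ by group, sq_mul sa, sb, c3,
        mul_one, h.rz] at this
    have o1 := out m1 m2 q1 q2 α β (a12.trans α)
    have o2 := out m2 m3 q2 q3 β (b03.trans β) (a23.trans α)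
    have o3 := out m1 m3 q1 q3 α (b03.trans β) (b13.trans β)
    refine o3.2 ?_
    have := h.ix₂.mul_mem o1.1 o2.1 o1.2 o2.2
    rwa [show ρ * (u1 * u2) * ρ⁻¹ * (ρ * (u2 * u3) * ρ⁻¹) = ρ * (u1 * (u2 * u2) * u3) * ρ⁻¹ by group, q2,
      mul_one] at this

end Cfsg.Agent.GH
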