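import Mathlib
import Cfsg.Agent.GH.Aft
import Cfsg.Agent.GH.TriA

/-! A model of the Sylow 2-subgroup of `Aut G₂(3)`: `4² ⋊ D₈`. See `stubs/Cfsg/Agent/GH/PLAN2.md`. -/

set_option autoImplicit false
set_option linter.unusedSectionVars false

namespace Cfsg.Agent.GH.E6

open Cfsg.Agent.Inv.Fz Cfsg.Agent.NE Subgroup

/-- Coordinates on `4²`. -/
abbrev V : Type := ZMod 4 × ZMod 4

/-- The linear map with the given images of the basis. -/
def lin (u w x : V) : V := (x.1 * u.1 + x.2 * w.1, x.1 * u.2 + x.2 * w.2)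

/-- The scalar `1 + 2 y`. -/
def lam (y : Bool × Bool) : V := (cond y.1 3 1, cond y.2 2 0)

/-- Multiplication by `ω`. -/
def om (x : V) : V := lin (0, 1) (3, 3) x

/-- Elements `t c^i d^j s^k` of the model. -/
@[ext] structure E where
  t : V
  i : Bool
  j : Bool
  k : Bool

instance decEqE : DecidableEq E := fun x y =>
  decidable_of_iff (x.k = y.k ∧ x.j = y.j ∧ x.i = y.i ∧ x.t.1 = y.t.1 ∧ x.t.2 = y.t.2) (by
    rw [E.ext_iff, Prod.ext_iff]; tauto)

instance decAllE (q : E → Prop) [DecidablePred q] : Decidable (∀ e, q e) :=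
  decidable_of_iff (∀ (k j i : Bool) (a b : Fin 4), q ⟨(a, b), i, j, k⟩)
    ⟨fun h e => h e.k e.j e.i e.t.1 e.t.2, fun h _ _ _ _ _ => h _⟩

instance decExE (q : E → Prop) [DecidablePred q] : Decidable (∃ e, q e) :=
  decidable_of_iff (∃ (k j i : Bool) (a b : Fin 4), q ⟨(a, b), i, j, k⟩)
    ⟨fun ⟨_, _, _, _, _, h⟩ => ⟨_, h⟩, fun ⟨e, h⟩ => ⟨e.k, e.j, e.i, e.t.1, e.t.2, h⟩⟩

/-- The action of `c`. -/
def aC (x : V) : V := lin (3, 0) (0, 3) x
/-- The action of `d`. -/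
def aD (x : V) : V := lin (1, 2) (2, 3) x
/-- The action of `s`. -/
def aS (x : V) : V := lin (1, 0) (3, 3) x
/-- Apply a map or not. -/
def cd (b : Bool) (f : V → V) (x : V) : V := cond b (f x) x

/-- The product of the model. -/
def m (x y : E) : E :=
  ⟨x.t + cd x.i aC (cd x.j aD (cd x.k aS y.t)), (x.i ^^ y.i) ^^ (x.k && y.j), x.j ^^ y.j, x.k ^^ y.k⟩

/-- The unit of the model. -/
def one : E := ⟨(0, 0), false, false, false⟩

/-- The trace modulo two. -/
def par (x : V) : Bool := decide (x.2 = 1 ∨ x.2 = 3)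

/-- The characters of the model. -/
def ch (b₁ b₂ b₃ : Bool) (e : E) : Bool := ((b₁ && par e.t) ^^ (b₂ && e.j)) ^^ (b₃ && e.k)

/-- The ordered products of sublists. -/
def sub : List E → List E
  | [] => [one]
  | g :: l => sub l ++ (sub l).map (m g)

theorem sub_ind {Q : E → Prop} (h1 : Q one) (hm : ∀ x y, Q x → Q y → Q (m x y)) :
    ∀ l : List E, (∀ g ∈ l, Q g) → ∀ e ∈ sub l, Q e
  | [], _, e, he => by rw [List.mem_singleton.1 he]; exact h1
  | g :: l, h, e, he => by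
    have ih := sub_ind h1 hm l fun x hx => h x (List.mem_cons_of_mem _ hx)
    rcases List.mem_append.1 he with k | k
    · exact ih e k
    · obtain ⟨x, hx, rfl⟩ := List.mem_map.1 k
      exact hm _ _ (h g List.mem_cons_self) (ih x hx)

/-- An involution with a non-elementary centraliser (any involution if `fl`), or an element of order eight. -/
def Pr {α : Type*} (mul : α → α → α) (o : α) (mem : α → Prop) (fl : Bool) (g : α) : Prop :=
  mem g ∧ ((mul g g = o ∧ (fl = true ∨ ∃ h, mem h ∧ mul h g = mul g h ∧ mul h h ≠ o)) ∨ mul (mul g g) (mul g g) ≠ o)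

theorem Pr.map {α β : Type*} {mul : α → α → α} {o : α} {mem : α → Prop} {mul' : β → β → β} {o' : β} {mem' : β → Prop}
    {f : α → β} (hm : ∀ x y, f (mul x y) = mul' (f x) (f y)) (ho : f o = o') (hi : Function.Injective f)
    (h1 : ∀ x, mem' (f x) ↔ mem x) (h2 : ∀ y, mem' y → ∃ x, f x = y) {fl : Bool} {g : α} :
    Pr mul' o' mem' fl (f g) ↔ Pr mul o mem fl g := by
  subst ho
  have k : (∃ h, mem' h ∧ mul' h (f g) = mul' (f g) h ∧ mul' h h ≠ f o) ↔
      ∃ h, mem h ∧ mul h g = mul g h ∧ mul h h ≠ o := by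
    constructor
    · rintro ⟨h, a, b, c⟩
      obtain ⟨x, rfl⟩ := h2 h a
      exact ⟨x, (h1 x).1 a, hi (by rw [hm, hm, b]), fun e => c (by rw [← hm, e])⟩
    · rintro ⟨x, a, b, c⟩
      exact ⟨f x, (h1 x).2 a, by rw [← hm, ← hm, b], fun e => c (hi (by rw [hm, e]))⟩
  simp only [Pr, k, h1, ← hm, hi.eq_iff, Ne]

/-- The property in the model. -/
abbrev Pm (b₁ b₂ b₃ : Bool) (g : E) : Prop := Pr m one (fun e => ch b₁ b₂ b₃ e = false) (!b₁ && b₂ && b₃) g

instance decPm (b₁ b₂ b₃ : Bool) (g : E) : Decidable (Pm b₁ b₂ b₃ g) := by unfold Pm Pr; infer_instance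

/-- Generators of `M ∩ R`. -/
def gens : Bool → Bool → List E
  | false, false => [⟨(0, 0), false, false, true⟩, ⟨(2, 0), false, false, true⟩, ⟨(2, 0), true, false, false⟩,
      ⟨(0, 2), true, false, false⟩, ⟨(3, 0), true, false, true⟩, ⟨(0, 3), false, false, true⟩]
  | false, true => [⟨(2, 3), true, false, false⟩, ⟨(0, 2), false, false, false⟩, ⟨(1, 1), true, false, false⟩,
      ⟨(3, 0), true, false, false⟩, ⟨(1, 0), true, false, false⟩]
  | true, false => [⟨(3, 2), false, false, true⟩, ⟨(0, 2), true, false, false⟩, ⟨(3, 0), true, false, false⟩,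
      ⟨(1, 0), true, false, false⟩, ⟨(2, 0), true, false, false⟩]
  | true, true => [⟨(0, 1), true, false, true⟩, ⟨(2, 1), false, false, true⟩, ⟨(2, 2), false, false, false⟩,
      ⟨(3, 0), true, false, false⟩, ⟨(1, 0), true, false, false⟩, ⟨(0, 1), true, false, true⟩]

theorem pm_mem : ∀ b₁ b₂ b₃ : Bool, ∀ e : E, e.j = true → ¬ Pm b₁ b₂ b₃ e := by decide +kernel

theorem pm_gens : ∀ b₁ b₂ b₃ : Bool, ∀ g ∈ gens b₁ b₃, Pm b₁ b₂ b₃ g := by decide +kernel

theorem mem_sub : ∀ b₁ b₃ : Bool, ∀ e : E, e.j = false → ch b₁ false b₃ e = false → e ∈ sub (gens b₁ b₃) := by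
  decide +kernel

/-- The generator `v ^ ρ`. -/
def g1 : E := ⟨(0, 1), false, false, false⟩
/-- The generator `d`. -/
def g2 : E := ⟨(0, 0), false, true, false⟩
/-- The generator `s`. -/
def g3 : E := ⟨(0, 0), false, false, true⟩

/-- A polycyclic sequence. -/
def pc : List E := [g1, m g1 g1, m g3 (m g1 g3), m g3 (m g1 (m g1 g3)), m g3 (m g2 (m g3 g2)), g2, g3]

theorem mem_pc : ∀ e : E, e ∈ sub pc := by decide +kernel

theorem ch_m : ∀ b₁ b₂ b₃ : Bool, ∀ x y : E, ch b₁ b₂ b₃ (m x y) = (ch b₁ b₂ b₃ x ^^ ch b₁ b₂ b₃ y) := by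
  have k : ∀ (i j k : Bool) (x y : V), par (x + cd i aC (cd j aD (cd k aS y))) = (par x ^^ par y) := by
    decide +kernel
  intro b₁ b₂ b₃ x y
  simp only [ch, m, k]
  generalize par x.t = p, par y.t = q
  generalize x.j = a, y.j = b, x.k = c, y.k = d
  revert b₁ b₂ b₃ p q a b c d
  decide

theorem ch_eq {π : E → Bool} (h : ∀ x y, π (m x y) = (π x ^^ π y)) (e : E) : π e = ch (π g1) (π g2) (π g3) e := by
  have h1 : π one = false := by
    have := h one one
    rwa [show m one one = one by decide, Bool.xor_self] at this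
  have hm : ∀ x y, π x = ch (π g1) (π g2) (π g3) x → π y = ch (π g1) (π g2) (π g3) y →
      π (m x y) = ch (π g1) (π g2) (π g3) (m x y) := fun x y a b => by rw [h, ch_m, ← a, ← b]
  have k : ∀ a b c : Bool, a = ch a b c g1 ∧ b = ch a b c g2 ∧ c = ch a b c g3 ∧ false = ch a b c one := by decide
  obtain ⟨a1, a2, a3, a4⟩ := k (π g1) (π g2) (π g3)
  refine sub_ind (Q := fun e => π e = ch (π g1) (π g2) (π g3) e) (h1.trans a4) hm pc ?_ e (mem_pc e)
  · simp only [pc, List.forall_mem_cons, List.not_mem_nil, IsEmpty.forall_iff, implies_true, and_true]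
    exact ⟨a1, hm _ _ a1 a1, hm _ _ a3 (hm _ _ a1 a3), hm _ _ a3 (hm _ _ a1 (hm _ _ a1 a3)),
      hm _ _ a3 (hm _ _ a2 (hm _ _ a3 a2)), a2, a3⟩

theorem exists_inv : ∀ x : E, ∃ y, m y x = one ∧ y.j = x.j := by
  have : ∀ x : E, m (m x (m (m x x) (m (m x x) (m x x)))) x = one ∧ (m x (m (m x x) (m (m x x) (m x x)))).j = x.j := by
    decide +kernel
  exact fun x => ⟨_, this x⟩

variable {G : Type*} [Group G] [Finite G] {S R : Subgroup G} {φ : E → G} {x : G}

/-- `φ` is an isomorphism of the model onto `S`. -/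
structure Md (S : Subgroup G) (φ : E → G) : Prop where
  mul : ∀ x y, φ (m x y) = φ x * φ y
  inj : Function.Injective φ
  mem : ∀ g, g ∈ S ↔ ∃ e, φ e = g

namespace Md
variable (h : Md S φ)
include h

theorem one' : φ one = 1 := by
  have := h.mul one one
  rw [show m one one = one by decide] at this
  exact left_eq_mul.1 this

/-- The subgroup `M = T ⟨c, s⟩`. -/
def M : Subgroup G where
  carrier := {g | ∃ e : E, e.j = false ∧ φ e = g}
  one_mem' := ⟨one, rfl, h.one'⟩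
  mul_mem' := by
    rintro _ _ ⟨a, ha, rfl⟩ ⟨b, hb, rfl⟩
    exact ⟨m a b, by simp [m, ha, hb], h.mul a b⟩
  inv_mem' := by
    rintro _ ⟨a, ha, rfl⟩
    obtain ⟨b, e, hb⟩ := exists_inv a
    exact ⟨b, hb.trans ha, eq_inv_of_mul_eq_one_left (by rw [← h.mul, e, h.one'])⟩

theorem memM {e : E} : φ e ∈ h.M ↔ e.j = false := ⟨fun ⟨_, a, b⟩ => h.inj b ▸ a, fun a => ⟨e, a, rfl⟩⟩

theorem key (hR : R ≤ S) (hi : ∀ u ∈ S, ∀ v ∈ S, u ∉ R → v ∉ R → u * v ∈ R) (hx : x ∈ normalizer (R : Set G))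
    {y : G} (hy : y ∈ R) (hM : y ∈ h.M) : x * y * x⁻¹ ∈ h.M := by
  classical
  have hS : ∀ e, φ e ∈ S := fun e => (h.mem _).2 ⟨e, rfl⟩
  have hπ : ∀ a b, decide (φ (m a b) ∉ R) = (decide (φ a ∉ R) ^^ decide (φ b ∉ R)) := fun a b => by
    rw [h.mul]
    by_cases ha : φ a ∈ R <;> by_cases hb : φ b ∈ R
    · simp [ha, hb, mul_mem ha hb]
    · simp [ha, hb, mul_mem_cancel_left ha]
    · simp [ha, hb, mul_mem_cancel_right hb]
    · simp [ha, hb, hi _ (hS a) _ (hS b) ha hb]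
  obtain ⟨b₁, b₂, b₃, hb⟩ : ∃ b₁ b₂ b₃, ∀ e, φ e ∈ R ↔ ch b₁ b₂ b₃ e = false :=
    ⟨_, _, _, fun e => by rw [← ch_eq (π := fun e => decide (φ e ∉ R)) hπ e]; simp⟩
  have t1 : ∀ g, Pr (· * ·) 1 (· ∈ R) (!b₁ && b₂ && b₃) (φ g) ↔ Pm b₁ b₂ b₃ g := fun g =>
    Pr.map h.mul h.one' h.inj hb fun y k => (h.mem y).1 (hR k)
  have t2 : ∀ g, Pr (· * ·) 1 (· ∈ R) (!b₁ && b₂ && b₃) (x * g * x⁻¹) ↔ Pr (· * ·) 1 (· ∈ R) (!b₁ && b₂ && b₃) g :=
    fun g => Pr.map (f := fun g => x * g * x⁻¹) (fun a b => by group) (by group) (MulAut.conj x).injective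
      (fun _ => conj_mem_norm hx) fun y _ => ⟨x⁻¹ * y * x, by group⟩
  obtain ⟨e, he, rfl⟩ := hM
  refine sub_ind (Q := fun e => x * φ e * x⁻¹ ∈ h.M) (by simp [h.one']) (fun a b ha hb => ?_) _
    (fun g hg => ?_) e (mem_sub b₁ b₃ e he ?_)
  · simpa only [h.mul, conj_mul'] using mul_mem ha hb
  · have k := (t2 _).2 ((t1 g).2 (pm_gens b₁ b₂ b₃ g hg))
    obtain ⟨g', e'⟩ := (h.mem _).1 (hR k.1)
    rw [← e'] at k ⊢
    exact h.memM.2 (Bool.eq_false_iff.2 fun a => pm_mem b₁ b₂ b₃ g' a ((t1 g').1 k))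
  · simpa [ch, he] using (hb e).1 hy

end Md

theorem not_md (c : Ctx G) (hE : c.AllE) (h : Md c.S φ) : False := by
  have hS : ∀ e, φ e ∈ c.S := fun e => (h.mem _).2 ⟨e, rfl⟩
  have hi : Ix c.S h.M (φ g2) := fun y hy => by
    obtain ⟨e, rfl⟩ := (h.mem y).1 hy
    rw [← h.mul, h.memM, h.memM]
    cases k : e.j <;> simp [m, g2, k]
  obtain ⟨R, x, s, hb, hn⟩ := c.span2 hi (fun k => absurd (h.memM.1 (k (hS g2))) (by decide))
    fun n hn _ y hy hM => h.key le_rfl (fun _ hu _ _ a => absurd hu a) hn hy hM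
  have i := (hE R x s hb).1
  refine hn ((supp_le_idx (K := R ⊓ h.M) hb.tri.xn inf_le_left (mem_normalizer_of_conj_mem fun y hy =>
    ⟨(conj_mem_norm hb.tri.xn).2 hy.1, h.key hb.crit.le (fun _ hu _ hv => i.mul_mem hu hv) hb.tri.xn hy.1 hy.2⟩)
    fun u hu v hv a b => ⟨mul_mem hu hv, hi.mul_mem (hb.crit.le hu) (hb.crit.le hv) (fun k => a ⟨hu, k⟩)
      fun k => b ⟨hv, k⟩⟩).trans inf_le_right)

end Cfsg.Agent.GH.E6
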