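import Mathlib
import Cfsg.Agent.GH.Defs3
import Cfsg.Agent.GH.GoodA

/-! Good quaternion groups: the centraliser of the involution. See `stubs/Cfsg/Agent/GH/PLAN2.md`. -/

set_option autoImplicit false
set_option linter.unusedSectionVars false

namespace Cfsg.Agent.GH

open Cfsg.Agent.Inv.Fz Cfsg.Agent.NE Subgroup
open scoped commutatorElement

variable {G : Type*} [Group G] [Finite G] {S R K N Θ Θ' H : Subgroup G} {x s g v a b a' b' y : G} {n n' : ℕ}

namespace GQ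

open BsA YA UPL TriA

variable {Q : Type*} [Group Q] [Finite Q] {L C : Subgroup G} {f : L →* Q} {z : G}

theorem mim {l : L} (h : (l : G) ∈ K) : f l ∈ im f K := ⟨l, h, rfl⟩

theorem im_pair (u v : L) : im f (closure {(u : G), (v : G)}) = closure {f u, f v} := by
  have : (closure {(u : G), (v : G)} : Subgroup G) = (closure {u, v}).map L.subtype := by
    rw [MonoidHom.map_closure, Set.image_pair]; rfl
  rw [im, this, subgroupOf, comap_map_eq_self_of_injective L.subtype_injective, MonoidHom.map_closure, Set.image_pair]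

theorem im_zp (u : L) : im f (zpowers (u : G)) = zpowers (f u) := by
  rw [zpowers_eq_closure, zpowers_eq_closure, ← Set.pair_eq_singleton, im_pair, Set.pair_eq_singleton]

theorem im_cj (l : L) : im f (cj (l : G) K) = cj (f l) (im f K) := by
  ext q
  rw [mem_cj]
  constructor
  · rintro ⟨u, hu, rfl⟩
    exact ⟨l⁻¹ * u * l, (mem_cj (g := (l : G))).1 hu, by simp⟩
  · rintro ⟨u, hu, e⟩
    exact ⟨l * u * l⁻¹, (conj_mem_cj (g := (l : G))).2 hu, by rw [map_mul, map_mul, e, map_inv]; group⟩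

theorem im_sup (h1 : K ≤ L) (h2 : H ≤ L) : im f (K ⊔ H) = im f K ⊔ im f H := by
  rw [im, Subgroup.subgroupOf_sup h1 h2, Subgroup.map_sup]; rfl

theorem im_phi (hK : K ≤ L) {l : L} (h : (l : G) ∈ phi K) : f l ∈ phi (im f K) := by
  obtain ⟨u, hu, e⟩ := (phi_le_iff (K := ((phi (im f K)).comap f).map L.subtype)).2 (fun r hr =>
    ⟨⟨r, hK hr⟩ * ⟨r, hK hr⟩, show f _ ∈ phi _ from map_mul f _ _ ▸ mem_phi (mim hr), rfl⟩) h
  exact (Subtype.ext e : u = l) ▸ hu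

section
variable (hf : ∀ l : L, f l = 1 ↔ (l : G) ∈ N) (hN : N ≤ L)
include hf hN

theorem norm_iff (h1 : N ≤ K) (h2 : K ≤ L) (l : L) :
    f l ∈ normalizer (im f K : Set Q) ↔ (l : G) ∈ normalizer (K : Set G) :=
  ⟨fun c => mem_normalizer_of_conj_mem fun r hr => (mem_im hf hN h1 (l * ⟨r, h2 hr⟩ * l⁻¹)).1 (by
    rw [map_mul, map_mul, map_inv]; exact (conj_mem_norm c).2 (mim hr)), norm_im h2⟩

theorem cm_iff (h1 : N ≤ K) (u v : L) : ⁅f u, f v⁆ ∈ im f K ↔ ⁅(u : G), (v : G)⁆ ∈ K := by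
  rw [← map_commutatorElement]; exact mem_im hf hN h1 _

omit hN in
theorem cm_one (u v : L) : f u * f v = f v * f u ↔ ⁅(u : G), (v : G)⁆ ∈ N := by
  rw [← cm1, ← map_commutatorElement]; exact hf _

end

/-- The lift of the dihedral group. -/
structure Lf (f : L →* Q) (C V : Subgroup G) (z : G) (a b g : L) (k : ℕ) : Prop where
  dq : DQ (closure {(a : G), (b : G)}) a b (k + 1)
  ez : zz (a : G) (k + 1) = z
  sq : (b : G) * b = z
  eV : V = closure {jj (a : G) (k + 1), (b : G)}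
  le : closure {(a : G), (b : G)} ≤ C
  gm : (g : G) ∈ C
  sw : (g : G) * b * (g : G)⁻¹ = b * a

theorem lift {V : Subgroup G} (q : Qz V z) (hf : ∀ l : L, f l = 1 ↔ (l : G) ∈ zpowers z) (hV : V ≤ C) (hC : C ≤ L)
    (cz : Cz z C) {Θ : Subgroup Q} {a b g : Q} {k : ℕ} (hq : DQ Θ a b k) (eV : im f V = closure {zz a k, b})
    (hg : g ∈ im f C) (sw : g * b * g⁻¹ = b * a) :
    ∃ a₀ b₀ g₀ : L, f a₀ = a ∧ f b₀ = b ∧ f g₀ = g ∧ Lf f C V z a₀ b₀ g₀ k := by
  have hN := q.le.trans (hV.trans hC)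
  obtain ⟨g, gm, rfl⟩ := hg
  obtain ⟨b, bV, rfl⟩ : b ∈ im f V := eV ▸ subset_closure (by simp)
  have gm : (g : G) ∈ C := gm
  have bV : (b : G) ∈ V := bV
  obtain ⟨a, ea, rfl⟩ : ∃ a₀ : L, (g : G) * b * (g : G)⁻¹ = b * a₀ ∧ f a₀ = a :=
    ⟨b⁻¹ * (g * b * g⁻¹), by simp, by rw [map_mul, map_mul, map_mul, map_inv, map_inv, sw, inv_mul_cancel_left]⟩
  have am : (a : G) ∈ C := (mul_mem_cancel_left (hV bV)).1 (ea ▸ mul_mem (mul_mem gm (hV bV)) (inv_mem gm))
  have b2 : (b : G) * b = z := q.sq_eq bV fun e => hq.not_mem ((hf b).2 e ▸ one_mem _)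
  have k1 := hq.pos
  have ej : jj (a : G) (k + 1) = (a ^ 2 ^ (k - 1) : L) := by rw [jj, SubgroupClass.coe_pow]; rfl
  have fj : f (a ^ 2 ^ (k - 1)) = zz (f a) k := map_pow _ _ _
  have jV : jj (a : G) (k + 1) ∈ V := ej ▸ (mem_im hf hN q.le _).1 (by rw [eV, fj]; exact subset_closure (by simp))
  have j2 := q.sq_eq jV fun e => hq.zz_ne.1 (fj ▸ (hf _).2 (ej ▸ e))
  have ez : zz (a : G) (k + 1) = z := by
    rw [← j2, zz, jj, ← pow_add, ← two_mul, ← pow_succ']; congr 2; omega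
  have e2 : (b : G) * a * (b * a) = b * b := by rw [← ea, ← conj_mul', b2, conj_eq_of_comm (cz _ gm).symm]
  refine ⟨a, b, g, rfl, rfl, rfl, ⟨by omega, orderOf_eq_prime_pow (n := k) (fun e => q.ne (ez ▸ e)) ?_, ?_, fun e => ?_, rfl,
    .inr ⟨by omega, ez ▸ b2⟩⟩, ez, b2, ?_, (closure_le _).2 (Set.insert_subset am (Set.singleton_subset_iff.2 (hV bV))),
    gm, ea⟩
  · rw [pow_succ, pow_mul, pow_two, show (a : G) ^ 2 ^ k = z from ez, q.sq]
  · calc _ = (a : G)⁻¹ * (b : G)⁻¹ * (b * a * (b * a)) * (b : G)⁻¹ := by group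
      _ = _ := by rw [e2]; group
  · exact hq.not_mem (im_zp (f := f) a ▸ mim e)
  · have l : closure {jj (a : G) (k + 1), (b : G)} ≤ V :=
      (closure_le _).2 (Set.insert_subset jV (Set.singleton_subset_iff.2 bV))
    refine le_antisymm ((im_le_im hf hN (zpowers_le.2 ?_) (hV.trans hC)).1 ?_) l
    · exact b2 ▸ mul_mem (subset_closure (by simp)) (subset_closure (by simp))
    · rw [eV, ej, im_pair, fj]

theorem sq_c {c v w : G} (e : ⁅c, v⁆ = w) (h1 : c * w = w * c) (h2 : w * w = 1) : c * c * v = v * (c * c) := by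
  refine cm1.1 ?_
  rw [mul_cm, e, conj_eq_of_comm h1, h2]

variable {V : Subgroup G} {a b g y : L} {k : ℕ} (h : Lf f C V z a b g k)
  (hf : ∀ l : L, f l = 1 ↔ (l : G) ∈ zpowers z) (hC : C ≤ L) (cz : Cz z C)
include h hf hC cz

theorem zA : zpowers z ≤ zpowers (a : G) := zpowers_le.2 (h.ez ▸ pow_mem (mem_zpowers _) _)
theorem zT : zpowers z ≤ closure {(a : G), (b : G)} := (zA h hf hC cz).trans (DihA.aL h.dq)
theorem zC : zpowers z ≤ C := (zT h hf hC cz).trans h.le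

theorem nT (l : L) : f l ∈ normalizer (closure {f a, f b} : Subgroup Q) ↔
    (l : G) ∈ normalizer (closure {(a : G), (b : G)} : Subgroup G) := by
  rw [← im_pair]; exact norm_iff hf ((zC h hf hC cz).trans hC) (zT h hf hC cz) (h.le.trans hC) l

theorem nA (l : L) : f l ∈ normalizer (zpowers (f a) : Subgroup Q) ↔ (l : G) ∈ normalizer (zpowers (a : G) : Subgroup G) := by
  rw [← im_zp]; exact norm_iff hf ((zC h hf hC cz).trans hC) (zA h hf hC cz) (zpowers_le.2 a.2) l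

theorem xt (t : XT (im f C) (closure {f a, f b}) (f a) (f b)) : XT C (closure {(a : G), (b : G)}) a b :=
  ⟨h.le, fun r hr => (nT h hf hC cz ⟨r, hC hr⟩).1 (t.norm (mim hr)),
    fun r hr => (nA h hf hC cz ⟨r, hC hr⟩).1 (t.na (mim hr)), g, h.gm, h.sw⟩

variable (t : YX (im f C) (closure {f a, f b}) (f a) (f b) (f y)) (hy : (y : G) ∈ C)
  (gn : f g ∈ normalizer (closure {f a, f b} : Subgroup Q))
include t hy gn

theorem yb : YB C (closure {(a : G), (b : G)}) a b y := by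
  have hN := (zC h hf hC cz).trans hC
  have l1 := h.le.trans hC
  have l2 : cj (y : G) (closure {(a : G), (b : G)}) ≤ L := (cj_mono l1).trans (cj_eq_of_mem y.2).le
  refine ⟨h.le, hy, mt (nT h hf hC cz y).2 t.not_norm, fun r hr => ?_,
    fun r hr => (nA h hf hC cz ⟨r, hC hr.1⟩).1 (t.na ⟨mim hr.1, (nT h hf hC cz _).2 hr.2⟩),
    ⟨g, h.gm, (nT h hf hC cz g).1 gn, h.sw⟩, fun r hr rn c1 c2 => ?_⟩
  · lift r to L using hC hr
    exact (t.ix _ (mim hr)).imp (nT h hf hC cz r).1 fun e => (nT h hf hC cz (y * r)).1 (map_mul f y r ▸ e)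
  · lift r to L using hC hr
    refine (mem_im hf hN ((zT h hf hC cz).trans le_sup_left) r).1 ?_
    have d1 := im_phi (f := f) l1 (l := ⁅r, b⁆) c1
    have d2 := im_phi (f := f) l2 (l := ⁅r, y * b * y⁻¹⁆) c2
    rw [map_commutatorElement, im_pair] at d1
    rw [map_commutatorElement, im_cj, im_pair, map_mul, map_mul, map_inv] at d2
    rw [im_sup l1 l2, im_cj, im_pair]
    exact t.k0 _ (mim hr) ((nT h hf hC cz r).2 rn) d1 d2

theorem ycomm : ∀ u ∈ closure {(a : G), (b : G)}, ∀ v ∈ cj (y : G) (closure {(a : G), (b : G)}), ⁅u, v⁆ ∈ zpowers z := by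
  intro u hu v hv
  have l1 := h.le.trans hC
  have l2 : cj (y : G) (closure {(a : G), (b : G)}) ≤ L := (cj_mono l1).trans (cj_eq_of_mem y.2).le
  lift u to L using l1 hu
  lift v to L using l2 hv
  exact (cm_one hf u v).1 (t.comm _ (im_pair (f := f) a b ▸ mim hu) _ (by rw [← im_pair, ← im_cj]; exact mim hv))

variable (hq : DQ (closure {f a, f b}) (f a) (f b) k)
include hq

theorem jc (hk : 2 ≤ k ∨ Nat.card (im f C) = 128) : Cz (jj (a : G) (k + 1)) (cj (y : G) (closure {(a : G), (b : G)})) := by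
  intro v hv
  have B := yb h hf hC cz t hy gn
  have l2 : cj (y : G) (closure {(a : G), (b : G)}) ≤ C := cj_eq_of_mem hy ▸ cj_mono h.le
  have z2 : z * z = 1 := h.ez ▸ h.dq.zz_ne.2.1
  have cw : ∀ {w c : G}, w ∈ zpowers z → c ∈ C → c * w = w * c := fun hw hc => comm_zpowers (cz _ hc).symm hw
  by_cases h2 : 2 ≤ k
  · have m : (a : G) ^ 2 ^ (k - 2) ∈ closure {(a : G), (b : G)} := pow_mem (am h.dq) _
    have c := ycomm h hf hC cz t hy gn _ m v hv
    have e : jj (a : G) (k + 1) = (a : G) ^ 2 ^ (k - 2) * (a : G) ^ 2 ^ (k - 2) := by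
      rw [jj, ← pow_add, ← two_mul, ← pow_succ']; congr 2; omega
    rw [e]
    exact sq_c rfl (cw c (h.le m)) (((mem_zpowers_sq z2).1 c).elim (fun e => by rw [e, one_mul]) fun e => by rw [e, z2])
  obtain rfl : k = 1 := by have := hq.pos; omega
  have c := hk.resolve_left h2
  obtain ⟨-, _, ⟨u, hu, rfl⟩, un, c1, c2⟩ := (t.card hq).resolve_left fun e => by rw [c] at e; exact absurd e.1 (by norm_num)
  have hu : (u : G) ∈ C := hu
  have e1 : zz (f a) 1 = f a := pow_one _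
  have a2 : f a * f a = 1 := e1 ▸ hq.zz_ne.2.1
  have d1 : ⁅f u, f b⁆ = f a := ((mem_zpowers_sq a2).1 (hq.conj_b un (t.na ⟨mim hu, un⟩)).2).resolve_left
    fun e => c1 (e ▸ one_mem _)
  rw [← cj_phi, hq.phi_eq, a2, zpowers_one_eq_bot, cj_bot, cmb] at c2
  have d2 : Cz (f u) (cj (f y) (closure {f a, f b})) := by
    rw [cj_pair]
    exact GA.cz_pair (comm_of_conj_eq (e1 ▸ fixz' t.toYB hq (mim hu) un)) c2
  lift v to L using hC (l2 hv)
  have p1 : ⁅(u : G), (v : G)⁆ ∈ zpowers z := (cm_one hf u v).1 (d2 _ (by rw [← im_pair, ← im_cj]; exact mim hv))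
  have p2 : (a : G)⁻¹ * ⁅(u : G), (b : G)⁆ ∈ zpowers z :=
    (hf (a⁻¹ * ⁅u, b⁆)).1 (by rw [map_mul, map_inv, map_commutatorElement, d1, inv_mul_cancel])
  have p3 := ycomm h hf hC cz t hy gn _ (bm h.dq) v hv
  have ej : jj (a : G) (1 + 1) = a := pow_one _
  have am' := h.le (am h.dq)
  have bm' := h.le (bm h.dq)
  have vm := l2 hv
  generalize e1 : ⁅(u : G), (v : G)⁆ = w₁ at p1
  generalize e2 : (a : G)⁻¹ * ⁅(u : G), (b : G)⁆ = w₂ at p2
  have f1 : (u : G) * v * (u : G)⁻¹ = w₁ * v := by rw [← e1, commutatorElement_def]; group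
  have f2 : (u : G) * b * (u : G)⁻¹ = a * (w₂ * b) := by rw [← e2, commutatorElement_def]; group
  have f3 := conj_eq_of_comm (cw p3 hu)
  rw [cj_cm, f1, f2, cm_mul, cm1.2 (cw p1 (mul_mem am' (mul_mem (zC h hf hC cz p2) bm'))), one_mul, mul_cm, mul_cm,
    cm1.2 (cw p2 vm).symm, mul_one, conj_eq_of_comm (cw p3 (zC h hf hC cz p2)), conj_eq_of_comm (cw p3 am'),
    conj_eq_of_comm (cw p1 (c := ⁅(b : G), (v : G)⁆ * ⁅(a : G), (v : G)⁆) (mul_mem (zC h hf hC cz p3)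
      (mul_mem (mul_mem (mul_mem am' vm) (inv_mem am')) (inv_mem vm)))).symm, mul_eq_left] at f3
  rw [ej]
  exact cm1.1 f3

theorem yo (hk : 2 ≤ k ∨ Nat.card (im f C) = 128) : YO C (closure {(a : G), (b : G)}) a b (k + 1) y := by
  have B := yb h hf hC cz t hy gn
  have J := jc h hf hC cz t hy gn hq hk
  have zc := zC h hf hC cz
  have hN := zc.trans hC
  have k1 := hq.pos
  have z2 : z * z = 1 := h.ez ▸ h.dq.zz_ne.2.1
  have cw : ∀ {w c : G}, w ∈ zpowers z → c ∈ C → c * w = w * c := fun hw hc => comm_zpowers (cz _ hc).symm hw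
  obtain ⟨j, ej, fj⟩ : ∃ j : L, jj (a : G) (k + 1) = j ∧ f j = zz (f a) k :=
    ⟨a ^ 2 ^ (k - 1), by rw [jj, SubgroupClass.coe_pow]; rfl, map_pow _ _ _⟩
  have fj' : f (y * j * y⁻¹) = f y * zz (f a) k * (f y)⁻¹ := by rw [map_mul, map_mul, map_inv, fj]
  obtain ⟨z₀, rfl⟩ : ∃ l : L, (l : G) = z := ⟨⟨z, hN (mem_zpowers z)⟩, rfl⟩
  have fz : f z₀ = 1 := (hf _).2 (mem_zpowers _)
  obtain ⟨j2, -, jb⟩ := h.dq.jj_sq (by omega)
  rw [ej, h.ez] at j2 jb
  have i2 : im f (closure {(z₀ : G), (j : G) * (y * j * (y : G)⁻¹)}) = zpowers (zz (f a) k * (f y * zz (f a) k * (f y)⁻¹)) := by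
    have := im_pair (f := f) z₀ (j * (y * j * y⁻¹))
    rw [fz, map_mul, fj, fj', closure_insert_one, ← zpowers_eq_closure] at this
    exact this
  have i3 : im f (closure {(j : G), y * j * (y : G)⁻¹}) = closure {zz (f a) k, f y * zz (f a) k * (f y)⁻¹} := by
    have := im_pair (f := f) j (y * j * y⁻¹)
    rw [fj, fj'] at this
    exact this
  have l2 : zpowers (z₀ : G) ≤ closure {(z₀ : G), (j : G) * (y * j * (y : G)⁻¹)} := zpowers_le.2 (subset_closure (by simp))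
  have l3 : zpowers (z₀ : G) ≤ closure {(j : G), y * j * (y : G)⁻¹} :=
    zpowers_le.2 (j2 ▸ mul_mem (subset_closure (by simp)) (subset_closure (by simp)))
  have Z2 : ∀ g ∈ C, (∀ r ∈ C, ⁅g, r⁆ ∈ zpowers (z₀ : G)) ↔ g ∈ closure {(z₀ : G), (j : G) * (y * j * (y : G)⁻¹)} := by
    intro r hr
    lift r to L using hC hr
    rw [← mem_im hf hN l2, i2, ← t.center hq (mim hr)]
    exact ⟨fun c _ ⟨u, hu, e⟩ => e ▸ (cm_one hf r u).2 (c u hu),
      fun c u hu => (cm_one hf r ⟨u, hC hu⟩).1 (c _ (mim hu))⟩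
  refine ⟨B, h.ez.symm ▸ ycomm h hf hC cz t hy gn, le_antisymm (fun u hu => ?_) ?_, J, fun r hr => ?_, ?_, ?_, ?_⟩
  · lift u to L using hC (h.le hu.1)
    rw [h.ez, ← hf]
    exact mem_bot.1 (t.disj.le ⟨im_pair (f := f) a b ▸ mim hu.1, by rw [← im_pair, ← im_cj]; exact mim hu.2⟩)
  · rw [h.ez]
    exact le_inf (zT h hf hC cz) (zpowers_le.2 (conj_eq_of_comm (cz _ hy).symm ▸
      conj_mem_cj.2 (zT h hf hC cz (mem_zpowers _))))
  · rw [h.ez]
    refine ⟨fun c => ?_, fun c u hu => (cw c hu).symm⟩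
    lift r to L using hC hr
    have m := (mem_im hf hN l2 r).2 ((Z2 r hr).1 fun u hu => cm1.2 (c u hu) ▸ one_mem _)
    rw [i2, mem_zpowers_sq ((t.el0 hq).sq _ (mul_mem (subset_closure (by simp)) (subset_closure (by simp))))] at m
    refine m.elim (hf r).1 fun e => absurd ?_ h.dq.zz_ne.1
    have p : ((j : G) * (y * j * (y : G)⁻¹))⁻¹ * r ∈ zpowers (z₀ : G) := (hf ((j * (y * j * y⁻¹))⁻¹ * r)).1 (by
      rw [map_mul, map_inv, map_mul, fj, fj', e, inv_mul_cancel])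
    have J' := cz_cj (g := (y : G)).2 J
    rw [cj_cj, cj_eq_iff.2 B.yy, ej] at J'
    have bm' := h.le (bm h.dq)
    have c1 := cm1.2 (c b bm')
    rw [← mul_inv_cancel_left ((j : G) * (y * j * (y : G)⁻¹)) r, mul_cm, cm1.2 (cw p bm').symm, mul_cm,
      cm1.2 (J' b (bm h.dq)), jb] at c1
    rw [h.ez]
    simpa only [mul_one, mul_inv_cancel, one_mul] using c1
  · rw [h.ez, ej]; exact Z2
  · rw [h.ez, ej]
    intro r hr
    lift r to L using hC hr
    rw [← mem_im hf hN l3, i3, ← t.z2 hq hk (mim hr), ← i2]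
    exact ⟨fun c _ ⟨u, hu, e⟩ => e ▸ (cm_iff hf hN l2 r u).2 (c u hu),
      fun c u hu => (cm_iff hf hN l2 r ⟨u, hC hu⟩).1 (c _ (mim hu))⟩
  · have c := card_im hf hN zc hC
    rw [card_zp2 z2 (h.ez ▸ h.dq.zz_ne.1)] at c
    refine (t.card hq).imp (fun e => ?_) fun e => ?_ <;> rw [c, e.1] <;> ring

end GQ

open GQ in
theorem T2.q_cases (h : T2 S R x s) (hS : IsPGroup 2 S) (h4 : Rk 16 S) (h8 : Q8 (supp R x)) :
    ∃ Θ a b n, TQ S R x s Θ a b n ∧ (XT (S ⊓ centralizer {zz a n}) Θ a b ∨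
      ∃ y, YO (S ⊓ centralizer {zz a n}) Θ a b n y) := by
  obtain ⟨z, q⟩ := h8.qz
  have n : normalizer (supp R x : Set G) ≤ normalizer (zpowers z : Set G) := fun g hg => q.phi_eq ▸ norm_phi hg
  obtain ⟨f, -, hf⟩ := exists_quo (zpowers z)
  have cz : Cz z (S ⊓ centralizer {z}) := fun r hr => (mem_centralizer_singleton_iff.1 hr.2).symm
  have hC : S ⊓ centralizer {z} ≤ normalizer (zpowers z : Set G) := fun r hr =>
    cj_eq_iff.1 (by rw [cj_zpowers, conj_eq_of_comm (cz r hr).symm])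
  have l : R ≤ S ⊓ centralizer {z} := fun r hr =>
    ⟨h.crit.le hr, mem_centralizer_singleton_iff.2 (q.cen (le_norm_supp hr))⟩
  have hV := (supp_le h.tri.xn).trans l
  obtain ⟨Θ, a, b, k, hq, -, eV, t⟩ := (T2.gd_quo (x := ⟨x, n mem_norm_supp⟩) (s := ⟨s, n h.tri.s_supp⟩) h hS h4 h8
    q.mem q.ne q.sq hf hC).cases
  rw [supp_im hf le_normalizer (l.trans hC)] at eV
  obtain ⟨g, hg, gn, sw⟩ : ∃ g ∈ im f (S ⊓ centralizer {z}), g ∈ normalizer (Θ : Set _) ∧ g * b * g⁻¹ = b * a :=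
    t.elim (fun t => t.swap.imp fun _ e => ⟨e.1, t.norm e.1, e.2⟩) fun ⟨_, t, _⟩ => t.swap
  obtain ⟨a, b, g, rfl, rfl, rfl, m⟩ := lift q hf hV hC cz hq eV hg sw
  obtain rfl := hq.eq
  refine ⟨_, a, b, k + 1, ⟨h, h8, m.dq, by have := hq.pos; omega, m.sq.trans m.ez.symm, m.eV⟩, ?_⟩
  rw [m.ez]
  refine t.imp (xt m hf hC cz) ?_
  rintro ⟨y, t, hk⟩
  obtain ⟨y, hy, rfl⟩ := t.mem
  exact ⟨y, yo m hf hC cz t hy gn hq (hk.imp_right And.left)⟩

end Cfsg.Agent.GH
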