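import Mathlib
import Cfsg.Agent.GH.Defs3
import Cfsg.Agent.GH.YBa

/-! The configuration `Y×` for `n ≥ 2`: the subgroups `⟨j, j^y⟩ ≤ ⟨a, a^y⟩ ≤ B`. See `stubs/Cfsg/Agent/GH/PLAN2.md`. -/

set_option autoImplicit false
set_option linter.unusedSectionVars false

namespace Cfsg.Agent.GH

open Cfsg.Agent.Inv.Fz Cfsg.Agent.NE Subgroup
open scoped commutatorElement

variable {G : Type*} [Group G] [Finite G] {S R K N Θ Θ' H : Subgroup G} {x s g v a b a' b' y : G} {n n' : ℕ}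

namespace YA

open BsA UPL TriA
open DihA hiding bm

theorem czp {p q : G} (h1 : g * p = p * g) (h2 : g * q = q * g) : Cz g (closure {p, q}) := fun _ hr =>
  ((closure_le (centralizer {g})).2 (by
    rintro _ (rfl | rfl)
    exacts [fun _ e => e ▸ h1, fun _ e => e ▸ h2]) hr g rfl)

theorem clo (p q : G) : closure {p, q} = zpowers p ⊔ zpowers q := by
  rw [zpowers_eq_closure, zpowers_eq_closure, ← Subgroup.closure_union]; rfl

theorem nrm {p q : G} (h1 : g ∈ normalizer (zpowers p : Set G)) (h2 : g ∈ normalizer (zpowers q : Set G)) :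
    g ∈ normalizer ((closure {p, q} : Subgroup G) : Set G) :=
  cj_eq_iff.1 (by rw [clo, cj_sup, cj_eq_iff.2 h1, cj_eq_iff.2 h2])

theorem npow (k : ℕ) (h1 : g ∈ normalizer (zpowers a : Set G)) : g ∈ normalizer (zpowers (a ^ k) : Set G) := by
  obtain ⟨i, e⟩ := mem_zpowers_iff.1 ((conj_mem_norm h1).2 (mem_zpowers a))
  refine cj_eq_iff.1 (cj_eq_of_le ?_)
  rw [cj_zpowers, zpowers_le, ← conj_pow, ← e, ← zpow_natCast (a ^ i), ← zpow_mul, mul_comm, zpow_mul, zpow_natCast]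
  exact zpow_mem_zpowers _ _

theorem zphi (hq : DQ Θ a b n) (h2 : 2 ≤ n) : zpowers (zz a n) ≤ phi Θ :=
  zpowers_le.2 (jj2 hq h2 ▸ mem_phi (aL hq (jA hq)))

theorem cj_j (hq : DQ Θ a b n) (h2 : 2 ≤ n) (hg : g ∈ normalizer (zpowers a : Set G)) (hv : v ∈ zpowers (jj a n)) :
    ⁅g, v⁆ ∈ zpowers (zz a n) := by
  obtain ⟨t, e⟩ := act_all hq.ord hg
  rw [commutatorElement_def, e v (zpowers_le.2 (jA hq) hv), pow_succ, mul_inv_cancel_right, pow_mul, ← jj2 hq h2]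
  obtain ⟨i, rfl⟩ := hv
  exact pow_mem (mem_zpowers_iff.2 ⟨i, by rw [pow_two]; exact (Commute.refl _).mul_zpow i⟩) t

theorem mem_j (hq : DQ Θ a b n) (h2 : 2 ≤ n) (hv : v ∈ zpowers a) (k : v * v ∈ zpowers (zz a n)) :
    v ∈ zpowers (jj a n) := by
  have l : zpowers (zz a n) ≤ zpowers (jj a n) := zpowers_le.2 (jj2 hq h2 ▸ mul_mem (mem_zpowers _) (mem_zpowers _))
  have c := fun {r} hr e => l ((mem_zpowers_sq hq.zz_ne.2.1).2 (two_cases hq (r := r) hr e))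
  rcases (mem_zpowers_sq hq.zz_ne.2.1).1 k with e | e
  · exact c hv e
  · refine (mul_mem_cancel_right (mem_zpowers _)).1 (c (mul_mem hv (jA hq)) ?_)
    rw [mul_assoc, ← mul_assoc (jj a n), cA (jA hq) hv, mul_assoc, jj2 hq h2, ← mul_assoc, e, hq.zz_ne.2.1]

theorem xz2 (hq : DQ Θ a b n) (h2 : 2 ≤ n) (t : XT S Θ a b) (hv : v ∈ Θ) (k : ∀ w ∈ S, ⁅w, v⁆ ∈ zpowers (zz a n)) :
    v ∈ zpowers (jj a n) := by
  rcases hq.mem.1 hv with m | ⟨i, m⟩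
  · exact mem_j hq h2 m (comm_b hq m ▸ cinv.1 (k b (t.le (bm hq))))
  · obtain ⟨w, hw, e⟩ := t.swap
    refine absurd ?_ (hq.not_cls_of_swap e)
    rw [← mem_cls (t.norm hw), ← hq.cls_shift (t.norm hw) (t.na hw) i, mem_cls (t.norm hw), show a ^ i = _ from m,
      mul_inv_cancel_left]
    exact zphi hq h2 (k w hw)

theorem half (hq : DQ Θ a b n) (hv : v ∈ zpowers a) :
    v ^ 2 ^ (n - 1) ∈ zpowers (zz a n) ∧ (v ^ 2 ^ (n - 1) = 1 ↔ v ∈ phi Θ) := by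
  have hp := hq.pos
  refine ⟨?_, fun e => by_contra fun k => ?_, fun k => ?_⟩
  · obtain ⟨i, rfl⟩ := hv
    exact ⟨i, by simp only [zz, ← zpow_natCast, ← zpow_mul, mul_comm]⟩
  · obtain ⟨i, ei⟩ := (hq.gen_of_not hv k).ge (mem_zpowers a)
    refine hq.zz_ne.1 ?_
    rw [zz, ← ei, ← zpow_natCast, ← zpow_mul, mul_comm, zpow_mul, zpow_natCast, e, one_zpow]
  · rw [hq.phi_eq] at k
    obtain ⟨i, rfl⟩ := k
    rw [← zpow_natCast, ← zpow_mul, mul_comm, zpow_mul, zpow_natCast, (Commute.refl a).mul_pow, hq.zz_ne.2.1, one_zpow]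

theorem same (hq : DQ Θ a b n) (t : XT S Θ a b) (hg : g ∈ S) (hv : v ∈ S) (k : ⁅g, b⁆ ∈ phi Θ ↔ ⁅v, b⁆ ∈ phi Θ) :
    ⁅g * v⁻¹, b⁆ ∈ phi Θ := by
  rw [← mem_cls (t.norm hg), ← mem_cls (t.norm hv)] at k
  rw [← mem_cls (t.norm (mul_mem hg (inv_mem hv)))]
  by_cases c : g ∈ cls Θ b
  · exact mul_mem c (inv_mem (k.1 c))
  · exact (hq.ix_cls t.norm t.na hg c).mul_mem hg (S.inv_mem hv) c (ninv (mt k.2 c))

variable (h : YX S Θ a b y)
include h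

theorem pair {p q : G} (hp : p ∈ Θ) (hq : q ∈ cj y Θ) :
    g ∈ closure {p, q} ↔ ∃ u ∈ zpowers p, ∃ v ∈ zpowers q, g = u * v := by
  rw [clo]
  exact mem_sup_iff_of_le_normalizer fun u hu => centralizer_le_normalizer _ fun v hv =>
    (h.comm u (zpowers_le.2 hp hu) v (zpowers_le.2 hq hv)).symm

theorem split {p q u : G} (hp : p ∈ Θ) (hq : q ∈ cj y Θ) (hu : u ∈ Θ) (hv : v ∈ cj y Θ) (k : u * v ∈ closure {p, q}) :
    u ∈ zpowers p ∧ v ∈ zpowers q := by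
  obtain ⟨u', m, v', m', e⟩ := (pair h hp hq).1 k
  obtain ⟨rfl, rfl⟩ := uniq h hu hv (zpowers_le.2 hp m) (zpowers_le.2 hq m') e
  exact ⟨m, m'⟩

variable (hq : DQ Θ a b n)
include hq

theorem cm2 {u w : G} (hu : u ∈ Θ) (hv : v ∈ cj y Θ) (hw : w ∈ S ⊓ normalizer (Θ : Set G)) :
    ⁅w, u * v⁆ = ⁅w, u⁆ * ⁅w, v⁆ := by
  rw [cm_mul, conj_eq_of_comm (h.comm u hu _ (cmem ((xt' h hq).norm hw) hv))]

theorem nZ0 (hg : g ∈ S) : g ∈ normalizer ((closure {zz a n, y * zz a n * y⁻¹} : Subgroup G) : Set G) :=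
  cj_eq_iff.1 (by
    rw [cj_pair]
    by_cases t : g ∈ normalizer (Θ : Set G)
    · rw [fixz hq (h.na ⟨hg, t⟩), fixz' h.toYB hq hg t]
    · rw [(h.toYB.out hq hg t).1, (h.toYB.out hq hg t).2.1, Set.pair_comm])

theorem nJ (hg : g ∈ S ⊓ normalizer (Θ : Set G)) :
    g ∈ normalizer ((closure {jj a n, y * jj a n * y⁻¹} : Subgroup G) : Set G) :=
  nrm (npow _ (h.na hg)) (by rw [jj, ← conj_pow]; exact npow _ ((xt' h hq).na hg))

theorem leY : closure {a, y * a * y⁻¹} ≤ Θ ⊔ cj y Θ := by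
  rw [clo]; exact sup_le_sup (aL hq) (aL (hq.cj y))

theorem commA (hg : g ∈ closure {a, y * a * y⁻¹}) (hv : v ∈ closure {a, y * a * y⁻¹}) : g * v = v * g := by
  have c := h.comm _ (am hq) _ (am (hq.cj y))
  exact czp (czp rfl c g hg).symm (czp c.symm rfl g hg).symm v hv

theorem omA (hg : g ∈ closure {a, y * a * y⁻¹}) (e : g * g = 1) : g ∈ closure {zz a n, y * zz a n * y⁻¹} := by
  have hq' := hq.cj y
  obtain ⟨u, hu, v, hv, rfl⟩ := (pair h (am hq) (am hq')).1 hg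
  rw [← pow_two, Commute.mul_pow (h.comm u (aL hq hu) v (aL hq' hv)), pow_two, pow_two] at e
  have := uniq h (aL hq (mul_mem hu hu)) (aL hq' (mul_mem hv hv)) (one_mem _) (one_mem _) (e.trans (mul_one _).symm)
  refine (pair h (zmem hq) (zm' h hq)).2 ⟨u, (mem_zpowers_sq hq.zz_ne.2.1).2 (two_cases hq hu this.1), v, ?_, rfl⟩
  rw [zz, ← conj_pow]
  exact (mem_zpowers_sq hq'.zz_ne.2.1).2 (two_cases hq' hv this.2)

theorem sqY (hg : g ∈ S ⊓ normalizer (Θ : Set G)) : ∃ u ∈ Θ, ∃ v ∈ cj y Θ, g * g = u * v := by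
  have c : ∀ {Θ₁ a b}, DQ Θ₁ a b n → XT (S ⊓ normalizer (Θ : Set G)) Θ₁ a b → ⁅g * g, b⁆ ∈ phi Θ₁ := fun hq t => by
    simpa using same hq t hg (inv_mem hg) (by
      rw [← mem_cls (t.norm hg), ← mem_cls (t.norm (inv_mem hg)), inv_mem_iff])
  exact (h.memY hq).1 (h.k0 _ (mul_mem hg hg).1 (mul_mem hg hg).2 (c hq (xt h)) (c (hq.cj y) (xt' h hq)))

theorem powB {p p' : G → Prop} (k : ∃ u ∈ zpowers a, ∃ v ∈ zpowers (y * a * y⁻¹), g * g = u * v ∧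
    (u ∈ phi Θ ↔ ⁅g, b⁆ ∈ phi Θ) ∧ (v ∈ phi (cj y Θ) ↔ ⁅g, y * b * y⁻¹⁆ ∈ phi (cj y Θ)) ∧ p u ∧ p' v) :
    ∃ u ∈ zpowers (zz a n), ∃ v ∈ zpowers (y * zz a n * y⁻¹), g ^ 2 ^ n = u * v ∧ (u = 1 ↔ ⁅g, b⁆ ∈ phi Θ) ∧
      (v = 1 ↔ ⁅g, y * b * y⁻¹⁆ ∈ phi (cj y Θ)) := by
  obtain ⟨u, hu, v, hv, e, k1, k2, -⟩ := k
  have hq' := hq.cj y
  have hp := hq.pos
  refine ⟨_, (half hq hu).1, _, ?_, ?_, (half hq hu).2.trans k1, (half hq' hv).2.trans k2⟩
  · rw [zz, ← conj_pow]; exact (half hq' hv).1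
  · rw [← Commute.mul_pow (h.comm u (aL hq hu) v (aL hq' hv)), ← e, ← pow_two, ← pow_mul, ← pow_succ']
    congr 2; omega

variable (h2 : 2 ≤ n)
include h2

theorem inQ (hg : g ∈ S) (h1 : g * jj a n = jj a n * g) : g ∈ S ⊓ normalizer (Θ : Set G) :=
  ⟨hg, (h.norm_iff hq hg).2 (jj2 hq h2 ▸ Commute.mul_right h1 h1)⟩

theorem fst {u : G} (hu : u ∈ Θ) (hv : v ∈ cj y Θ) (h1 : u * v * jj a n = jj a n * (u * v)) : u ∈ zpowers a := by
  refine (hq.cen h2 hu).1.1 (mul_right_cancel (b := v) ?_)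
  rw [mul_assoc, h.comm _ (aL hq (jA hq)) v hv, ← mul_assoc, h1, mul_assoc]

theorem zQ (hg : g ∈ S) : (∀ w ∈ S, w ∈ normalizer (Θ : Set G) → ⁅g, w⁆ ∈ closure {zz a n, y * zz a n * y⁻¹}) ↔
    g ∈ closure {jj a n, y * jj a n * y⁻¹} := by
  have hq' := hq.cj y
  have ez : zz (y * a * y⁻¹) n = y * zz a n * y⁻¹ := conj_pow
  have ej : jj (y * a * y⁻¹) n = y * jj a n * y⁻¹ := conj_pow
  have mj := aL hq (jA hq)
  have mj' : y * jj a n * y⁻¹ ∈ cj y Θ := conj_mem_cj.2 mj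
  have sp := fun {u v} => split h (u := u) (v := v) (zmem hq) (zm' h hq)
  refine ⟨fun k => ?_, fun k w hw wn => ?_⟩
  · have k' := fun w (hw : w ∈ S ⊓ normalizer (Θ : Set G)) => k w hw.1 hw.2
    by_cases t : g ∈ normalizer (Θ : Set G)
    · have t' := (h.toYB.norm' hg).2 t
      obtain ⟨u, hu, v, hv, rfl⟩ := (h.memY hq).1 (h.k0 g hg t
        (zphi hq h2 (sp (cmem t (bm hq)) (one_mem _) (by rw [mul_one]; exact k' b ((xt h).le (bm hq)))).1)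
        (zphi hq' h2 (ez ▸ (sp (one_mem _) (cmem t' (bm hq')) (by
          rw [one_mul]; exact k' _ ((xt' h hq).le (bm hq')))).2)))
      have c := fun w hw => sp (cmem (show w ∈ S ⊓ normalizer (Θ : Set G) from hw).2 hu) (cmem ((xt' h hq).norm hw) hv)
        (cm2 h hq hu hv hw ▸ cinv.1 (k' w hw))
      exact (pair h mj mj').2 ⟨u, xz2 hq h2 (xt h) hu fun w hw => (c w hw).1, v,
        ej ▸ xz2 hq' h2 (xt' h hq) hv fun w hw => ez ▸ (c w hw).2, rfl⟩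
    · have m : g * a * g⁻¹ ∈ cj y Θ := (h.toYB.cj_out hg t).1 ▸ conj_mem_cj.2 (am hq)
      have k1 := k' a ((xt h).le (am hq))
      rw [commutatorElement_def, ← h.comm _ (inv_mem (am hq)) _ m] at k1
      have := (par hq (-1)).1 (by simpa using zphi hq h2 (sp (inv_mem (am hq)) m k1).1)
      exact absurd this (by decide)
  · obtain ⟨u, hu, v, hv, rfl⟩ := (pair h mj mj').1 k
    rw [cinv, cm2 h hq (zpowers_le.2 mj hu) (zpowers_le.2 mj' hv) ⟨hw, wn⟩]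
    exact (pair h (zmem hq) (zm' h hq)).2 ⟨_, cj_j hq h2 (h.na ⟨hw, wn⟩) hu, _,
      ez ▸ cj_j hq' h2 (h.toYB.na' hw wn) (ej ▸ hv), rfl⟩

end YA

open BsA UPL TriA YA
open DihA hiding bm

namespace YX
variable (h : YX S Θ a b y) (hq : DQ Θ a b n) (h2 : 2 ≤ n)
include h hq h2

theorem z3 (hg : g ∈ S) : (∀ w ∈ S, ⁅g, w⁆ ∈ closure {zz a n, y * zz a n * y⁻¹}) ↔
    g ∈ closure {zz a n, jj a n * (y * jj a n * y⁻¹)} := by
  have hq' := hq.cj y
  have mj := aL hq (jA hq)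
  have mj' : y * jj a n * y⁻¹ ∈ Inv.Fz.cj y Θ := conj_mem_cj.2 mj
  refine ⟨fun k => ?_, fun k w hw => cinv.1 (((closure_le (Loc.Mss.cmod S _)).2 ?_ k).2 w hw)⟩
  · obtain ⟨_, ⟨i, rfl⟩, v, hv, rfl⟩ := (pair h mj mj').1 ((zQ h hq h2 hg).1 fun w hw _ => k w hw)
    have mu := zpow_mem mj i
    have mv := zpowers_le.2 mj' hv
    have mv' : y * v * y⁻¹ ∈ Θ := (h.toYB.cj_out h.mem h.not_norm).2 ▸ conj_mem_cj.2 mv
    have mu' : y * jj a n ^ i * y⁻¹ ∈ Inv.Fz.cj y Θ := conj_mem_cj.2 mu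
    have k1 := cinv.1 (k y h.mem)
    rw [show ⁅y, jj a n ^ i * v⁆ = y * jj a n ^ i * y⁻¹ * (y * v * y⁻¹) * v⁻¹ * (jj a n ^ i)⁻¹ by
      rw [commutatorElement_def]; group, ← h.comm _ mv' _ mu', mul_assoc (y * v * y⁻¹), mul_assoc (y * v * y⁻¹),
      ← h.comm _ (inv_mem mu) _ (mul_mem mu' (inv_mem mv)), ← mul_assoc] at k1
    have k2 := inv_mem (split h (zmem hq) (zm' h hq) (mul_mem mv' (inv_mem mu)) (mul_mem mu' (inv_mem mv)) k1).2
    have m1 : zz a n ∈ closure {zz a n, jj a n * (y * jj a n * y⁻¹)} := subset_closure (by simp)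
    have m2 : jj a n * (y * jj a n * y⁻¹) ∈ closure {zz a n, jj a n * (y * jj a n * y⁻¹)} := subset_closure (by simp)
    have c : Commute (jj a n) (y * jj a n * y⁻¹) := h.comm _ mj _ mj'
    have m3 : y * zz a n * y⁻¹ ∈ closure {zz a n, jj a n * (y * jj a n * y⁻¹)} := by
      have := pow_mem m2 2
      rwa [c.mul_pow, pow_two, pow_two, conj_mul, jj2 hq h2, mul_mem_cancel_left m1] at this
    have := mul_mem (zpowers_le.2 m3 k2) (zpow_mem m2 i)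
    rwa [c.mul_zpow, conj_zpow, h.comm _ mu _ mu', mul_inv_rev, inv_inv, mul_assoc v, inv_mul_cancel_left,
      ← h.comm _ mu _ mv] at this
  · have m1 : zz a n ∈ closure {zz a n, y * zz a n * y⁻¹} := subset_closure (by simp)
    have m0 : jj a n * (y * jj a n * y⁻¹) ∈ S := mul_mem (h.le mj) ((xt' h hq).le mj').1
    rintro _ (rfl | rfl)
    · exact ⟨le_normalizer m1, fun w hw => cmem (nZ0 h hq hw) m1⟩
    refine ⟨nZ0 h hq m0, fun w hw => ?_⟩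
    have q := fun w hw wn => cinv.1 ((zQ h hq h2 m0).2
      (mul_mem (subset_closure (by simp)) (subset_closure (by simp))) w hw wn)
    by_cases t : w ∈ normalizer (Θ : Set G)
    · exact q w hw t
    rw [← mul_inv_cancel_left y w, mul_cm]
    refine mul_mem ((conj_mem_norm (nZ0 h hq h.mem)).2 (q _ (mul_mem (inv_mem h.mem) hw)
      (h.ix.mul_mem (S.inv_mem h.mem) hw (ninv h.not_norm) t))) (zpowers_le.2 m1 ?_)
    have yy := h.toYB.yy
    have := cj_j hq h2 (h.na ⟨mul_mem h.mem h.mem, yy⟩) (mem_zpowers _)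
    rwa [show ⁅y, jj a n * (y * jj a n * y⁻¹)⁆ = y * jj a n * y⁻¹ * (y * y * jj a n * (y * y)⁻¹) * (y * jj a n * y⁻¹)⁻¹ *
      (jj a n)⁻¹ by rw [commutatorElement_def]; group, ← h.comm _ ((conj_mem_norm yy).2 mj) _ mj', mul_inv_cancel_right]

theorem z2Q (hg : g ∈ S) : (∀ w ∈ S, w ∈ normalizer (Θ : Set G) → ⁅g, w⁆ ∈ closure {zz a n, y * zz a n * y⁻¹}) ↔
    g ∈ closure {jj a n, y * jj a n * y⁻¹} := zQ h hq h2 hg

/-- The square of an element of `B = C_S(j, j^y)`. -/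
theorem bsq (hg : g ∈ S) (h1 : g * jj a n = jj a n * g) (h1' : g * (y * jj a n * y⁻¹) = y * jj a n * y⁻¹ * g) :
    ∃ u ∈ zpowers a, ∃ v ∈ zpowers (y * a * y⁻¹), g * g = u * v ∧ (u ∈ phi Θ ↔ ⁅g, b⁆ ∈ phi Θ) ∧
      (v ∈ phi (Inv.Fz.cj y Θ) ↔ ⁅g, y * b * y⁻¹⁆ ∈ phi (Inv.Fz.cj y Θ)) ∧ (u ∉ phi Θ → g * a = a * g) ∧
      (v ∉ phi (Inv.Fz.cj y Θ) → g * (y * a * y⁻¹) = y * a * y⁻¹ * g) := by
  have gn := inQ h hq h2 hg h1
  have hq' := hq.cj y
  obtain ⟨u, hu, v, hv, e⟩ := sqY h hq gn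
  have s1 := hq.sq_par h2 gn.2 (h.na gn) h1 hu (by
    rw [e, inv_mul_cancel_left]; exact fun r hr => (h.comm r hr v hv).symm)
  have s2 := hq'.sq_par h2 ((xt' h hq).norm gn) ((xt' h hq).na gn) (by rwa [jj, conj_pow]) hv (by
    rw [e, h.comm u hu v hv, inv_mul_cancel_left]; exact h.comm u hu)
  have c := uniq h ((conj_mem_norm gn.2).2 hu) ((conj_mem_norm ((xt' h hq).norm gn)).2 hv) hu hv (by
    rw [← conj_mul', ← e]; group)
  exact ⟨u, s1.1, v, s2.1, e, s1.2, s2.2,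
    fun k => comm_zpowers (comm_of_conj_eq c.1) ((hq.gen_of_not s1.1 k).ge (mem_zpowers a)),
    fun k => comm_zpowers (comm_of_conj_eq c.2) ((hq'.gen_of_not s2.1 k).ge (mem_zpowers _))⟩

theorem memA (hg : g ∈ S) (h1 : g * jj a n = jj a n * g) (h1' : g * (y * jj a n * y⁻¹) = y * jj a n * y⁻¹ * g) :
    (g ∈ Θ ⊔ Inv.Fz.cj y Θ ↔ g ∈ closure {a, y * a * y⁻¹}) ∧ (g ∈ closure {a, y * a * y⁻¹} ↔ g ^ 2 ^ n = 1) := by
  have hq' := hq.cj y
  have a1 : g ∈ Θ ⊔ Inv.Fz.cj y Θ ↔ g ∈ closure {a, y * a * y⁻¹} := by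
    refine ⟨fun k => ?_, fun k => leY h hq k⟩
    obtain ⟨u, hu, v, hv, rfl⟩ := (h.memY hq).1 k
    refine (pair h (am hq) (am hq')).2 ⟨u, (fst h hq h2 hu hv h1), v, (hq'.cen h2 hv).1.1 ?_, rfl⟩
    rw [jj, conj_pow]
    refine mul_left_cancel (a := u) ?_
    rw [← mul_assoc, h1', ← mul_assoc, ← h.comm u hu _ (conj_mem_cj.2 (aL hq (jA hq))), mul_assoc]
  refine ⟨a1, fun k => ?_, fun k => a1.1 ?_⟩
  · obtain ⟨u, hu, v, hv, rfl⟩ := (pair h (am hq) (am hq')).1 k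
    rw [Commute.mul_pow (h.comm u (aL hq hu) v (aL hq' hv)), pw hq hu, pw hq' hv, mul_one]
  · obtain ⟨p, hp, q, hq1, e, k1, k2⟩ := powB h hq (h.bsq hq h2 hg h1 h1')
    have := uniq h (zpowers_le.2 (zmem hq) hp) (zpowers_le.2 (zm' h hq) hq1) (one_mem _) (one_mem _)
      (by rw [← e, k, mul_one])
    exact h.k0 g hg (inQ h hq h2 hg h1).2 (k1.1 this.1) (k2.1 this.2)

/-- Squares of `N_S(Θ)` lie in `⟨a, a^y⟩`. -/
theorem sqQ (hg : g ∈ S) (hn : g ∈ normalizer (Θ : Set G)) : g * g ∈ closure {a, y * a * y⁻¹} := by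
  have c : ∀ {a : G}, orderOf a = 2 ^ n → jj a n * jj a n * (jj a n * jj a n) = 1 → g ∈ normalizer (zpowers a : Set G) →
      g * g * jj a n = jj a n * (g * g) := fun {a} ho e k => comm_of_conj_eq (by
    obtain ⟨t, et⟩ := act_all ho k
    have m : jj a n ∈ zpowers a := npow_mem_zpowers _ _
    rw [← NE.conj_conj, et _ m, et _ (pow_mem m _), ← pow_mul, show (2 * t + 1) * (2 * t + 1) = 2 * 2 * (t * t + t) + 1 by ring,
      pow_succ, pow_mul, pow_mul, pow_two, pow_two, e, one_pow, one_mul])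
  have hq' := hq.cj y
  have c1 := c hq.ord (by rw [jj2 hq h2, hq.zz_ne.2.1]) (h.na ⟨hg, hn⟩)
  have c2 := c hq'.ord (by rw [jj2 hq' h2, hq'.zz_ne.2.1]) (h.toYB.na' hg hn)
  rw [jj, conj_pow] at c2
  obtain ⟨u, hu, v, hv, e⟩ := sqY h hq ⟨hg, hn⟩
  exact (h.memA hq h2 (mul_mem hg hg) c1 c2).1.1 ((h.memY hq).2 ⟨u, hu, v, hv, e⟩)

theorem c1 {X : Subgroup G} (ho : Od X x) (hA : (closure {a, y * a * y⁻¹} : Subgroup G) ≤ X)
    (hX : X ≤ S ⊓ normalizer (Θ : Set G)) (hz : x * zz a n = zz a n * x)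
    (hz' : x * (y * zz a n * y⁻¹) = y * zz a n * y⁻¹ * x)
    (hJ : x ∈ normalizer ((closure {jj a n, y * jj a n * y⁻¹} : Subgroup G) : Set G)) : Cz x X := by
  have hq' := hq.cj y
  have m1 : jj a n ∈ closure {jj a n, y * jj a n * y⁻¹} := subset_closure (by simp)
  have m2 : y * jj a n * y⁻¹ ∈ closure {jj a n, y * jj a n * y⁻¹} := subset_closure (by simp)
  have JA : (closure {jj a n, y * jj a n * y⁻¹} : Subgroup G) ≤ closure {a, y * a * y⁻¹} := (closure_le _).2 (by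
    rintro _ (rfl | rfl)
    · exact pow_mem (subset_closure (by simp)) _
    · rw [jj, ← conj_pow]; exact pow_mem (subset_closure (by simp)) _)
  have xz : Cz x (closure {zz a n, y * zz a n * y⁻¹}) := czp hz hz'
  have om : ∀ K ≤ (closure {a, y * a * y⁻¹} : Subgroup G), x ∈ normalizer (K : Set G) → Cz x K := fun K l k =>
    (ho.mono (l.trans hA) k).cz_of_omega (fun u hu v hv => commA h hq (l hu) (l hv)) fun u hu e =>
      xz u (omA h hq (l hu) e)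
  have c1 := om _ JA hJ
  set B := X ⊓ centralizer ((closure {jj a n, y * jj a n * y⁻¹} : Subgroup G) : Set G)
  have nB : ∀ {g}, g ∈ B → x * g * x⁻¹ ∈ B := fun k => ⟨(conj_mem_norm ho.xn).2 k.1,
    (conj_mem_norm (normalizer_le_normalizer_centralizer _ hJ)).2 k.2⟩
  have mA := fun {g} (k : g ∈ B) => h.memA hq h2 (hX k.1).1 (k.2 _ m1).symm (k.2 _ m2).symm
  have AB : closure {a, y * a * y⁻¹} ≤ B := fun g k => ⟨hA k, fun r hr => commA h hq (JA hr) k⟩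
  have c2 := om _ le_rfl (mem_normalizer_of_conj_mem fun g k =>
    (mA (nB (AB k))).2.2 (by rw [conj_pow, (mA (AB k)).2.1 k, mul_one, mul_inv_cancel]))
  refine ho.cz_of_chain hA c2 (ho.chain AB inf_le_left (fun r hr => nrm (h.na (hX hr)) ((xt' h hq).na (hX hr)))
    (fun g k => ?_) fun r hr => ⟨cmem ho.xn hr, cz_iff.1 (ho.comm_cz c1 (nJ h hq (hX hr)))⟩)
  have pw := fun {g} (k : g ∈ B) => powB h hq (h.bsq hq h2 (hX k.1).1 (k.2 _ m1).symm (k.2 _ m2).symm)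
  obtain ⟨p, hp, q, hq1, e, k1, k2⟩ := pw k
  obtain ⟨p', hp', q', hq1', e', k1', k2'⟩ := pw (nB k)
  rw [conj_pow, e, conj_eq_of_comm (xz _ ((pair h (zmem hq) (zm' h hq)).2 ⟨p, hp, q, hq1, rfl⟩))] at e'
  obtain ⟨rfl, rfl⟩ := uniq h (zpowers_le.2 (zmem hq) hp) (zpowers_le.2 (zm' h hq) hq1) (zpowers_le.2 (zmem hq) hp')
    (zpowers_le.2 (zm' h hq) hq1') e'
  have mc : ⁅x, g⁆ ∈ B := mul_mem (nB k) (inv_mem k)
  have q1 := hX k.1
  have q2 := hX (nB k).1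
  have q3 := hX mc.1
  exact (mA mc).1.1 (h.k0 _ q3.1 q3.2 (same hq (xt h) q2 q1 (k1'.symm.trans k1)) (same hq' (xt' h hq) q2 q1 (k2'.symm.trans k2)))

/-- Automorphisms of odd order of `S` are trivial. -/
theorem odd (ho : Od S x) : Cz x S := by
  have z4 := four0 h hq
  have zm := h.le (zmem hq)
  have zm1 := ((xt' h hq).le (zm' h hq)).1
  have zz2 := z4.1.sq _ ((z4.2 _).2 (.inr (.inr (.inr rfl))))
  have f1 : x * (zz a n * (y * zz a n * y⁻¹)) * x⁻¹ = zz a n * (y * zz a n * y⁻¹) := by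
    have := (h.center hq ((conj_mem_norm ho.xn).2 (mul_mem zm zm1))).1 (Cz.conj (czz h hq) ho.xn)
    refine ((mem_zpowers_sq zz2).1 this).resolve_left fun k => zne h hq ?_
    rw [Rec.conj_eq_one, mul_eq_one_iff_inv_eq, inv_of_sq hq.zz_ne.2.1] at k
    exact k.symm
  have n1 : x ∈ normalizer (zpowers (zz a n * (y * zz a n * y⁻¹)) : Set G) := cj_eq_iff.1 (by rw [cj_zpowers, f1])
  have lZ : (closure {zz a n, y * zz a n * y⁻¹} : Subgroup G) ≤ S := (closure_le _).2 (by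
    rintro _ (rfl | rfl); exacts [zm, zm1])
  have n2 : x ∈ normalizer ((closure {zz a n, y * zz a n * y⁻¹} : Subgroup G) : Set G) :=
    mem_normalizer_of_conj_mem fun g k => (h.z2 hq (.inl h2) ((conj_mem_norm ho.xn).2 (lZ k))).1
      ((allS ho.xn).2 fun w hw => by
        rw [← cj_cm, conj_mem_norm n1]; exact (h.z2 hq (.inl h2) (lZ k)).2 k w hw)
  have l1 : zpowers (zz a n * (y * zz a n * y⁻¹)) ≤ closure {zz a n, y * zz a n * y⁻¹} :=
    zpowers_le.2 ((z4.2 _).2 (by simp))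
  have xz : Cz x (closure {zz a n, y * zz a n * y⁻¹}) := by
    refine (ho.mono lZ n2).cz_of_chain l1 (fun r hr => comm_zpowers (comm_of_conj_eq f1) hr) fun r hr =>
      supp_le_idx n2 l1 n1 (fun u hu v hv u1 v1 => ?_) (comm_mem_supp hr).1
    rw [mem_zpowers_sq zz2, not_or] at u1 v1
    rw [mem_zpowers_sq zz2]
    rcases (z4.2 u).1 hu with e | rfl | rfl | e <;> rcases (z4.2 v).1 hv with e' | e' | e' | e' <;>
      first | exact absurd e u1.1 | exact absurd e u1.2 | exact absurd e' v1.1 | exact absurd e' v1.2 | rw [e']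
    exacts [.inl hq.zz_ne.2.1, .inr rfl, .inr (zc h hq).symm, .inl (Rec.conj_sq hq.zz_ne.2.1)]
  have c1 := xz _ ((z4.2 _).2 (.inr (.inl rfl)))
  have nQ : x ∈ normalizer ((S ⊓ normalizer (Θ : Set G) : Subgroup G) : Set G) :=
    mem_normalizer_of_conj_mem fun g k => by
      have g1 := (conj_mem_norm ho.xn).2 k.1
      refine ⟨g1, (h.norm_iff hq g1).2 ?_⟩
      conv => rw [← conj_eq_of_comm c1]
      exact conj_comm x ((h.norm_iff hq k.1).1 k.2)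
  have lJ : (closure {jj a n, y * jj a n * y⁻¹} : Subgroup G) ≤ S := (closure_le _).2 (by
    rintro _ (rfl | rfl); exacts [h.le (aL hq (jA hq)), ((xt' h hq).le (conj_mem_cj.2 (aL hq (jA hq)))).1])
  refine ho.cz_of_chain inf_le_left (h.c1 hq h2 (ho.mono inf_le_left nQ) ((leY h hq).trans (sup_le (xt h).le (xt' h hq).le))
    le_rfl c1 (xz _ ((z4.2 _).2 (.inr (.inr (.inl rfl))))) (mem_normalizer_of_conj_mem fun g k => ?_)) fun r hr =>
    supp_le_idx ho.xn inf_le_left nQ (fun u hu v hv u1 v1 => ⟨mul_mem hu hv,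
      h.ix.mul_mem hu hv (fun k => u1 ⟨hu, k⟩) fun k => v1 ⟨hv, k⟩⟩) (comm_mem_supp hr).1
  refine (h.z2Q hq h2 ((conj_mem_norm ho.xn).2 (lJ k))).1 fun w hw wn => ?_
  refine (allS (p := fun w => ⁅x * g * x⁻¹, w⁆ ∈ closure {zz a n, y * zz a n * y⁻¹}) nQ).2 (fun w hw => ?_) w ⟨hw, wn⟩
  rw [← cj_cm, conj_mem_norm n2]
  exact (h.z2Q hq h2 (lJ k)).2 k w hw.1 hw.2

end YX

end Cfsg.Agent.GH
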