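import Mathlib
import Cfsg.Agent.GH.TriG
import Cfsg.Agent.GH.TriBa
import Cfsg.Agent.GH.E3b
import Cfsg.Agent.GT.PGroupBasic

/-! The extraspecial group `Q₈ ∘ D₈` as a product of two quaternion groups, and the action of `S₅` on it. -/

set_option autoImplicit false
set_option linter.unusedSectionVars false

namespace Cfsg.Agent.GH.Y6

open Cfsg.Agent.Inv.Fz Cfsg.Agent.NE Subgroup E3
open scoped commutatorElement

variable {G : Type*} [Group G] [Finite G] {V V' T : Subgroup G} {z j g j' g' n : G} {π : G → W}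

/-- Letters for two quaternion groups that commute modulo the common centre. -/
structure Lt (V V' : Subgroup G) (z j g j' g' : G) : Prop where
  q : Qz V z
  q' : Qz V' z
  eV : V = closure {j, g}
  eV' : V' = closure {j', g'}
  d : V ⊓ V' ≤ zpowers z
  hc : ∀ u ∈ V, ∀ v ∈ V', ⁅u, v⁆ ∈ zpowers z
  jj : j * j = z
  gg : g * g = z
  jj' : j' * j' = z
  gg' : g' * g' = z
  jg : g * j = j * g * z
  jg' : g' * j' = j' * g' * z
  c1 : j' * j = j * j'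
  c2 : g' * j = j * g'
  c3 : j' * g = g * j'
  c4 : g' * g = g * g' * z

/-- The quadratic form. -/
def qf (u : W) : Bool := u.a ^^ u.b ^^ u.c ^^ u.d ^^ (u.a && u.b) ^^ (u.c && u.d) ^^ (u.b && u.d)

/-- Coordinates with respect to the letters. -/
structure Bs (T : Subgroup G) (z j g j' g' : G) (π : G → W) : Prop where
  co : Co T (zpowers z) π
  h0 : π j = e0
  h1 : π g = e1
  h2 : π j' = e2
  h3 : π g' = e3

namespace Lt
variable (l : Lt V V' z j g j' g')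
include l

theorem jV : j ∈ V := l.eV ▸ subset_closure (by simp)
theorem gV : g ∈ V := l.eV ▸ subset_closure (by simp)
theorem jV' : j' ∈ V' := l.eV' ▸ subset_closure (by simp)
theorem gV' : g' ∈ V' := l.eV' ▸ subset_closure (by simp)

theorem nV : V ≤ normalizer (V' : Set G) := fun u hu => BsA.norm_of_comm fun v hv => l.q'.le (l.hc u hu v hv)

theorem mem {w : G} : w ∈ V ⊔ V' ↔ ∃ u ∈ V, ∃ v ∈ V', w = u * v := mem_sup_iff_of_le_normalizer l.nV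

theorem zc {w : G} (hw : w ∈ V ⊔ V') : w * z = z * w := by
  obtain ⟨u, hu, v, hv, rfl⟩ := l.mem.1 hw
  exact Commute.mul_left (l.q.cen (le_normalizer hu)) (l.q'.cen (le_normalizer hv))

theorem sq (w : G) (hw : w ∈ V ⊔ V') : w * w ∈ zpowers z := by
  obtain ⟨u, hu, v, hv, rfl⟩ := l.mem.1 hw
  have := mul_mem (mul_mem (l.q.sq_mem hu) (l.hc _ (inv_mem hu) v hv)) (l.q'.sq_mem hv)
  rwa [show u * u * ⁅u⁻¹, v⁆ * (v * v) = u * v * (u * v) by simp only [commutatorElement_def]; group] at this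

theorem card : Nat.card (V ⊔ V' : Subgroup G) = 16 * Nat.card (zpowers z) := by
  have := GT.PG.card_sup_mul_card_inf l.nV
  rw [le_antisymm l.d (le_inf l.q.le l.q'.le), l.q.card, l.q'.card, l.q.cardZ] at this
  rw [l.q.cardZ]
  omega

theorem le_of {K : Subgroup G} (h0 : j ∈ K) (h1 : g ∈ K) (h2 : j' ∈ K) (h3 : g' ∈ K) : V ⊔ V' ≤ K :=
  sup_le (TriB.le_of_gen l.eV h0 h1) (TriB.le_of_gen l.eV' h2 h3)

theorem exists_bs : ∃ π, Bs (V ⊔ V') z j g j' g' π := by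
  obtain ⟨π, c⟩ := exists_co (l.q.le.trans le_sup_left) l.sq l.card
  let κ : W →* W := MonoidHom.mk' (lin (π j) (π g) (π j') (π g')) (lin_mul _ _ _ _)
  let f : (V ⊔ V' : Subgroup G) →* W := MonoidHom.mk' (fun t => π t) fun a b => c.mul _ a.2 _ b.2
  have k : ∀ {a : G} (ha : a ∈ V ⊔ V') (u : W), κ u = π a → a ∈ (κ.range.comap f).map (V ⊔ V').subtype :=
    fun ha u e => ⟨⟨_, ha⟩, ⟨u, e⟩, rfl⟩
  have e0' : κ e0 = π j := by simp [κ, lin, e0]
  have e1' : κ e1 = π g := by simp [κ, lin, e1]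
  have e2' : κ e2 = π j' := by simp [κ, lin, e2]
  have e3' : κ e3 = π g' := by simp [κ, lin, e3]
  have s : Function.Surjective κ := fun u => by
    obtain ⟨a, ha, rfl⟩ := c.surj u
    obtain ⟨b, hb, rfl⟩ := l.le_of (k (mem_sup_left l.jV) _ e0') (k (mem_sup_left l.gV) _ e1')
      (k (mem_sup_right l.jV') _ e2') (k (mem_sup_right l.gV') _ e3') ha
    exact hb
  let κ' := MulEquiv.ofBijective κ (Finite.surjective_iff_bijective.1 s)
  exact ⟨_, c.rebase κ', κ'.symm_apply_eq.2 e0'.symm, κ'.symm_apply_eq.2 e1'.symm, κ'.symm_apply_eq.2 e2'.symm,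
    κ'.symm_apply_eq.2 e3'.symm⟩

theorem sq_iff (b : Bs (V ⊔ V') z j g j' g' π) {w : G} (hw : w ∈ V ⊔ V') : w * w = cond (qf (π w)) z 1 := by
  have m0 : j ∈ V ⊔ V' := mem_sup_left l.jV
  have m1 : g ∈ V ⊔ V' := mem_sup_left l.gV
  have m2 : j' ∈ V ⊔ V' := mem_sup_right l.jV'
  have m3 : g' ∈ V ⊔ V' := mem_sup_right l.gV'
  have k : ∀ (a : Bool) {y : G}, y ∈ V ⊔ V' → cond a y 1 ∈ V ⊔ V' ∧ π (cond a y 1) = cond a (π y) 1 := fun a y hy => by
    cases a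
    exacts [⟨one_mem _, b.co.one⟩, ⟨hy, rfl⟩]
  obtain ⟨u, hu⟩ : ∃ u, π w = u := ⟨_, rfl⟩
  have m : cond u.a j 1 * (cond u.b g 1 * (cond u.c j' 1 * cond u.d g' 1)) ∈ V ⊔ V' :=
    mul_mem (k _ m0).1 (mul_mem (k _ m1).1 (mul_mem (k _ m2).1 (k _ m3).1))
  have e : π (cond u.a j 1 * (cond u.b g 1 * (cond u.c j' 1 * cond u.d g' 1))) = π w := by
    rw [b.co.mul _ (k _ m0).1 _ (mul_mem (k _ m1).1 (mul_mem (k _ m2).1 (k _ m3).1)),
      b.co.mul _ (k _ m1).1 _ (mul_mem (k _ m2).1 (k _ m3).1), b.co.mul _ (k _ m2).1 _ (k _ m3).1, (k _ m0).2, (k _ m1).2,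
      (k _ m2).2, (k _ m3).2, b.h0, b.h1, b.h2, b.h3, hu]
    exact (eq_lin (φ := fun u => u) (fun _ _ => rfl) u).symm
  have e2 : ∀ y ∈ V ⊔ V', π y = π w → w * w = y * y := fun y hy e => by
    rcases l.q.mem_iff.1 ((b.co.eq_iff hy hw).1 e) with h | h
    · rw [inv_mul_eq_one.1 h]
    · rw [inv_mul_eq_iff_eq_mul.1 h, mul_assoc, ← mul_assoc z, ← l.zc hy, mul_assoc y z z, l.q.sq, mul_one]
  rw [e2 _ m e, hu]
  have r1 : ∀ {y : G}, y * y = z → ∀ x, y * (y * x) = z * x := fun h x => by rw [← mul_assoc, h]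
  have r2 : ∀ {y : G}, y ∈ V ⊔ V' → ∀ x, z * (y * x) = y * (z * x) := fun h x => comm_assoc (l.zc h).symm x
  have r3 : ∀ {y v : G}, y * v = v * y * z → ∀ x, y * (v * x) = v * (y * (z * x)) := fun h x => by
    rw [← mul_assoc, h, mul_assoc, mul_assoc]
  rw [← mul_one (_ * _ * _)]
  obtain ⟨a, b, c, d⟩ := u
  cases a <;> cases b <;> cases c <;> cases d <;>
    simp only [cond, qf, mul_assoc, one_mul, r1 l.jj, r1 l.gg, r1 l.jj', r1 l.gg', r2 m1, r2 m2, r2 m3, r3 l.jg,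
      r3 l.jg', r3 l.c4, comm_assoc l.c1, comm_assoc l.c2, comm_assoc l.c3, sq_cancel l.q.sq] <;> simp

/-- There is no elementary abelian subgroup of order eight. -/
theorem no8 {p q : G} (hp : p ∈ V ⊔ V') (hq : q ∈ V ⊔ V') (h1 : p * p = 1) (h2 : q * q = 1) (h3 : p * q * (p * q) = 1) :
    p ∈ zpowers z ∨ q ∈ zpowers z ∨ p * q ∈ zpowers z := by
  obtain ⟨π, b⟩ := l.exists_bs
  have k : ∀ {w}, w ∈ V ⊔ V' → w * w = 1 → qf (π w) = false := fun hw e => by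
    have := l.sq_iff b hw
    cases h : qf (π _)
    · rfl
    · rw [h, e] at this
      exact absurd this.symm l.q.ne
  have f : ∀ u v : W, qf u = false → qf v = false → qf (u * v) = false → u = 1 ∨ v = 1 ∨ u * v = 1 := by decide +kernel
  rw [← b.co.ker _ hp, ← b.co.ker _ hq, ← b.co.ker _ (mul_mem hp hq), b.co.mul _ hp _ hq]
  exact f _ _ (k hp h1) (k hq h2) (b.co.mul _ hp _ hq ▸ k (mul_mem hp hq) h3)

theorem nz (hn : n ∈ normalizer ((V ⊔ V' : Subgroup G) : Set G)) : n * z = z * n := by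
  have := l.sq _ ((conj_mem_norm hn).2 (mem_sup_left l.jV))
  rw [← conj_mul', l.jj, l.q.mem_iff] at this
  exact comm_of_conj_eq (this.resolve_left (by simpa using l.q.ne))

theorem ac (b : Bs (V ⊔ V') z j g j' g' π) (hn : n ∈ normalizer ((V ⊔ V' : Subgroup G) : Set G)) :
    Ac (V ⊔ V') π n (lin (π (n * j * n⁻¹)) (π (n * g * n⁻¹)) (π (n * j' * n⁻¹)) (π (n * g' * n⁻¹))) := by
  obtain ⟨φ, k⟩ := b.co.exists_ac hn (cj_eq_iff.1 (by rw [cj_zpowers, conj_eq_of_comm (l.nz hn)]))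
  refine k.congr fun u => ?_
  rw [eq_lin (b.co.hom k), k.2 _ (mem_sup_left l.jV), k.2 _ (mem_sup_left l.gV), k.2 _ (mem_sup_right l.jV'),
    k.2 _ (mem_sup_right l.gV'), b.h0, b.h1, b.h2, b.h3]

end Lt

/-- The transposition `(1 2)`. -/
def κ1 : W → W := lin e0 (e1 * e0) e2 e3
/-- The transposition `(4 5)`. -/
def κ2 : W → W := lin e0 e1 e2 (e3 * e2)
/-- The cycle `(1 2 3)`. -/
def ξ1 : W → W := lin e1 (e0 * e1) e2 (e3 * e0 * e1)
/-- The cycle `(3 4 5)`. -/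
def ξ2 : W → W := lin e0 (e1 * e2 * e3) e3 (e2 * e3)
/-- The permutation `(1 4)(2 5)` up to the order of the letters. -/
def η0 : W → W := lin e2 e3 e0 e1

/-- A 2-subgroup of the normaliser of order at least `8 |T|`. -/
theorem big {N : Subgroup G} (c : Co T N π) (hT : IsPGroup 2 T) (hc : Nat.card T = 32) {k k' x y : G} (hk : Ac T π k κ1)
    (hk' : Ac T π k' κ2) (hx : Ac T π x ξ1) (hy : Ac T π y ξ2) :
    ∃ P : Subgroup G, IsPGroup 2 P ∧ T ≤ P ∧ P ≤ normalizer (T : Set G) ∧ 256 ≤ Nat.card P := by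
  have hh : Ac T π (x * (y * (x * (y * x)))) η0 := (hx.mul (hy.mul (hx.mul (hy.mul hx)))).congr (by decide +kernel)
  generalize x * (y * (x * (y * x))) = h at hh
  have i0 : ∀ {a φ}, Ac T π a φ → (a ∈ c.kr ↔ ∀ u, φ u = u) := fun e => ⟨fun m => c.uniq e m, fun m => e.congr m⟩
  have n1 := c.norm_kr hk
  have s1 : k * k ∈ c.kr := (i0 (hk.mul hk)).2 (by decide +kernel)
  have i1 : ∀ {a φ}, Ac T π a φ → (a ∈ ext c.kr k ↔ (∀ u, φ u = u) ∨ ∀ u, κ1 (φ u) = u) := fun e => by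
    rw [mem_ext n1 s1, i0 e, i0 (hk.mul e)]
  have n2 : k' ∈ normalizer (ext c.kr k : Set G) := cj_eq_iff.1 (cj_eq_of_le (by
    rw [cj_ext, cj_eq_iff.2 (c.norm_kr hk'), ext_le]
    exact ⟨le_ext _ _, (i1 ((hk'.mul hk).mul (hk'.inv (ψ := κ2) (by decide +kernel)))).2 (by decide +kernel)⟩))
  have s2 : k' * k' ∈ ext c.kr k := (i1 (hk'.mul hk')).2 (by decide +kernel)
  have i2 : ∀ {a φ}, Ac T π a φ → (a ∈ ext (ext c.kr k) k' ↔ ((∀ u, φ u = u) ∨ ∀ u, κ1 (φ u) = u) ∨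
      (∀ u, κ2 (φ u) = u) ∨ ∀ u, κ1 (κ2 (φ u)) = u) := fun e => by
    rw [mem_ext n2 s2, i1 e, i1 (hk'.mul e)]
  have hi := hh.inv (ψ := η0) (by decide +kernel)
  have n3 : h ∈ normalizer (ext (ext c.kr k) k' : Set G) := cj_eq_iff.1 (cj_eq_of_le (by
    rw [cj_ext, cj_ext, cj_eq_iff.2 (c.norm_kr hh), ext_le, ext_le]
    exact ⟨⟨(le_ext _ _).trans (le_ext _ _), (i2 ((hh.mul hk).mul hi)).2 (by decide +kernel)⟩,
      (i2 ((hh.mul hk').mul hi)).2 (by decide +kernel)⟩))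
  have e := card_ext n3 ((i2 (hh.mul hh)).2 (by decide +kernel)) (by rw [i2 hh]; decide +kernel)
  rw [card_ext n2 s2 (by rw [i1 hk']; decide +kernel), card_ext n1 s1 (by rw [i0 hk]; decide +kernel)] at e
  have d : 2 ^ 8 ∣ Nat.card (ext (ext (ext c.kr k) k') h) := by
    obtain ⟨m, hm⟩ := card_dvd_of_le c.le_kr
    exact ⟨m, by rw [e, hm, hc]; ring⟩
  have hle : ext (ext (ext c.kr k) k') h ≤ normalizer (T : Set G) :=
    ext_le.2 ⟨ext_le.2 ⟨ext_le.2 ⟨fun a ha => ha.1, hk.1⟩, hk'.1⟩, hh.1⟩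
  obtain ⟨Q, hQ⟩ := Sylow.exists_subgroup_card_pow_prime 2 d
  obtain ⟨P, hP, hTP⟩ := exists_isSylIn hT (le_normalizer (H := T))
  have := hP.card_le ((IsPGroup.of_card hQ).map (ext (ext (ext c.kr k) k') h).subtype) ((map_subtype_le _).trans hle)
  rw [card_map_of_injective (subtype_injective _), hQ] at this
  exact ⟨P, hP.isPGroup, hTP, hP.le, this⟩

/-- The action of a good quaternion triple on an overgroup of the support. -/
theorem tri_act {S R : Subgroup G} {x s : G} (h : T2 S R x s) (hS : IsPGroup 2 S) (q : Qz (supp R x) z) (hT : T ≤ S)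
    (hV : supp R x ≤ T) (hc : ∀ t ∈ T, ∀ v ∈ supp R x, ⁅t, v⁆ ∈ zpowers z) :
    x ∈ normalizer (T : Set G) ∧ (∀ d ∈ T, Cz d (supp R x) → x * d * x⁻¹ = d) ∧
      ∀ v ∈ supp R x, ⁅x, v⁆ ∈ zpowers z → v ∈ zpowers z := by
  have h8 : Q8 (supp R x) := ⟨q.card, z, q.mem, q.ne, q.sq, q.all⟩
  have hR : T ≤ R := fun t ht => (h.inf_kp hS (.inr h8)).le ⟨hT ht, mem_kp.2 fun v hv => q.phi_eq ▸ hc t ht v hv⟩
  have l := supp_le h.tri.xn
  refine ⟨mem_normalizer_of_conj_mem fun t ht => inv_of_supp_le hV (hR ht) ht,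
    fun d hd e => conj_eq_of_comm (mem_fix.1 ((h.tri.q8_fix h8 (hR hd)).2 e)).2, fun v hv e => ?_⟩
  obtain ⟨d, hd, k⟩ := h.tri.od.lift (q.le.trans l) (q.phi_eq ▸ norm_phi mem_norm_supp) (l hv)
    (q.phi_eq ▸ norm_phi (le_normalizer hv)) e
  have dV : d ∈ supp R x := (mul_mem_cancel_left (inv_mem hv)).1 (q.le k)
  by_contra a
  have a' : d ∉ zpowers z := fun m => a (inv_mem_iff.1 ((mul_mem_cancel_right m).1 k))
  obtain ⟨i, hi, e⟩ := q.exists_anti dV a'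
  rw [conj_eq_of_comm ((h.tri.q8_fix h8 hd.1).1 hd i hi).symm, q.inv_eq dV a'] at e
  exact q.ne (left_eq_mul.1 e)

namespace Lt
variable (l : Lt V V' z j g j' g') (b : Bs (V ⊔ V') z j g j' g' π)
include l b

theorem pl {K : Subgroup G} {u v w : G} (hK : K ≤ V ⊔ V') (e : K = closure {u, v}) (P : W → Prop) (h1 : P 1)
    (hm : ∀ a b, P a → P b → P (a * b)) (hu : P (π u)) (hv : P (π v)) (hw : w ∈ K) : P (π w) := by
  rw [e] at hw hK
  induction hw using closure_induction with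
  | mem x hx => rcases hx with rfl | rfl; exacts [hu, hv]
  | one => rwa [b.co.one]
  | mul x y hx hy a c => rw [b.co.mul _ (hK hx) _ (hK hy)]; exact hm _ _ a c
  | inv x hx a => rwa [b.co.inv (hK hx)]

theorem nZ {u : G} (h : u * u = z) : u ∉ zpowers z := fun m => by
  rcases l.q.mem_iff.1 m with rfl | rfl
  exacts [l.q.ne (by simpa using h.symm), l.q.ne (h.symm.trans l.q.sq)]

theorem ac1 {x : G} (hn : x ∈ normalizer ((V ⊔ V' : Subgroup G) : Set G)) (hV : x ∈ normalizer (V : Set G))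
    (h1 : ∀ d ∈ V ⊔ V', Cz d V → x * d * x⁻¹ = d) (h2 : ∀ v ∈ V, ⁅x, v⁆ ∈ zpowers z → v ∈ zpowers z) :
    ∃ y, Ac (V ⊔ V') π y ξ1 := by
  have m0 : j ∈ V ⊔ V' := mem_sup_left l.jV
  have m1 : g ∈ V ⊔ V' := mem_sup_left l.gV
  have m3 : g' ∈ V ⊔ V' := mem_sup_right l.gV'
  have k := l.ac b hn
  have cz : ∀ {d}, d * j = j * d → d * g = g * d → Cz d V := fun a c => TriA.cz_iff.2 (by
    rw [l.eV, centralizer_closure, mem_centralizer_iff]
    rintro _ (rfl | rfl)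
    exacts [a.symm, c.symm])
  rw [h1 _ (mem_sup_right l.jV') (cz l.c1 l.c3), b.h2] at k
  have e : π (x * g' * x⁻¹) * π (x * j * x⁻¹) = e3 * e0 := by
    rw [← b.co.mul _ (k.mem m3) _ (k.mem m0), ← conj_mul', h1 _ (mul_mem m3 m0) (cz (by rw [l.c2, mul_assoc, l.c2]) (by
      have : j * g = g * j * z := by rw [l.jg, mul_assoc, l.q.sq, mul_one]
      rw [mul_assoc, this, ← mul_assoc, ← mul_assoc, l.c4, mul_assoc _ z, ← l.zc m0, mul_assoc, mul_assoc, mul_assoc,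
        l.q.sq, mul_one])), b.co.mul _ m3 _ m0, b.h3, b.h0]
  have pV : ∀ {v}, v ∈ V → (π (x * v * x⁻¹)).c = false ∧ (π (x * v * x⁻¹)).d = false := fun hv =>
    l.pl b le_sup_left l.eV (fun u => u.c = false ∧ u.d = false) (by decide) (by decide +kernel) (by rw [b.h0]; decide)
      (by rw [b.h1]; decide) ((conj_mem_norm hV).2 hv)
  have nf : ∀ {v}, v ∈ V → v * v = z → lin (π (x * j * x⁻¹)) (π (x * g * x⁻¹)) e2 (π (x * g' * x⁻¹)) (π v) ≠ π v :=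
    fun hv a c => l.nZ b a (h2 _ hv ((b.co.comm_iff k (mem_sup_left hv)).2 c))
  have f : ∀ p q s : W, (p.c = false ∧ p.d = false) → (q.c = false ∧ q.d = false) → s * p = e3 * e0 →
      lin p q e2 s e0 ≠ e0 → lin p q e2 s e1 ≠ e1 → lin p q e2 s (e0 * e1) ≠ e0 * e1 →
      (∀ u, lin p q e2 s u = lin p q e2 s 1 → u = 1) →
      (∀ u, lin p q e2 s u = ξ1 u) ∨ ∀ u, lin p q e2 s (lin p q e2 s u) = ξ1 u := by decide +kernel
  have n2 := nf (mul_mem l.jV l.gV) (by rw [l.sq_iff b (mul_mem m0 m1), b.co.mul _ m0 _ m1, b.h0, b.h1]; rfl)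
  rw [b.co.mul _ m0 _ m1, b.h0, b.h1] at n2
  rcases f _ _ _ (pV l.jV) (pV l.gV) e (b.h0 ▸ nf l.jV l.jj) (b.h1 ▸ nf l.gV l.gg) n2 (fun u a => b.co.inj k a) with a | a
  exacts [⟨_, k.congr a⟩, ⟨_, (k.mul k).congr a⟩]

theorem ac2 {x : G} (hn : x ∈ normalizer ((V ⊔ V' : Subgroup G) : Set G)) (hV : x ∈ normalizer (V' : Set G))
    (h1 : ∀ d ∈ V ⊔ V', Cz d V' → x * d * x⁻¹ = d) (h2 : ∀ v ∈ V', ⁅x, v⁆ ∈ zpowers z → v ∈ zpowers z) :
    ∃ y, Ac (V ⊔ V') π y ξ2 := by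
  have m1 : g ∈ V ⊔ V' := mem_sup_left l.gV
  have m2 : j' ∈ V ⊔ V' := mem_sup_right l.jV'
  have m3 : g' ∈ V ⊔ V' := mem_sup_right l.gV'
  have k := l.ac b hn
  have cz : ∀ {d}, d * j' = j' * d → d * g' = g' * d → Cz d V' := fun a c => TriA.cz_iff.2 (by
    rw [l.eV', centralizer_closure, mem_centralizer_iff]
    rintro _ (rfl | rfl)
    exacts [a.symm, c.symm])
  rw [h1 _ (mem_sup_left l.jV) (cz l.c1.symm l.c2.symm), b.h0] at k
  have e : π (x * g * x⁻¹) * π (x * j' * x⁻¹) = e1 * e2 := by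
    rw [← b.co.mul _ (k.mem m1) _ (k.mem m2), ← conj_mul', h1 _ (mul_mem m1 m2) (cz (by rw [← l.c3, mul_assoc, ← l.c3]) (by
      rw [← mul_assoc g', l.c4, mul_assoc _ z, ← l.zc m2, mul_assoc g g', ← mul_assoc g', l.jg', mul_assoc _ z, l.q.sq,
        mul_one, mul_assoc])), b.co.mul _ m1 _ m2, b.h1, b.h2]
  have pV : ∀ {v}, v ∈ V' → (π (x * v * x⁻¹)).a = false ∧ (π (x * v * x⁻¹)).b = false := fun hv =>
    l.pl b le_sup_right l.eV' (fun u => u.a = false ∧ u.b = false) (by decide) (by decide +kernel) (by rw [b.h2]; decide)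
      (by rw [b.h3]; decide) ((conj_mem_norm hV).2 hv)
  have nf : ∀ {v}, v ∈ V' → v * v = z → lin e0 (π (x * g * x⁻¹)) (π (x * j' * x⁻¹)) (π (x * g' * x⁻¹)) (π v) ≠ π v :=
    fun hv a c => l.nZ b a (h2 _ hv ((b.co.comm_iff k (mem_sup_right hv)).2 c))
  have f : ∀ p q s : W, (p.a = false ∧ p.b = false) → (q.a = false ∧ q.b = false) → s * p = e1 * e2 →
      lin e0 s p q e2 ≠ e2 → lin e0 s p q e3 ≠ e3 → lin e0 s p q (e2 * e3) ≠ e2 * e3 →
      (∀ u, lin e0 s p q u = lin e0 s p q 1 → u = 1) →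
      (∀ u, lin e0 s p q u = ξ2 u) ∨ ∀ u, lin e0 s p q (lin e0 s p q u) = ξ2 u := by decide +kernel
  have n2 := nf (mul_mem l.jV' l.gV') (by rw [l.sq_iff b (mul_mem m2 m3), b.co.mul _ m2 _ m3, b.h2, b.h3]; rfl)
  rw [b.co.mul _ m2 _ m3, b.h2, b.h3] at n2
  rcases f _ _ _ (pV l.jV') (pV l.gV') e (b.h2 ▸ nf l.jV' l.jj') (b.h3 ▸ nf l.gV' l.gg') n2 (fun u a => b.co.inj k a)
    with a | a
  exacts [⟨_, k.congr a⟩, ⟨_, (k.mul k).congr a⟩]

/-- The image of a letter under an element that fixes it modulo the centre. -/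
theorem pz {u : G} (hu : u ∈ V ⊔ V') (h : ⁅n, u⁆ ∈ zpowers z) : n * u * n⁻¹ ∈ V ⊔ V' ∧ π (n * u * n⁻¹) = π u := by
  have m : ⁅n, u⁆ ∈ V ⊔ V' := b.co.le h
  rw [show n * u * n⁻¹ = ⁅n, u⁆ * u by simp [commutatorElement_def]]
  exact ⟨mul_mem m hu, by rw [b.co.mul _ m _ hu, (b.co.ker _ m).2 h, one_mul]⟩

theorem ac3 (h0 : ⁅n, j⁆ ∈ zpowers z) (h1 : n * g * n⁻¹ = g * j⁻¹) (h2 : ⁅n, j'⁆ ∈ zpowers z) (h3 : ⁅n, g'⁆ ∈ zpowers z) :
    Ac (V ⊔ V') π n κ1 := by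
  have m0 : j ∈ V ⊔ V' := mem_sup_left l.jV
  have m1 : g ∈ V ⊔ V' := mem_sup_left l.gV
  have a0 := l.pz b m0 h0
  have a2 := l.pz b (mem_sup_right l.jV') h2
  have a3 := l.pz b (mem_sup_right l.gV') h3
  have k := l.ac b (n := n) (mem_normalizer_of_conj_mem fun w hw => mem_cj.1 (l.le_of (K := cj n⁻¹ (V ⊔ V'))
    (mem_cj.2 (by simpa using a0.1)) (mem_cj.2 (by simpa [h1] using mul_mem m1 (inv_mem m0)))
    (mem_cj.2 (by simpa using a2.1)) (mem_cj.2 (by simpa using a3.1)) hw) |> fun a => by simpa using a)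
  rwa [a0.2, a2.2, a3.2, h1, b.co.mul _ m1 _ (inv_mem m0), b.co.inv m0, b.h0, b.h1, b.h2, b.h3] at k

theorem ac4 (h0 : ⁅n, j⁆ ∈ zpowers z) (h1 : ⁅n, g⁆ ∈ zpowers z) (h2 : ⁅n, j'⁆ ∈ zpowers z) (h3 : n * g' * n⁻¹ = g' * j'⁻¹) :
    Ac (V ⊔ V') π n κ2 := by
  have m2 : j' ∈ V ⊔ V' := mem_sup_right l.jV'
  have m3 : g' ∈ V ⊔ V' := mem_sup_right l.gV'
  have a0 := l.pz b (mem_sup_left l.jV) h0
  have a1 := l.pz b (mem_sup_left l.gV) h1
  have a2 := l.pz b m2 h2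
  have k := l.ac b (n := n) (mem_normalizer_of_conj_mem fun w hw => mem_cj.1 (l.le_of (K := cj n⁻¹ (V ⊔ V'))
    (mem_cj.2 (by simpa using a0.1)) (mem_cj.2 (by simpa using a1.1)) (mem_cj.2 (by simpa using a2.1))
    (mem_cj.2 (by simpa [h3] using mul_mem m3 (inv_mem m2))) hw) |> fun a => by simpa using a)
  rwa [a0.2, a1.2, a2.2, h3, b.co.mul _ m3 _ (inv_mem m2), b.co.inv m2, b.h0, b.h1, b.h2, b.h3] at k

end Lt

end Cfsg.Agent.GH.Y6
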