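import Mathlib
import Cfsg.Agent.GH.Defs3
import Cfsg.Agent.GH.Y3
import Cfsg.Agent.GH.Y6

/-! The configuration `Y×` with `|S : Y| = 4`: the end. See `stubs/Cfsg/Agent/GH/PLAN2.md`. -/

set_option autoImplicit false
set_option linter.unusedSectionVars false

namespace Cfsg.Agent.GH

open Cfsg.Agent.Inv.Fz Cfsg.Agent.NE Subgroup
open scoped commutatorElement

variable {G : Type*} [Group G] [Finite G] {S R K N Θ Θ' H : Subgroup G} {x s g v a b a' b' y : G} {n n' : ℕ}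

namespace Y5b

/-- `⟨J, g⟩` is a good quaternion group with centre `w`, and `g` swaps the factors. -/
structure P (S Θ : Subgroup G) (w J g : G) : Prop where
  mem : g ∈ S
  out : g ∉ normalizer (Θ : Set G)
  sq : g * g = w
  inv : g * J * g⁻¹ = J⁻¹
  v : ∃ R x s, T2 S R x s ∧ Q8 (supp R x) ∧ supp R x = closure {J, g}

theorem clo {j J : G} (e : zpowers j = zpowers J) : (closure {j, g} : Subgroup G) = closure {J, g} := by
  rw [Set.insert_eq, Set.insert_eq, Subgroup.closure_union, Subgroup.closure_union, ← zpowers_eq_closure j, ← zpowers_eq_closure J, e]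

theorem P.congr {w J J' : G} (h : P S Θ w J g) (e : zpowers J = zpowers J') : P S Θ w J' g := by
  obtain ⟨R, x, s, h1, h2, h3⟩ := h.v
  exact ⟨h.mem, h.out, h.sq, inverts_zpowers h.inv (e ▸ mem_zpowers J'), R, x, s, h1, h2, h3.trans (clo e)⟩

theorem of_yv {V : Subgroup G} (h : YV S V Θ a n y g) :
    P S Θ (zz a n * (y * zz a n * y⁻¹)) (jj a n * (y * jj a n * y⁻¹)) g ∨
      P S Θ (zz a n * (y * zz a n * y⁻¹)) (jj a n * (y * jj a n * y⁻¹)⁻¹) g := by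
  obtain ⟨R, x, s, Θ₀, a₀, n₀, y₀, hq, -, -, e, e'⟩ := h.ex
  have p : P S Θ (zz a n * (y * zz a n * y⁻¹)) (jj a₀ n₀) g :=
    ⟨h.mem, h.swap, hq.sq.trans e, (hq.dq.jj_sq hq.two).2.1, R, x, s, hq.t2, hq.q8, hq.eq⟩
  exact e'.imp p.congr p.congr

theorem P.cjb (h : YX S Θ a b y) (hq : DQ Θ a b n) (h2 : 2 ≤ n) {k : G} (hk : k ∈ cj y Θ)
    (p : P S Θ (zz a n * (y * zz a n * y⁻¹)) (jj a n * k) g) :
    P S Θ (zz a n * (y * zz a n * y⁻¹)) (jj a n * k⁻¹) (b * g * b⁻¹) := by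
  have bΘ := YA.bm hq
  have bS := h.le bΘ
  have e : b * (jj a n * k) * b⁻¹ = (jj a n * k⁻¹)⁻¹ := by
    rw [conj_mul', (hq.jj_sq h2).2.1, conj_eq_of_comm (h.comm b bΘ k hk), mul_inv_rev, inv_inv,
      h.comm _ (inv_mem (DihA.aL hq (DihA.jA hq))) k hk]
  obtain ⟨R, x, s, h1, h3, h4⟩ := p.v
  refine P.congr (J := b * (jj a n * k) * b⁻¹) ⟨mul_mem (mul_mem bS p.mem) (inv_mem bS),
    fun m => p.out ((conj_mem_norm (le_normalizer (le_normalizer bΘ))).1 m), ?_, ?_, _, _, _,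
    h1.cj (le_normalizer bS), ?_, ?_⟩ (by rw [e, zpowers_inv])
  · rw [← conj_mul', p.sq, conj_eq_of_comm (YA.czz h hq b bS).symm]
  · rw [YA.c3, p.inv, conj_inv]
  · rw [← cj_supp]; exact h3.cj b
  · rw [← cj_supp, h4, BsA.cj_pair]

theorem step {L : Subgroup G} (hn : S ≤ normalizer (L : Set G)) {r t : G} (hr : r ∈ S) (ht : t ∈ S)
    (h1 : ⁅x, r⁆ ∈ L) (h2 : ⁅x, t⁆ ∈ L) : ∀ v ∈ (closure {r, t} : Subgroup G), ⁅x, v⁆ ∈ L := by
  obtain ⟨F, hF⟩ := exists_fx x hn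
  have : (closure {r, t} : Subgroup G) ≤ F := (closure_le _).2 (by
    rintro _ (rfl | rfl)
    exacts [(hF _).2 ⟨hr, h1⟩, (hF _).2 ⟨ht, h2⟩])
  exact fun v hv => ((hF v).1 (this hv)).2

theorem main (c : Ctx G) (h : YX c.S Θ a b y) (hq : DQ Θ a b n) (h2 : 2 ≤ n)
    (hχ : ∀ g ∈ c.S, g ∈ normalizer (Θ : Set G) → (⁅g, b⁆ ∈ phi Θ ↔ ⁅g, y * b * y⁻¹⁆ ∈ phi (cj y Θ)))
    (hb : b * b = 1) {k g₁ g₂ : G} (hk : k = y * jj a n * y⁻¹ ∨ k = (y * jj a n * y⁻¹)⁻¹)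
    (p₁ : P c.S Θ (zz a n * (y * zz a n * y⁻¹)) (jj a n * k) g₁)
    (p₂ : P c.S Θ (zz a n * (y * zz a n * y⁻¹)) (jj a n * k) g₂) (hne : g₁ * g₂ ∉ Θ ⊔ cj y Θ) : False := by
  have hq' := hq.cj y
  have bΘ := YA.bm hq
  have bS := h.le bΘ
  have jΘ : jj a n ∈ Θ := DihA.aL hq (DihA.jA hq)
  have kΘ : k ∈ cj y Θ := by
    rcases hk with rfl | rfl
    exacts [conj_mem_cj.2 jΘ, inv_mem (conj_mem_cj.2 jΘ)]
  have cw := YA.czz h hq
  have zz' := YA.zc h hq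
  have z2 := hq.zz_ne.2.1
  have w2 : zz a n * (y * zz a n * y⁻¹) * (zz a n * (y * zz a n * y⁻¹)) = 1 := by
    rw [mul_assoc, ← mul_assoc (y * zz a n * y⁻¹), ← zz', mul_assoc, ← conj_mul', z2, ← mul_assoc, z2]; simp
  have zw : zz a n ∉ zpowers (zz a n * (y * zz a n * y⁻¹)) := fun m =>
    hq.zz_ne.1 (YA.triv h hq (.inl (YA.zmem hq)) m)
  have sw : ∀ {g u v : G}, g ∈ c.S → g ∉ normalizer (Θ : Set G) → u ∈ Θ → v ∈ cj y Θ →
      g * (u * v) * g⁻¹ = (u * v)⁻¹ → g * v * g⁻¹ = u⁻¹ ∧ g * u * g⁻¹ = v⁻¹ := fun {g u v} hg hn hu hv e => by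
    obtain ⟨o1, o2⟩ := h.toYB.cj_out hg hn
    have m1 : g * u * g⁻¹ ∈ cj y Θ := o1 ▸ conj_mem_cj.2 hu
    have m2 : g * v * g⁻¹ ∈ Θ := o2 ▸ conj_mem_cj.2 hv
    refine YA.uniq h m2 m1 (inv_mem hu) (inv_mem hv) ?_
    rw [h.comm _ m2 _ m1, ← conj_mul', e, mul_inv_rev, h.comm _ (inv_mem hu) _ (inv_mem hv)]
  obtain ⟨k1, j1⟩ := sw p₁.mem p₁.out jΘ kΘ p₁.inv
  obtain ⟨k2, j2⟩ := sw p₂.mem p₂.out jΘ kΘ p₂.inv
  have βS := mul_mem p₁.mem p₂.mem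
  have βN := h.ix.mul_mem p₁.mem p₂.mem p₁.out p₂.out
  have βj : g₁ * g₂ * jj a n = jj a n * (g₁ * g₂) :=
    comm_of_conj_eq (by rw [← conj_conj, j2, ← conj_inv, k1, inv_inv])
  have βk : g₁ * g₂ * k = k * (g₁ * g₂) := comm_of_conj_eq (by rw [← conj_conj, k2, ← conj_inv, j1, inv_inv])
  have gi : ∀ {g : G}, g ∈ c.S → g * g = zz a n * (y * zz a n * y⁻¹) → g⁻¹ = g * (zz a n * (y * zz a n * y⁻¹)) :=
    fun {g} _ e => inv_eq_of_mul_eq_one_right (by rw [← mul_assoc, e, w2])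
  have iβ : g₁ * (g₁ * g₂) * g₁⁻¹ = (g₁ * g₂)⁻¹ := by
    rw [← mul_assoc, p₁.sq, cw _ p₂.mem, ← gi p₂.mem p₂.sq, mul_inv_rev]
  obtain ⟨u, hu, v, hv, e, χ1, χ2, ca, ca'⟩ := h.bsq hq h2 βS βj (by
    rcases hk with rfl | rfl
    exacts [βk, (Commute.inv_right_iff.1 βk).eq])
  have nχ : ⁅g₁ * g₂, b⁆ ∉ phi Θ := fun m => hne (h.k0 _ βS βN m ((hχ _ βS βN).1 m))
  have u1 := mt χ1.1 nχ
  have v1 := mt (χ2.trans (hχ _ βS βN).symm).1 nχ
  have uΘ := DihA.aL hq hu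
  have vΘ := DihA.aL hq' hv
  have uv := h.comm u uΘ v vΘ
  obtain ⟨-, zu, -⟩ := hq.regen (hq.gen_of_not hu u1)
  obtain ⟨-, zv, -⟩ := hq'.regen (hq'.gen_of_not hv v1)
  have nA := h.na ⟨βS, βN⟩
  have cA := (hq.conj_b βN nA).2
  generalize eβ : g₁ * g₂ = β at *
  obtain ⟨iv, iu⟩ := sw p₁.mem p₁.out uΘ vΘ (by rw [← e, conj_mul', iβ, mul_inv_rev])
  obtain ⟨m, rfl⟩ := Nat.exists_eq_add_of_le' h2
  have pw : ∀ i, β ^ 2 ^ (i + 1) = u ^ 2 ^ i * v ^ 2 ^ i := fun i => by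
    rw [pow_succ', pow_mul, sq, e, Commute.mul_pow uv]
  have zβ : zz β (m + 2 + 1) = zz a (m + 2) * (y * zz a (m + 2) * y⁻¹) := by
    rw [← conj_pow, ← zu]
    exact (pw (m + 1)).trans (congrArg _ zv)
  have w1 : zz a (m + 2) * (y * zz a (m + 2) * y⁻¹) ≠ 1 := fun e =>
    YA.zne h hq ((eq_inv_of_mul_eq_one_right e).trans (inv_of_sq z2))
  have hH : DQ (closure {β, g₁}) β g₁ (m + 2 + 1) := ⟨by omega, orderOf_eq_prime_pow (fun e => w1 (zβ.symm.trans e)) (by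
      rw [pow_succ, pow_mul, sq]; exact (congrArg₂ _ zβ zβ).trans w2), iβ, fun k => p₁.out (zpowers_le.2 βN k), rfl,
    .inr ⟨by omega, p₁.sq.trans zβ.symm⟩⟩
  have J : jj β (m + 2 + 1) = jj u (m + 2) * jj v (m + 2) := pw m
  have iJ : g₁ * jj u (m + 2) * g₁⁻¹ = (jj v (m + 2))⁻¹ := by rw [← conj_pow, iu, inv_pow]
  have ju : jj u (m + 2) ∈ zpowers a := pow_mem hu _
  have ju2 : jj u (m + 2) * jj u (m + 2) = zz a (m + 2) := by
    rw [← zu, ← pow_add, ← mul_two, ← pow_succ]; rfl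
  have jc := DihA.cA ju (DihA.jA hq)
  have jj2 := DihA.jj2 hq h2
  have eJ : zpowers (jj a (m + 2) * k) = zpowers (jj β (m + 2 + 1)) := by
    rw [J]
    rcases DihA.two_cases hq (mul_mem ju (DihA.jA hq)) (by
      rw [mul_assoc, ← mul_assoc (jj a (m + 2)), ← jc, mul_assoc, jj2, ← mul_assoc, ju2, z2]) with e1 | e1
    · rw [eq_inv_of_mul_eq_one_left e1] at iJ ⊢
      rw [← conj_inv, j1, inv_inv] at iJ
      rw [iJ, ← zpowers_inv, mul_inv_rev, inv_inv, h.comm _ (inv_mem jΘ) _ (pow_mem vΘ _)]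
    · rw [mul_right_cancel (e1.trans jj2.symm)] at iJ ⊢
      rw [inv_injective (j1.symm.trans iJ)]
  have HS : (closure {β, g₁} : Subgroup G) ≤ c.S := (closure_le _).2 (by
    rintro _ (rfl | rfl)
    exacts [βS, p₁.mem])
  have cS : ∀ {g : G}, g ∈ c.S → b * g * b⁻¹ ∈ c.S := fun hg => mul_mem (mul_mem bS hg) (inv_mem bS)
  have cg : ∀ {g J : G}, P c.S Θ (zz a (m + 2) * (y * zz a (m + 2) * y⁻¹)) J g →
      g * (b * g * b⁻¹) = b * g * b⁻¹ * g := fun {g J} p => by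
    have e1 := h.comm b bΘ _ ((h.toYB.cj_out p.mem p.out).1 ▸ conj_mem_cj.2 bΘ : g * b * g⁻¹ ∈ cj y Θ)
    rw [gi p.mem p.sq] at e1
    generalize zz a (m + 2) * (y * zz a (m + 2) * y⁻¹) = w at e1 cw
    rw [← mul_assoc (g * b), ← mul_assoc b, mul_assoc _ w b, cw b bS, ← mul_assoc _ b w, mul_left_inj] at e1
    rw [inv_of_sq hb, ← mul_assoc, ← mul_assoc, ← e1]; group
  have nw : c.S ≤ normalizer (zpowers (zz a (m + 2) * (y * zz a (m + 2) * y⁻¹)) : Set G) := fun g hg =>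
    centralizer_le_normalizer _ fun r hr => (comm_zpowers (cw g hg).symm hr).symm
  have eb : b * β * b⁻¹ = ⁅β, b⁆⁻¹ * β := by simp only [commutatorElement_def]; group
  have cβ : ∀ r ∈ zpowers a, β * r = r * β := fun r hr => comm_zpowers (ca u1) hr
  have dA := inv_mem cA
  generalize ⁅β, b⁆⁻¹ = d at eb dA
  have du : d * u * (d * u) = 1 := by
    have e1 : b * β * b⁻¹ * (b * β * b⁻¹) = u⁻¹ * v := by
      rw [← conj_mul', e, conj_mul', inverts_zpowers hq.inv hu, conj_eq_of_comm (h.comm b bΘ v vΘ)]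
    rw [eb, mul_assoc, ← mul_assoc β, cβ d dA, mul_assoc, e, ← mul_assoc, ← mul_assoc, mul_left_inj] at e1
    rw [mul_assoc, ← mul_assoc u, ← DihA.cA dA hu, ← mul_assoc, ← mul_assoc, e1, inv_mul_cancel]
  have c1 : ⁅g₁, b * β * b⁻¹⁆ ∈ zpowers (zz a (m + 2) * (y * zz a (m + 2) * y⁻¹)) := by
    have e1 : ⁅g₁, b * β * b⁻¹⁆ = g₁ * (d * u) * g₁⁻¹ * (d * u)⁻¹ := by
      rw [eb, commutatorElement_def, conj_mul', iβ, conj_mul', iu, mul_inv_rev, mul_inv_rev, mul_assoc, mul_assoc,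
        ← mul_assoc β⁻¹, ← mul_inv_rev, e, mul_inv_rev]
      group
    rw [e1]
    rcases DihA.two_cases hq (mul_mem dA hu) du with e2 | e2 <;> rw [e2]
    · simp
    · rw [(h.toYB.out hq p₁.mem p₁.out).1, inv_of_sq z2, ← zz']; exact mem_zpowers _
  have hc : ∀ r ∈ (closure {β, g₁} : Subgroup G), ∀ t ∈ cj b (closure {β, g₁}),
      ⁅r, t⁆ ∈ zpowers (zz a (m + 2) * (y * zz a (m + 2) * y⁻¹)) := fun r hr t ht => by
    rw [BsA.cj_pair] at ht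
    refine TriA.cinv.1 (step nw βS p₁.mem (TriA.cinv.1 (step nw (cS βS) (cS p₁.mem) ?_ ?_ t ht))
      (TriA.cinv.1 (step nw (cS βS) (cS p₁.mem) c1 ?_ t ht)) r hr)
    · rw [commutatorElement_eq_one_iff_mul_comm.2 (by rw [eb, ← mul_assoc, cβ d dA])]; exact one_mem _
    · have := (conj_mem_norm (nw bS)).2 (TriA.cinv.1 c1)
      rwa [conjugate_commutatorElement, conj_conj, hb, one_mul, inv_one, mul_one] at this
    · rw [commutatorElement_eq_one_iff_mul_comm.2 (cg p₁)]; exact one_mem _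
  have bb : ∀ r : G, b * (b * r * b⁻¹) * b⁻¹ = r := fun r => by rw [conj_conj, hb]; simp
  have z2H : ∀ r ∈ (closure {β, g₁} : Subgroup G), r ∈ cj b (closure {β, g₁}) → r ∈ zpowers (zz β (m + 2 + 1)) ∨
      r * jj β (m + 2 + 1) ∈ zpowers (zz β (m + 2 + 1)) := fun r hr hr' => by
    have hz := hH.zz_ne.2.1
    have rA : r ∈ zpowers β := by
      rcases hH.mem.1 hr with k | k
      · exact k
      · have e1 := hc β (BsA.am hH) r hr'
        have e2 : ⁅β, r⁆ = β * β := by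
          rw [show ⁅β, r⁆ = β * (g₁ * (g₁⁻¹ * r * β * (g₁⁻¹ * r)⁻¹) * g₁⁻¹)⁻¹ by
            simp only [commutatorElement_def]; group, conj_eq_of_comm (DihA.cA k (mem_zpowers β)), iβ, inv_inv]
        rw [e2, mem_zpowers_sq w2] at e1
        have e3 : β ^ 2 ^ 2 = 1 := by
          rw [show β ^ 2 ^ 2 = β * β * (β * β) by norm_num [pow_succ, mul_assoc]]
          rcases e1 with e1 | e1 <;> rw [e1]
          exacts [one_mul _, w2]
        have := Nat.le_of_dvd (by positivity) (orderOf_dvd_of_pow_eq_one e3)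
        rw [hH.ord, Nat.pow_le_pow_iff_right one_lt_two] at this
        omega
    have e1 := TriA.cinv.1 (hc g₁ (YA.bm hH) r hr')
    rw [DihA.comm_b hH rA, ← zβ, mem_zpowers_sq hz] at e1
    simp only [mem_zpowers_sq hz]
    refine e1.imp (DihA.two_cases hH rA) fun e1 => DihA.two_cases hH (mul_mem rA (DihA.jA hH)) ?_
    rw [mul_assoc, ← mul_assoc (jj β _), ← DihA.cA rA (DihA.jA hH), mul_assoc, DihA.jj2 hH (by omega),
      ← mul_assoc, e1, hz]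
  refine c.pair (g₁ := g₁) (g₂ := g₂) (t := b) (n := m + 2 + 1) (H := closure {β, g₁}) (eβ ▸ hH) (by omega)
    (by rw [eβ, zβ, p₁.sq]) hb (by rw [eβ, zβ]; exact hc) (le_antisymm (fun r hr => ?_) ?_) (le_antisymm ?_ ?_)
    (cg p₁) (cg p₂) (eβ ▸ (p₁.congr eJ).v) (eβ ▸ (p₂.congr eJ).v)
  · rw [eβ]
    refine (z2H r hr.1 hr.2).elim id fun e1 => ?_
    have nb : b ∈ normalizer (zpowers (zz β (m + 2 + 1)) : Set G) := zβ ▸ nw bS
    refine (z2H (b * r * b⁻¹) (conj_mem_cj.1 (by rw [bb]; exact hr.2)) (conj_mem_cj.2 hr.1)).elim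
      (conj_mem_norm nb).1 fun e2 => (zw ?_).elim
    have := mul_mem (inv_mem ((conj_mem_norm nb).2 e1)) e2
    rwa [conj_mul', mul_inv_rev, mul_assoc, inv_mul_cancel_left, J, conj_mul', inverts_zpowers hq.inv ju,
      conj_eq_of_comm (h.comm b bΘ _ (pow_mem vΘ _)), mul_inv_rev, inv_inv, mul_assoc, ← mul_assoc (jj u _), ju2,
      h.comm _ (YA.zmem hq) _ (pow_mem vΘ _), inv_mul_cancel_left, zβ] at this
  · rw [eβ]
    have m := YA.zmem hH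
    refine zpowers_le.2 ⟨m, (conj_mem_cj (g := b)).1 ?_⟩
    rw [cj_cj, hb, cj_one, zβ, conj_eq_of_comm (cw b bS).symm, ← zβ]; exact m
  · generalize eK : closure {β, g₁} ⊔ cj b (closure {β, g₁}) ⊔ zpowers b = K
    have βK : β ∈ K := eK ▸ mem_sup_left (mem_sup_left (BsA.am hH))
    have gK : g₁ ∈ K := eK ▸ mem_sup_left (mem_sup_left (YA.bm hH))
    have bK : b ∈ K := eK ▸ mem_sup_right (mem_zpowers b)
    have ΘK : Θ ≤ K := by
      rw [hq.eq, closure_le]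
      rintro _ (rfl | rfl)
      · exact zpowers_le.2 (mul_mem (mul_mem (mul_mem βK bK) (inv_mem βK)) (inv_mem bK))
          ((hq.gen_of_not cA nχ).ge (mem_zpowers _))
      · exact bK
    have YK : Θ ⊔ cj y Θ ≤ K := sup_le ΘK (by
      rw [← (h.toYB.cj_out p₁.mem p₁.out).1, cj_le_iff]
      exact fun r hr => mul_mem (mul_mem gK (ΘK hr)) (inv_mem gK))
    have k0 : ∀ r ∈ c.S, r ∈ normalizer (Θ : Set G) → r ∈ cls Θ b → r ∈ K := fun r hr hn m =>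
      YK (h.k0 r hr hn ((mem_cls hn).1 m) ((hχ r hr hn).1 ((mem_cls hn).1 m)))
    have QK : ∀ r ∈ c.S, r ∈ normalizer (Θ : Set G) → r ∈ K := fun r hr hn => by
      rcases hq.ix_cls inf_le_right h.na ⟨βS, βN⟩ (mt (mem_cls βN).1 nχ) r ⟨hr, hn⟩ with m | m
      · exact k0 r hr hn m
      · exact (mul_mem_cancel_left βK).1 (k0 _ (mul_mem βS hr) (mul_mem βN hn) m)
    intro r hr
    by_cases hn : r ∈ normalizer (Θ : Set G)
    · exact QK r hr hn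
    · exact (mul_mem_cancel_left gK).1 (QK _ (mul_mem p₁.mem hr) (h.ix.mul_mem p₁.mem hr p₁.out hn))
  · exact sup_le (sup_le HS (cj_le_iff.2 fun r hr => cS (HS hr))) (zpowers_le.2 bS)

end Y5b

theorem Ctx.y5b (c : Ctx G) (h : YC c.S Θ a b n y) (hc : Nat.card c.S = 2 ^ (2 * n + 4)) (hb : b * b = 1)
    {V₁ V₂ : Subgroup G} {g₁ g₂ : G} (h₁ : YV c.S V₁ Θ a n y g₁) (h₂ : YV c.S V₂ Θ a n y g₂)
    (hne : g₁ * g₂ ∉ Θ ⊔ cj y Θ) : False := by
  have hq := h.gd.dq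
  have hχ := ((h.yx.card hq).resolve_right fun e => by
    have := Nat.pow_right_injective le_rfl (hc.symm.trans e.1)
    omega).2
  have bΘ := YA.bm hq
  have jΘ : y * jj a n * y⁻¹ ∈ cj y Θ := conj_mem_cj.2 (DihA.aL hq (DihA.jA hq))
  have hne' : g₁ * (b * g₂ * b⁻¹) ∉ Θ ⊔ cj y Θ := fun m => hne (by
    rw [show g₁ * (b * g₂ * b⁻¹) = g₁ * b * g₁⁻¹ * (g₁ * g₂) * b⁻¹ by group,
      mul_mem_cancel_right (inv_mem (mem_sup_left bΘ)), mul_mem_cancel_left (mem_sup_right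
        ((h.yx.toYB.cj_out h₁.mem h₁.swap).1 ▸ conj_mem_cj.2 bΘ))] at m
    exact m)
  rcases Y5b.of_yv h₁ with p₁ | p₁ <;> rcases Y5b.of_yv h₂ with p₂ | p₂
  · exact Y5b.main c h.yx hq h.two hχ hb (.inl rfl) p₁ p₂ hne
  · exact Y5b.main c h.yx hq h.two hχ hb (.inl rfl) p₁
      (by simpa only [inv_inv] using p₂.cjb h.yx hq h.two (inv_mem jΘ)) hne'
  · exact Y5b.main c h.yx hq h.two hχ hb (.inr rfl) p₁ (p₂.cjb h.yx hq h.two jΘ) hne'
  · exact Y5b.main c h.yx hq h.two hχ hb (.inr rfl) p₁ p₂ hne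

end Cfsg.Agent.GH
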