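import Mathlib
import Cfsg.Agent.GH.Defs3
import Cfsg.Agent.GH.GoodQ
import Cfsg.Agent.GH.Aft
import Cfsg.Agent.GH.HamB
import Cfsg.Agent.GH.UPa
import Cfsg.Agent.GH.FF

/-! The configuration `Y∘`. See `stubs/Cfsg/Agent/GH/PLAN2.md`. -/

set_option autoImplicit false
set_option linter.unusedSectionVars false

namespace Cfsg.Agent.GH

open Cfsg.Agent.Inv.Fz Cfsg.Agent.NE Subgroup
open scoped commutatorElement

variable {G : Type*} [Group G] [Finite G] {S R K N Θ Θ' H : Subgroup G} {x s g v a b a' b' y : G} {n n' : ℕ}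

/-- An element normalising `⟨a⟩` centralises `j` modulo `z`. -/
theorem yo_comm_j (h : DQ Θ a b n) (h2 : 2 ≤ n) (hg : g ∈ normalizer (zpowers a : Set G)) :
    ⁅jj a n, g⁆ ∈ zpowers (zz a n) := by
  obtain ⟨t, ht⟩ := DihA.act_all h.ord hg
  have e : ⁅jj a n, g⁆ = jj a n * (g * jj a n * g⁻¹)⁻¹ := by rw [commutatorElement_def]; group
  rw [e, ht _ (DihA.jA h)]
  rcases Nat.even_or_odd t with k | k
  · rw [(DihA.j_pow h h2 t).1 k, mul_inv_cancel]
    exact one_mem _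
  · rw [(DihA.j_pow h h2 t).2 k, inv_inv, DihA.jj2 h h2]
    exact mem_zpowers _

theorem Ctx.noYO (c : Ctx G) (hY : ∀ Θ a b n y, ¬ YC c.S Θ a b n y) (h : TQ c.S R x s Θ a b n) (hy : YO c.S Θ a b n y) :
    False := by
  have q := h.dq
  obtain ⟨z1, z2, -⟩ := q.zz_ne
  have jΘ : jj a n ∈ Θ := DihA.aL q (DihA.jA q)
  have j2 := DihA.jj2 q h.two
  have zΘ : zz a n ∈ Θ := j2 ▸ mul_mem jΘ jΘ
  have zS := hy.le zΘ
  have zc : Cz (zz a n) c.S := (hy.z1 _ zS).2 (mem_zpowers _)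
  have j'Θ : y * jj a n * y⁻¹ ∈ cj y Θ := conj_mem_cj.2 jΘ
  have jj' := hy.jc _ j'Θ
  have j'2 : y * jj a n * y⁻¹ * (y * jj a n * y⁻¹) = zz a n := by
    rw [← conj_mul', j2, ← zc y hy.mem, mul_inv_cancel_right]
  have j'S : y * jj a n * y⁻¹ ∈ c.S := mul_mem (mul_mem hy.mem (hy.le jΘ)) (inv_mem hy.mem)
  have h1 := hy.z1
  have h2 := hy.z2
  have h3 := hy.z3
  have hd := hy.disj
  generalize y * jj a n * y⁻¹ = j' at *
  generalize jj a n = j at *
  generalize zz a n = z at *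
  have kS : j * j' ∈ c.S := mul_mem (hy.le jΘ) j'S
  have k2 : j * j' * (j * j') = 1 := by
    rw [mul_assoc, ← mul_assoc j', ← jj', mul_assoc, j'2, ← mul_assoc, j2, z2]
  have kz : j * j' ∉ zpowers z := fun k => by
    have m : j' ∈ Θ ⊓ cj y Θ := ⟨by
      have := mul_mem (inv_mem jΘ) (zpowers_le.2 zΘ k)
      rwa [inv_mul_cancel_left] at this, j'Θ⟩
    rw [hd, UPL.mem_zp2 z2] at m
    rcases m with m | m <;> rw [m] at j'2
    · exact z1 (by rw [← j'2, mul_one])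
    · exact z1 (j'2.symm.trans z2)
  obtain ⟨el, mem⟩ := UPL.four z2 k2 (zc _ kS) z1 (fun e => kz (e ▸ one_mem _))
    (fun e => kz (e ▸ mem_zpowers _))
  set Z := (closure {z, j * j'} : Subgroup G) with hZ
  have zZ : z ∈ Z := subset_closure (by simp)
  have kZ : j * j' ∈ Z := subset_closure (by simp)
  have ZS : Z ≤ c.S := (closure_le _).2 (by rintro _ (rfl | rfl); exacts [zS, kS])
  have nZ : c.S ≤ normalizer (Z : Set G) := norm_of_comm fun w hw u hu =>
    TriA.cinv.1 (zpowers_le.2 zZ ((h2 u (ZS hu)).2 hu w hw))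
  have jZ : Cz j Z := fun u hu => by
    rcases (mem u).1 hu with rfl | rfl | rfl | rfl
    · simp
    · exact (zc j (hy.le jΘ)).symm
    · rw [mul_assoc, ← jj']
    · rw [← mul_assoc, ← zc j (hy.le jΘ), mul_assoc, mul_assoc, mul_assoc, ← jj']
  -- normal elementary subgroups lie in `Z`
  have le : ∀ E ≤ c.S, c.S ≤ normalizer (E : Set G) → (∀ e ∈ E, e * e = 1) → E ≤ Z := by
    intro E hE hn he
    by_contra k
    obtain ⟨e, eE, eZ, -, hc⟩ := exists_central_mod c.pS nZ hE hn k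
    have m := (h3 e (hE eE)).1 fun w hw => TriA.cinv.1 (hc w hw)
    have m2 : e ∈ ext Z j := (closure_le (ext Z j)).2 (by
      rintro _ (rfl | rfl)
      · exact self_mem_ext _ _
      · have := mul_mem (inv_mem (self_mem_ext Z j)) (le_ext Z j kZ)
        rwa [inv_mul_cancel_left] at this) m
    rcases (mem_ext (UPL.norm_of_cz jZ) (j2 ▸ zZ)).1 m2 with m | m
    · exact eZ m
    · have e1 := el.sq _ m
      have e2 : j * e = e * j := by
        have := jZ _ m
        rw [mul_assoc] at this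
        exact mul_left_cancel this
      rw [mul_assoc, ← mul_assoc e, ← e2, mul_assoc, he e eE, mul_one, j2] at e1
      exact z1 e1
  have h8 : ∀ E ≤ c.S, c.S ≤ normalizer (E : Set G) → (∀ e ∈ E, e * e = 1) → Nat.card E ≤ 4 :=
    fun E hE hn he => el.card ▸ card_le_of_le (le E hE hn he)
  have uz : ∀ w ∈ c.S, Cz w c.S → w ≠ 1 → w = z := fun w hw hc w1 =>
    ((UPL.mem_zp2 z2).1 ((h1 w hw).1 hc)).resolve_left w1
  obtain ⟨R', x', s', bas, mv⟩ := c.exists_move_z zS z1 zc fun m hm _ =>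
    comm_of_conj_eq (uz _ ((conj_mem_norm hm).2 zS) (zc.conj hm) fun e => z1 (by
      rwa [mul_inv_eq_one, mul_eq_left] at e))
  rcases bas.kind with ix | h4 | h8'
  · have nR := ix.norm bas.crit.le bas.mem
    obtain ⟨W, mW, -, nW⟩ := UPL.exists_omz (bot_le : ⊥ ≤ R') fun g _ => UPL.nbot g
    have zR : z ∈ R' := bas.crit.cent z zS (UPL.cz_mono zc bas.crit.le)
    have zW : z ∈ W := (mW z).2 ⟨zR, z2 ▸ one_mem _, fun r hr => UPL.cmb.2 (zc r (bas.crit.le hr)).symm⟩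
    have uZ : x' * z * x'⁻¹ ∈ Z := le W (fun e he => bas.crit.le ((mW e).1 he).1)
      (fun w hw => nW w (nR hw) (UPL.nbot w)) (fun e he => ((mW e).1 he).2.1)
      ((conj_mem_norm (nW x' bas.tri.xn (UPL.nbot x'))).2 zW)
    have ck : IsConj (j * j') (z * (j * j')) := by
      have : ¬ Cz (j * j') c.S := fun k => kz ((h1 _ kS).1 k)
      simp only [Cz, not_forall] at this
      obtain ⟨w, hw, ne⟩ := this
      rcases (UPL.mem_zp2 z2).1 ((h2 _ kS).2 kZ w hw) with e | e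
      · exact absurd (UPL.cm1.1 e) ne
      · refine isConj_iff.2 ⟨w, ?_⟩
        have e2 : w * (j * j') * w⁻¹ = ⁅j * j', w⁆⁻¹ * (j * j') := by
          rw [commutatorElement_def]; group
        rw [e2, e, inv_of_sq z2]
    have cz : IsConj z (j * j') := by
      have k : IsConj z (x' * z * x'⁻¹) := isConj_iff.2 ⟨x', rfl⟩
      rcases (mem _).1 uZ with e | e | e | e
      · exact absurd (by rwa [mul_inv_eq_one, mul_eq_left] at e) z1
      · exact absurd (comm_of_conj_eq e) mv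
      · exact e ▸ k
      · exact (e ▸ k).trans ck.symm
    have all : ∀ u ∈ Z, u ≠ 1 → IsConj z u := fun u hu u1 => by
      rcases (mem u).1 hu with rfl | rfl | rfl | rfl
      exacts [absurd rfl u1, IsConj.refl _, cz, cz.trans ck]
    exact c.not_b8 el ZS nZ (fun u hu v hv u1 v1 => (all u hu u1).symm.trans (all v hv v1)) h8
  · obtain ⟨Θ₀, a₀, b₀, n₀, td, xt | ⟨n2, y₀, yx⟩⟩ := c.goodD bas.toT2 h4
    · have q₀ := td.dq
      rcases Nat.lt_or_ge n₀ 2 with n1 | n2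
      · obtain rfl : n₀ = 1 := by have := q₀.pos; omega
        have e : supp R' x' = Θ₀ := by rw [td.eq, q₀.eq]; simp [zz]
        exact c.not_b8 h4 (e ▸ xt.le) (e ▸ xt.norm)
          (fun u hu v hv u1 v1 => bas.tri.four_conj h4 hu hv u1 v1) h8
      · have jS : jj a₀ n₀ ∈ c.S := xt.le (DihA.aL q₀ (DihA.jA q₀))
        have e := DihA.jj2 q₀ n2
        have ez : zz a₀ n₀ = z := uz _ (e ▸ mul_mem jS jS) (xt.comm q₀ (one_mem _)).2 q₀.zz_ne.1
        have m := (h2 _ jS).1 fun w hw => ez ▸ yo_comm_j q₀ n2 (xt.na hw)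
        exact q₀.zz_ne.1 (e.symm.trans (el.sq _ m))
    · exact hY Θ₀ a₀ b₀ n₀ y₀ ⟨⟨R', x', s', Or.inl td⟩, n2, yx⟩
  · exact mv (bas.toT2.q8_central h8' zS zc)

end Cfsg.Agent.GH
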